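import Mathlib
import Cfsg.Agent.Lib.CT.FrobRec
import Cfsg.Agent.Lib.CT.LinChar
import Cfsg.Agent.Lib.CT.Orth
import Cfsg.Agent.Lib.CT.Wedderburn
import Cfsg.Agent.S0177

/-!
Linear characters of a subgroup `P` of prime order, the action of the normalizer of `P` on
them, and the inner products of the functions induced from `P` (for `P` a TI subgroup).
-/

set_option autoImplicit false

namespace Cfsg.Agent.Lib.Helper17.ExcOrb

open Cfsg Subgroup MulAction
open Cfsg.Agent.Lib.CT.FrobRec Cfsg.Agent.Lib.CT.LinChar Cfsg.Agent.Lib.CT.Orth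
open Cfsg.Agent.Lib.CT.Wedderburn
open scoped ComplexConjugate

universe u

section dual

variable {A : Type u} [Group A]

/-- The complex-valued function of a homomorphism to the units of `ℂ`. -/
def cf (μ : A →* ℂˣ) : A → ℂ := fun y => ((μ y : ℂˣ) : ℂ)

theorem cf_apply (μ : A →* ℂˣ) (y : A) : cf μ y = ((μ y : ℂˣ) : ℂ) := rfl

theorem cf_one_apply (y : A) : cf (1 : A →* ℂˣ) y = 1 := by simp [cf]

theorem cf_apply_one (μ : A →* ℂˣ) : cf μ 1 = 1 := by simp [cf]

theorem cf_injective : Function.Injective (cf : (A →* ℂˣ) → A → ℂ) := by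
  intro μ ν h
  apply MonoidHom.ext
  intro y
  apply Units.ext
  exact congrFun h y

theorem cf_isIrr (μ : A →* ℂˣ) : IsIrrCharacter A (cf μ) := isIrrCharacter_of_hom μ

theorem cf_isChar (μ : A →* ℂˣ) : IsCharacter A (cf μ) := isCharacter_of_hom μ

/-- The irreducible character of a homomorphism. -/
def irrOfHom (μ : A →* ℂˣ) : IrrCharacter A := ⟨cf μ, cf_isIrr μ⟩

theorem irrOfHom_injective : Function.Injective (irrOfHom : (A →* ℂˣ) → IrrCharacter A) := by
  intro μ ν h
  exact cf_injective (congrArg Subtype.val h)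

theorem irrOfHom_surjective [Finite A] (hcomm : ∀ a b : A, a * b = b * a) :
    Function.Surjective (irrOfHom : (A →* ℂˣ) → IrrCharacter A) := by
  intro χ
  obtain ⟨f, hf⟩ := exists_hom_of_isCharacter (χ : A → ℂ) (isCharacter_of_irr χ.2)
    (Cfsg.Agent.S0177.irr_apply_one_of_comm hcomm χ.2)
  exact ⟨f, Subtype.ext (funext fun y => (hf y).symm)⟩

theorem irrOfHom_bijective [Finite A] (hcomm : ∀ a b : A, a * b = b * a) :
    Function.Bijective (irrOfHom : (A →* ℂˣ) → IrrCharacter A) :=
  ⟨irrOfHom_injective, irrOfHom_surjective hcomm⟩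

theorem finite_hom [Finite A] : Finite (A →* ℂˣ) := by
  haveI := finite_irrCharacter A
  exact Finite.of_injective _ (irrOfHom_injective (A := A))

theorem classInner_cf [Fintype A] (μ ν : A →* ℂˣ) :
    classInner (cf μ) (cf ν) = if μ = ν then 1 else 0 := by
  have h : classInner (cf μ) (cf ν) = if irrOfHom μ = irrOfHom ν then 1 else 0 :=
    irr_orthonormal (irrOfHom μ) (irrOfHom ν)
  rw [h]
  by_cases hμν : μ = ν
  · rw [if_pos hμν, if_pos (by rw [hμν])]
  · rw [if_neg hμν, if_neg (fun h' => hμν (irrOfHom_injective h'))]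

theorem classInner_sub_right [Fintype A] (φ ψ₁ ψ₂ : A → ℂ) :
    classInner φ (ψ₁ - ψ₂) = classInner φ ψ₁ - classInner φ ψ₂ := by
  unfold classInner
  rw [← mul_sub, ← Finset.sum_sub_distrib]
  congr 1
  apply Finset.sum_congr rfl
  intro g _
  rw [Pi.sub_apply, map_sub, mul_sub]

/-- Fourier expansion on a finite commutative group. -/
theorem expand [Fintype A] [Fintype (A →* ℂˣ)] (hcomm : ∀ a b : A, a * b = b * a)
    (f : A → ℂ) (y : A) :
    f y = ∑ μ : A →* ℂˣ, classInner f (cf μ) * cf μ y := by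
  haveI := finite_irrCharacter A
  haveI : Fintype (IrrCharacter A) := Fintype.ofFinite _
  have hf : IsClassFunction A f := by
    intro g h
    rw [hcomm h g, mul_inv_cancel_right]
  rw [classFunction_expand_sum f hf y]
  symm
  exact Fintype.sum_bijective irrOfHom (irrOfHom_bijective hcomm) _ _ (fun μ => rfl)

theorem sum_cf_eq_zero [Fintype A] [Fintype (A →* ℂˣ)] (hcomm : ∀ a b : A, a * b = b * a)
    (y : A) (hy : y ≠ 1) : ∑ μ : A →* ℂˣ, cf μ y = 0 := by
  haveI := finite_irrCharacter A
  haveI : Fintype (IrrCharacter A) := Fintype.ofFinite _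
  have h := sum_apply_one_mul_of_ne_sum y hy
  rw [← h]
  apply Fintype.sum_bijective irrOfHom (irrOfHom_bijective hcomm)
  intro μ
  show cf μ y = cf μ 1 * cf μ y
  rw [cf_apply_one, one_mul]

theorem card_hom [Finite A] (hcomm : ∀ a b : A, a * b = b * a) :
    Nat.card (A →* ℂˣ) = Nat.card A := by
  haveI := Fintype.ofFinite A
  haveI := finite_irrCharacter A
  haveI : Fintype (IrrCharacter A) := Fintype.ofFinite _
  rw [Nat.card_congr (Equiv.ofBijective _ (irrOfHom_bijective hcomm))]
  have h := sum_apply_one_sq_sum (G := A)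
  have h1 : ∀ χ : IrrCharacter A, (χ : A → ℂ) 1 ^ 2 = 1 := by
    intro χ
    rw [Cfsg.Agent.S0177.irr_apply_one_of_comm hcomm χ.2, one_pow]
  rw [Finset.sum_congr rfl (fun χ _ => h1 χ)] at h
  simp only [Finset.sum_const, Finset.card_univ, nsmul_eq_mul, mul_one] at h
  rw [Nat.card_eq_fintype_card]
  exact_mod_cast h

end dual

section group

variable {G : Type u} [Group G] (P : Subgroup G)

/-- Conjugation by an element of the normalizer as an endomorphism of `P`: `y ↦ g⁻¹ y g`. -/
def conjP (g : normalizer (P : Set G)) : P →* P where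
  toFun y := ⟨(g : G)⁻¹ * y * g, (mem_normalizer_iff''.mp g.2 y).mp y.2⟩
  map_one' := Subtype.ext (by simp)
  map_mul' a b := Subtype.ext (by
    show (g : G)⁻¹ * ((a : G) * (b : G)) * g = (g : G)⁻¹ * a * g * ((g : G)⁻¹ * b * g)
    group)

theorem conjP_coe (g : normalizer (P : Set G)) (y : P) :
    ((conjP P g y : P) : G) = (g : G)⁻¹ * y * g := rfl

theorem conjP_one : conjP P 1 = MonoidHom.id P := by
  apply MonoidHom.ext
  intro y
  apply Subtype.ext
  rw [conjP_coe]
  simp

theorem conjP_mul (g h : normalizer (P : Set G)) :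
    conjP P (g * h) = (conjP P h).comp (conjP P g) := by
  apply MonoidHom.ext
  intro y
  apply Subtype.ext
  rw [MonoidHom.comp_apply, conjP_coe, conjP_coe, conjP_coe, Subgroup.coe_mul]
  group

/-- The action of the normalizer on the dual group of `P`. -/
def dualAction : MulAction (normalizer (P : Set G)) (P →* ℂˣ) where
  smul g μ := μ.comp (conjP P g)
  one_smul μ := by
    show μ.comp (conjP P 1) = μ
    rw [conjP_one]
    exact MonoidHom.comp_id μ
  mul_smul g h μ := by
    show μ.comp (conjP P (g * h)) = (μ.comp (conjP P h)).comp (conjP P g)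
    rw [conjP_mul]
    exact (MonoidHom.comp_assoc _ _ _).symm

attribute [local instance] dualAction

theorem smul_def (g : normalizer (P : Set G)) (μ : P →* ℂˣ) : g • μ = μ.comp (conjP P g) := rfl

theorem cf_smul (g : normalizer (P : Set G)) (μ : P →* ℂˣ) :
    cf (g • μ) = fun y => cf μ (conjP P g y) := rfl

theorem smul_one_hom (g : normalizer (P : Set G)) : g • (1 : P →* ℂˣ) = 1 := by
  rw [smul_def]
  exact MonoidHom.one_comp _

theorem smul_ne_one (g : normalizer (P : Set G)) {μ : P →* ℂˣ} (hμ : μ ≠ 1) : g • μ ≠ 1 := by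
  intro h
  apply hμ
  have h1 : g⁻¹ • (g • μ) = g⁻¹ • (1 : P →* ℂˣ) := by rw [h]
  rwa [inv_smul_smul, smul_one_hom] at h1

theorem conj_zpow' (g y : G) (k : ℤ) : (g⁻¹ * y * g) ^ k = g⁻¹ * y ^ k * g := by
  have h := conj_zpow (a := g⁻¹) (b := y) (i := k)
  rwa [inv_inv] at h

section prime

variable [Finite G] {p : ℕ} (hp : p.Prime) (hP : Nat.card P = p)
include hp hP

theorem zpowers_eq_of_card_prime (y : G) (hy : y ∈ P) (hy1 : y ≠ 1) : zpowers y = P := by
  apply Subgroup.eq_of_le_of_card_ge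
  · rw [zpowers_le]; exact hy
  · rw [Nat.card_zpowers, hP]
    have h1 : orderOf y ∣ p := by
      rw [← hP]
      have := orderOf_dvd_natCard (⟨y, hy⟩ : P)
      rwa [Subgroup.orderOf_mk] at this
    rcases (Nat.dvd_prime hp).mp h1 with h | h
    · exact absurd (orderOf_eq_one_iff.mp h) hy1
    · exact h.ge

theorem comm_of_card_prime (a b : P) : a * b = b * a := by
  haveI : Fact p.Prime := ⟨hp⟩
  have hcyc : IsCyclic P := isCyclic_of_prime_card hP
  obtain ⟨g, hg⟩ := hcyc.exists_generator
  obtain ⟨i, hi⟩ := Subgroup.mem_zpowers_iff.mp (hg a)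
  obtain ⟨j, hj⟩ := Subgroup.mem_zpowers_iff.mp (hg b)
  rw [← hi, ← hj]
  exact (Commute.zpow_zpow_self g i j).eq

/-- A subgroup of prime order is a TI subgroup. -/
theorem mem_normalizer_of_conj_mem (g y : G) (hy : y ∈ P) (hy1 : y ≠ 1)
    (h : g⁻¹ * y * g ∈ P) : g ∈ normalizer (P : Set G) := by
  have h1 := zpowers_eq_of_card_prime P hp hP y hy hy1
  have hne : g⁻¹ * y * g ≠ 1 := by
    intro h0
    apply hy1
    have h3 : y = g * (g⁻¹ * y * g) * g⁻¹ := by group
    rw [h3, h0]
    group
  have h2 := zpowers_eq_of_card_prime P hp hP _ h hne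
  rw [mem_normalizer_iff'']
  intro z
  constructor
  · intro hz
    rw [← h1] at hz
    obtain ⟨k, rfl⟩ := mem_zpowers_iff.mp hz
    rw [← h2]
    exact mem_zpowers_iff.mpr ⟨k, conj_zpow' g y k⟩
  · intro hz
    rw [← h2] at hz
    obtain ⟨k, hk⟩ := mem_zpowers_iff.mp hz
    rw [← h1]
    refine mem_zpowers_iff.mpr ⟨k, ?_⟩
    rw [conj_zpow'] at hk
    have h3 : y ^ k = g * (g⁻¹ * y ^ k * g) * g⁻¹ := by group
    rw [h3, hk]
    group

theorem hom_injective {μ : P →* ℂˣ} (hμ : μ ≠ 1) : Function.Injective μ := by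
  rw [← MonoidHom.ker_eq_bot_iff]
  have h1 : Nat.card μ.ker ∣ p := by
    rw [← hP]
    exact Subgroup.card_subgroup_dvd_card _
  rcases (Nat.dvd_prime hp).mp h1 with h | h
  · exact Subgroup.eq_bot_of_card_eq _ h
  · exfalso
    apply hμ
    have htop : μ.ker = ⊤ := Subgroup.eq_top_of_card_eq _ (by rw [h, hP])
    apply MonoidHom.ext
    intro y
    exact MonoidHom.mem_ker.mp (by rw [htop]; exact Subgroup.mem_top y)

theorem smul_eq_self_iff (hC : centralizer (P : Set G) ≤ P) {μ : P →* ℂˣ} (hμ : μ ≠ 1)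
    (g : normalizer (P : Set G)) : g • μ = μ ↔ (g : G) ∈ P := by
  constructor
  · intro h
    apply hC
    rw [mem_centralizer_iff]
    intro y hy
    have hy' : y ∈ P := hy
    have h1 : μ (conjP P g ⟨y, hy'⟩) = μ ⟨y, hy'⟩ :=
      congrArg (fun ν : P →* ℂˣ => ν ⟨y, hy'⟩) h
    have h2 := hom_injective P hp hP hμ h1
    have h3 : (g : G)⁻¹ * y * g = y := congrArg Subtype.val h2
    calc y * (g : G) = g * ((g : G)⁻¹ * y * g) := by group
      _ = g * y := by rw [h3]
  · intro hg
    apply MonoidHom.ext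
    intro y
    show μ (conjP P g y) = μ y
    have h1 : conjP P g y = (⟨(g : G), hg⟩ : P)⁻¹ * y * ⟨(g : G), hg⟩ := Subtype.ext rfl
    rw [h1, map_mul, map_mul, map_inv, mul_comm, mul_inv_cancel_left]

theorem card_smul_eq (hC : centralizer (P : Set G) ≤ P) {μ : P →* ℂˣ} (hμ : μ ≠ 1)
    (g₀ : normalizer (P : Set G)) :
    Nat.card {g : normalizer (P : Set G) // g • μ = g₀ • μ} = p := by
  rw [← hP]
  apply Nat.card_congr
  exact
    { toFun := fun g => ⟨((g₀⁻¹ * g.1 : normalizer (P : Set G)) : G), by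
        rw [← smul_eq_self_iff P hp hP hC hμ, mul_smul, g.2, inv_smul_smul]⟩
      invFun := fun y => ⟨g₀ * ⟨(y : G), le_normalizer y.2⟩, by
        rw [mul_smul]
        congr 1
        exact (smul_eq_self_iff P hp hP hC hμ _).mpr y.2⟩
      left_inv := fun g => by
        apply Subtype.ext
        apply Subtype.ext
        simp
      right_inv := fun y => by
        apply Subtype.ext
        simp }

theorem card_orbit (hC : centralizer (P : Set G) ≤ P) {e : ℕ}
    (hN : Nat.card (normalizer (P : Set G)) = p * e) {μ : P →* ℂˣ} (hμ : μ ≠ 1) :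
    Nat.card (orbit (normalizer (P : Set G)) μ) = e := by
  have h1 := index_stabilizer (normalizer (P : Set G)) μ
  rw [← Nat.card_coe_set_eq] at h1
  have h2 := (stabilizer (normalizer (P : Set G)) μ).card_mul_index
  have h3 : Nat.card (stabilizer (normalizer (P : Set G)) μ) = p := by
    have h4 := card_smul_eq P hp hP hC hμ 1
    rw [← h4]
    apply Nat.card_congr
    apply Equiv.subtypeEquivRight
    intro g
    rw [mem_stabilizer_iff, one_smul]
  rw [h3, h1, hN] at h2
  exact Nat.eq_of_mul_eq_mul_left hp.pos h2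

/-- Orbit representatives for the nontrivial linear characters of `P`. -/
theorem exists_reps (hC : centralizer (P : Set G) ≤ P) {e : ℕ}
    (hN : Nat.card (normalizer (P : Set G)) = p * e) :
    ∃ (n : ℕ) (r : Fin n → (P →* ℂˣ)), n * e + 1 = p ∧ (∀ i, r i ≠ 1) ∧
      (∀ i j, r i ∈ orbit (normalizer (P : Set G)) (r j) → i = j) ∧
      ∀ μ : P →* ℂˣ, μ ≠ 1 → ∃ i, μ ∈ orbit (normalizer (P : Set G)) (r i) := by
  classical
  haveI : Finite (P →* ℂˣ) := finite_hom
  haveI : Fintype (orbitRel.Quotient (normalizer (P : Set G)) (P →* ℂˣ)) := Fintype.ofFinite _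
  set ω₀ : orbitRel.Quotient (normalizer (P : Set G)) (P →* ℂˣ) := Quotient.mk'' 1 with hω₀
  have hout : ∀ ω : orbitRel.Quotient (normalizer (P : Set G)) (P →* ℂˣ),
      (Quotient.mk'' (Quotient.out ω) : orbitRel.Quotient (normalizer (P : Set G)) (P →* ℂˣ))
        = ω := fun ω => Quotient.out_eq' ω
  have hone : ∀ μ : P →* ℂˣ,
      (Quotient.mk'' μ : orbitRel.Quotient (normalizer (P : Set G)) (P →* ℂˣ)) = ω₀ → μ = 1 := by
    intro μ h
    have h1 : μ ∈ orbit (normalizer (P : Set G)) (1 : P →* ℂˣ) :=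
      (orbitRel_apply).mp (Quotient.exact' h)
    obtain ⟨g, hg⟩ := h1
    rw [← hg]
    exact smul_one_hom P g
  refine ⟨(Finset.univ.erase ω₀).card,
    fun i => Quotient.out ((Finset.univ.erase ω₀).equivFin.symm i).1, ?_, ?_, ?_, ?_⟩
  · have hcard := card_hom (comm_of_card_prime P hp hP)
    rw [hP, Nat.card_congr (selfEquivSigmaOrbits (normalizer (P : Set G)) (P →* ℂˣ)),
      Nat.card_sigma, ← Finset.add_sum_erase Finset.univ _ (Finset.mem_univ ω₀)] at hcard
    have h1 : Nat.card (orbit (normalizer (P : Set G)) (Quotient.out ω₀)) = 1 := by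
      have h2 : Quotient.out ω₀ = 1 := hone _ (hout ω₀)
      rw [h2]
      have horb : orbit (normalizer (P : Set G)) (1 : P →* ℂˣ) = {1} := by
        ext μ
        simp only [mem_orbit_iff, Set.mem_singleton_iff]
        constructor
        · rintro ⟨g, rfl⟩
          exact smul_one_hom P g
        · rintro rfl
          exact ⟨1, one_smul _ _⟩
      rw [horb]
      simp
    have h2 : ∀ ω ∈ Finset.univ.erase ω₀,
        Nat.card (orbit (normalizer (P : Set G)) (Quotient.out ω)) = e := by
      intro ω hω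
      apply card_orbit P hp hP hC hN
      intro h
      apply (Finset.mem_erase.mp hω).1
      rw [← hout ω, h]
    rw [h1, Finset.sum_congr rfl h2, Finset.sum_const, smul_eq_mul] at hcard
    omega
  · intro i h
    have h' : Quotient.out ((Finset.univ.erase ω₀).equivFin.symm i).1 = 1 := h
    have hmem := ((Finset.univ.erase ω₀).equivFin.symm i).2
    apply (Finset.mem_erase.mp hmem).1
    rw [← hout ((Finset.univ.erase ω₀).equivFin.symm i).1, h']
  · intro i j hij
    have h1 : (Quotient.mk'' (Quotient.out ((Finset.univ.erase ω₀).equivFin.symm i).1) :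
        orbitRel.Quotient (normalizer (P : Set G)) (P →* ℂˣ))
        = Quotient.mk'' (Quotient.out ((Finset.univ.erase ω₀).equivFin.symm j).1) :=
      Quotient.sound' ((orbitRel_apply).mpr hij)
    rw [hout, hout] at h1
    exact (Finset.univ.erase ω₀).equivFin.symm.injective (Subtype.ext h1)
  · intro μ hμ
    have hmem : (Quotient.mk'' μ : orbitRel.Quotient (normalizer (P : Set G)) (P →* ℂˣ))
        ∈ Finset.univ.erase ω₀ :=
      Finset.mem_erase.mpr ⟨fun h => hμ (hone μ h), Finset.mem_univ _⟩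
    refine ⟨(Finset.univ.erase ω₀).equivFin ⟨_, hmem⟩, ?_⟩
    simp only [Equiv.symm_apply_apply]
    apply (orbitRel_apply).mp
    apply Quotient.exact'
    exact (hout _).symm

end prime

end group

end Cfsg.Agent.Lib.Helper17.ExcOrb
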