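import Mathlib
import Cfsg.Agent.Lib.Helper17.ExcOrb

/-!
Inner products of functions induced from a TI subgroup `P` of prime order, in terms of the
action of the normalizer on the linear characters of `P`.
-/

set_option autoImplicit false

namespace Cfsg.Agent.Lib.Helper17.ExcInd

open Cfsg Subgroup MulAction
open Cfsg.Agent.Lib.CT.FrobRec Cfsg.Agent.Lib.CT.LinChar Cfsg.Agent.Lib.CT.Orth
open Cfsg.Agent.Lib.CT.Wedderburn Cfsg.Agent.Lib.Helper17.ExcOrb
open scoped ComplexConjugate

attribute [local instance] Cfsg.Agent.Lib.Helper17.ExcOrb.dualAction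

universe u

variable {G : Type u} [Group G] [Fintype G] (P : Subgroup G) [Fintype P]
  [Fintype (normalizer (P : Set G))]

/-- Value of an induced function on a nonidentity element of a TI subgroup. -/
theorem indFun_apply_of_mem
    (hTI : ∀ g y : G, y ∈ P → y ≠ 1 → g⁻¹ * y * g ∈ P → g ∈ normalizer (P : Set G))
    (f : P → ℂ) (y : P) (hy : y ≠ 1) :
    indFun P f (y : G) =
      (Nat.card P : ℂ)⁻¹ * ∑ g : normalizer (P : Set G), f (conjP P g y) := by
  classical
  rw [indFun_apply]
  congr 1
  have hy1 : (y : G) ≠ 1 := fun h => hy (Subtype.ext h)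
  have h1 : ∑ x : G, extendByZero P f (x⁻¹ * (y : G) * x) =
      ∑ x ∈ Finset.univ.filter (fun x : G => x ∈ normalizer (P : Set G)),
        extendByZero P f (x⁻¹ * (y : G) * x) := by
    symm
    apply Finset.sum_filter_of_ne
    intro x _ hx
    exact hTI x y y.2 hy1 (extendByZero_ne_zero_mem P f hx)
  rw [h1, Finset.sum_subtype (Finset.univ.filter (fun x : G => x ∈ normalizer (P : Set G)))
    (p := fun x => x ∈ normalizer (P : Set G)) (by simp)]
  apply Finset.sum_congr rfl
  intro g _
  exact extendByZero_apply_of_mem P f (conjP P g y).2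

/-- Inner product of two functions induced from a TI subgroup, the first vanishing at `1`. -/
theorem classInner_indFun_indFun
    (hTI : ∀ g y : G, y ∈ P → y ≠ 1 → g⁻¹ * y * g ∈ P → g ∈ normalizer (P : Set G))
    (f f' : P → ℂ) (hf : f 1 = 0) :
    classInner (indFun P f) (indFun P f') =
      (Nat.card P : ℂ)⁻¹ *
        ∑ g : normalizer (P : Set G), classInner f (fun y => f' (conjP P g y)) := by
  rw [frobenius_reciprocity P f (indFun P f') (indFun_isClassFunction P f')]
  unfold classInner
  have h1 : ∀ y : P, f y * conj (indFun P f' (y : G)) =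
      f y * conj ((Nat.card P : ℂ)⁻¹ * ∑ g : normalizer (P : Set G), f' (conjP P g y)) := by
    intro y
    by_cases hy : y = 1
    · rw [hy, hf, zero_mul, zero_mul]
    · rw [indFun_apply_of_mem P hTI f' y hy]
  rw [Finset.sum_congr rfl (fun y _ => h1 y)]
  simp only [map_mul, map_sum, map_inv₀, Complex.conj_natCast, Finset.mul_sum]
  rw [Finset.sum_comm]
  apply Finset.sum_congr rfl
  intro g _
  apply Finset.sum_congr rfl
  intro y _
  ring

/-- The number of elements of the normalizer carrying `μ` to `ν`. -/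
noncomputable def cnt (ν μ : P →* ℂˣ) : ℕ :=
  Nat.card {g : normalizer (P : Set G) // g • μ = ν}

theorem sum_classInner_smul (ν μ : P →* ℂˣ) :
    ∑ g : normalizer (P : Set G), classInner (cf ν) (fun y => cf μ (conjP P g y))
      = (cnt P ν μ : ℂ) := by
  classical
  have h1 : ∀ g : normalizer (P : Set G),
      classInner (cf ν) (fun y => cf μ (conjP P g y)) = if g • μ = ν then 1 else 0 := by
    intro g
    have h2 := classInner_cf ν (g • μ)
    rw [cf_smul] at h2
    rw [h2]
    by_cases h : g • μ = ν
    · rw [if_pos h, if_pos h.symm]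
    · rw [if_neg h, if_neg (fun h' => h h'.symm)]
  rw [Finset.sum_congr rfl (fun g _ => h1 g), Finset.sum_boole, cnt, Nat.card_eq_fintype_card,
    Fintype.card_subtype]

/-- The Gram matrix of differences of induced linear characters. -/
theorem gram
    (hTI : ∀ g y : G, y ∈ P → y ≠ 1 → g⁻¹ * y * g ∈ P → g ∈ normalizer (P : Set G))
    (α β μ ν : P →* ℂˣ) :
    classInner (indFun P (cf α - cf β)) (indFun P (cf μ - cf ν)) =
      (Nat.card P : ℂ)⁻¹ *
        ((cnt P α μ : ℂ) - (cnt P α ν : ℂ) - (cnt P β μ : ℂ) + (cnt P β ν : ℂ)) := by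
  rw [classInner_indFun_indFun P hTI _ _ (by rw [Pi.sub_apply, cf_apply_one, cf_apply_one,
    sub_self])]
  congr 1
  have h1 : ∀ g : normalizer (P : Set G),
      classInner (cf α - cf β) (fun y => (cf μ - cf ν) (conjP P g y)) =
        classInner (cf α) (fun y => cf μ (conjP P g y))
          - classInner (cf α) (fun y => cf ν (conjP P g y))
          - classInner (cf β) (fun y => cf μ (conjP P g y))
          + classInner (cf β) (fun y => cf ν (conjP P g y)) := by
    intro g
    have e : (fun y => (cf μ - cf ν) (conjP P g y))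
        = (fun y => cf μ (conjP P g y)) - (fun y => cf ν (conjP P g y)) := rfl
    rw [e, classInner_sub_left, classInner_sub_right, classInner_sub_right]
    ring
  rw [Finset.sum_congr rfl (fun g _ => h1 g)]
  simp only [Finset.sum_add_distrib, Finset.sum_sub_distrib, sum_classInner_smul]

omit [Fintype G] [Fintype P] [Fintype (normalizer (P : Set G))] in
theorem cnt_eq_zero (ν μ : P →* ℂˣ) (h : ν ∉ orbit (normalizer (P : Set G)) μ) :
    cnt P ν μ = 0 := by
  haveI : IsEmpty {g : normalizer (P : Set G) // g • μ = ν} := ⟨fun g => h ⟨g.1, g.2⟩⟩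
  exact Nat.card_of_isEmpty

omit [Fintype G] [Fintype P] [Fintype (normalizer (P : Set G))] in
theorem cnt_one_one : cnt P (1 : P →* ℂˣ) 1 = Nat.card (normalizer (P : Set G)) := by
  unfold cnt
  exact Nat.card_congr (Equiv.subtypeUnivEquiv (fun g => smul_one_hom P g))

omit [Fintype P] [Fintype (normalizer (P : Set G))] in
theorem cnt_smul {p : ℕ} (hp : p.Prime) (hP : Nat.card P = p)
    (hC : centralizer (P : Set G) ≤ P) {μ : P →* ℂˣ} (hμ : μ ≠ 1)
    (g₀ : normalizer (P : Set G)) : cnt P (g₀ • μ) μ = p :=
  card_smul_eq P hp hP hC hμ g₀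

omit [Fintype P] [Fintype (normalizer (P : Set G))] in
theorem cnt_self {p : ℕ} (hp : p.Prime) (hP : Nat.card P = p)
    (hC : centralizer (P : Set G) ≤ P) {μ : P →* ℂˣ} (hμ : μ ≠ 1) : cnt P μ μ = p := by
  have h := cnt_smul P hp hP hC hμ 1
  rwa [one_smul] at h

end Cfsg.Agent.Lib.Helper17.ExcInd
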