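import Mathlib
import Cfsg.Agent.Lib.Helper17.ExcInd
import Cfsg.Agent.Lib.CT.IndChar
import Cfsg.Agent.Lib.CT.NormOne
import Cfsg.Agent.Lib.CT.Clifford
import Cfsg.Agent.Lib.Helper80.Integrality
import Cfsg.Agent.S0170

/-!
Exceptional characters for a self-centralizing subgroup `P` of prime order `p` with
`|N(P)| = p * e` and `2 * e + 1 ≤ p` (Brauer, Suzuki): structure of the values of the
irreducible characters on the nonidentity elements of `P`.
-/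

set_option autoImplicit false

namespace Cfsg.Agent.Lib.Helper17.ExcMain

open Cfsg Subgroup MulAction
open Cfsg.Agent.Lib.CT.FrobRec Cfsg.Agent.Lib.CT.LinChar Cfsg.Agent.Lib.CT.Orth
open Cfsg.Agent.Lib.CT.Wedderburn Cfsg.Agent.Lib.Helper17.ExcOrb Cfsg.Agent.Lib.Helper17.ExcInd
open scoped ComplexConjugate

attribute [local instance] Cfsg.Agent.Lib.Helper17.ExcOrb.dualAction

universe u

/-- The trivial character. -/
def trivIrr (G : Type u) [Group G] : IrrCharacter G := irrOfHom (1 : G →* ℂˣ)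

theorem trivIrr_apply (G : Type u) [Group G] (g : G) : (trivIrr G : G → ℂ) g = 1 :=
  cf_one_apply g

/-- Splitting a sum over an injective family. -/
theorem sum_split {I R : Type*} [Fintype I] [DecidableEq I] [AddCommMonoid R] {n : ℕ}
    (θ : Fin n → I) (hθ : Function.Injective θ) (F : I → R) :
    ∑ ψ, F ψ = ∑ ψ, (if ∃ i, θ i = ψ then 0 else F ψ) + ∑ i, F (θ i) := by
  classical
  have h1 : ∑ i, F (θ i) = ∑ ψ, (if ∃ i, θ i = ψ then F ψ else 0) :=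
    calc ∑ i, F (θ i) = ∑ ψ ∈ Finset.univ.image θ, F ψ :=
          (Finset.sum_image (f := F) (s := Finset.univ) (g := θ) (fun a _ b _ h => hθ h)).symm
      _ = ∑ ψ ∈ Finset.univ.filter (fun ψ => ∃ i, θ i = ψ), F ψ := by
          apply Finset.sum_congr _ (fun _ _ => rfl)
          ext ψ
          simp
      _ = ∑ ψ, (if ∃ i, θ i = ψ then F ψ else 0) := Finset.sum_filter _ _
  rw [h1, ← Finset.sum_add_distrib]
  apply Finset.sum_congr rfl
  intro ψ _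
  split_ifs <;> simp

theorem exceptional {G : Type u} [Group G] [Fintype G] [Fintype (IrrCharacter G)]
    (P : Subgroup G) {p e : ℕ} (hp : p.Prime) (hP : Nat.card P = p)
    (hC : centralizer (P : Set G) ≤ P) (hN : Nat.card (normalizer (P : Set G)) = p * e)
    (he : 2 * e + 1 ≤ p) :
    ∃ (n : ℕ) (ε b : ℤ) (θ : Fin n → IrrCharacter G) (M : IrrCharacter G → ℤ) (i₀ : Fin n),
      n * e + 1 = p ∧ (ε = 1 ∨ ε = -1) ∧ Function.Injective θ ∧
      M (trivIrr G) = 1 ∧ (∀ i, θ i ≠ trivIrr G) ∧ (∀ i, M (θ i) = 0) ∧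
      ∑ ψ, M ψ ^ 2 + (n : ℤ) * b ^ 2 = (e : ℤ) + 2 * ε * b ∧
      (∀ ψ, (∀ i, θ i ≠ ψ) → ∃ a : ℤ, (charDegree (ψ : G → ℂ) : ℤ) = M ψ + p * a) ∧
      (∀ ψ, (∀ i, θ i ≠ ψ) → ∀ y : G, y ∈ P → y ≠ 1 → (ψ : G → ℂ) y = (M ψ : ℂ)) ∧
      (∀ i j, ∀ g : G, (∀ u : G, u⁻¹ * g * u ∉ P) → (θ i : G → ℂ) g = (θ j : G → ℂ) g) ∧
      (∀ i j, (θ i : G → ℂ) 1 = (θ j : G → ℂ) 1) ∧
      ∀ y : G, y ∈ P → y ≠ 1 → ∀ A : IrrCharacter G → ℂ, (∀ i j, A (θ i) = A (θ j)) →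
        ∑ ψ, A ψ * conj ((ψ : G → ℂ) y)
          = ∑ ψ, A ψ * (M ψ : ℂ) + A (θ i₀) * ((n : ℂ) * (b : ℂ) - (ε : ℂ)) := by
  classical
  haveI : Fintype P := Fintype.ofFinite _
  haveI : Fintype (normalizer (P : Set G)) := Fintype.ofFinite _
  haveI : Finite (P →* ℂˣ) := finite_hom
  haveI : Fintype (P →* ℂˣ) := Fintype.ofFinite _
  have hcomm := comm_of_card_prime P hp hP
  have hTI : ∀ g y : G, y ∈ P → y ≠ 1 → g⁻¹ * y * g ∈ P → g ∈ normalizer (P : Set G) :=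
    fun g y hy hy1 h => mem_normalizer_of_conj_mem P hp hP g y hy hy1 h
  have hp1 := hp.one_lt
  have hpz : (p : ℤ) ≠ 0 := by exact_mod_cast hp.ne_zero
  obtain ⟨n, r, hn, hr1, hrinj, hrsurj⟩ := exists_reps P hp hP hC hN
  have he0 : 0 < e := by
    rcases Nat.eq_zero_or_pos e with h | h
    · subst h
      omega
    · exact h
  have hn2 : 2 ≤ n := Nat.le_of_mul_le_mul_right (by omega : 2 * e ≤ n * e) he0
  -- multiplicities of the induced characters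
  have hchar : ∀ μ : P →* ℂˣ, IsCharacter G (indFun P (cf μ)) := fun μ =>
    Cfsg.Agent.Lib.CT.IndChar.isCharacter_indFun P (cf μ) (cf_isChar μ)
  choose m hm hexp using fun μ : P →* ℂˣ => Cfsg.Agent.Lib.CT.NormOne.exists_mult_sum (hchar μ)
  choose dg hdpos hd using fun ψ : IrrCharacter G => irr_exists_apply_one_pos ψ.2
  -- the Gram matrix in integers
  have hG : ∀ α β μ ν : P →* ℂˣ,
      (p : ℤ) * ∑ ψ : IrrCharacter G,
          ((m α ψ : ℤ) - (m β ψ : ℤ)) * ((m μ ψ : ℤ) - (m ν ψ : ℤ))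
        = (cnt P α μ : ℤ) - (cnt P α ν : ℤ) - (cnt P β μ : ℤ) + (cnt P β ν : ℤ) := by
    intro α β μ ν
    have h1 := gram P hTI α β μ ν
    have hL : classInner (indFun P (cf α - cf β)) (indFun P (cf μ - cf ν))
        = ∑ ψ : IrrCharacter G,
            ((m α ψ : ℂ) - (m β ψ : ℂ)) * ((m μ ψ : ℂ) - (m ν ψ : ℂ)) := by
      have e2 : indFun P (cf μ - cf ν)
          = ∑ ψ : IrrCharacter G, ((m μ ψ : ℂ) - (m ν ψ : ℂ)) • (ψ : G → ℂ) := by
        rw [indFun_sub, hexp μ, hexp ν, ← Finset.sum_sub_distrib]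
        refine Finset.sum_congr rfl (fun ψ _ => ?_)
        rw [sub_smul]
      rw [e2, Cfsg.Agent.S0170.inner_expand]
      refine Finset.sum_congr rfl (fun ψ _ => ?_)
      rw [indFun_sub, classInner_sub_left, hm α ψ, hm β ψ]
      simp
    rw [hL, hP] at h1
    have hp0 : (p : ℂ) ≠ 0 := Nat.cast_ne_zero.mpr hp.ne_zero
    have h2 : (p : ℂ) * ∑ ψ : IrrCharacter G,
          ((m α ψ : ℂ) - (m β ψ : ℂ)) * ((m μ ψ : ℂ) - (m ν ψ : ℂ))
        = (cnt P α μ : ℂ) - (cnt P α ν : ℂ) - (cnt P β μ : ℂ) + (cnt P β ν : ℂ) := by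
      rw [h1]
      field_simp
    exact_mod_cast h2
  have hN' : cnt P (1 : P →* ℂˣ) 1 = p * e := by rw [cnt_one_one, hN]
  have hc1r : ∀ i, cnt P (1 : P →* ℂˣ) (r i) = 0 := by
    intro i
    apply cnt_eq_zero
    rintro ⟨g, hg⟩
    exact smul_ne_one P g (hr1 i) hg
  have hcr1 : ∀ i, cnt P (r i) (1 : P →* ℂˣ) = 0 := by
    intro i
    apply cnt_eq_zero
    rintro ⟨g, hg⟩
    have hg' : g • (1 : P →* ℂˣ) = r i := hg
    rw [smul_one_hom] at hg'
    exact hr1 i hg'.symm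
  have hcrr : ∀ i j, cnt P (r i) (r j) = if i = j then p else 0 := by
    intro i j
    by_cases hij : i = j
    · rw [if_pos hij, hij]
      exact cnt_self P hp hP hC (hr1 j)
    · rw [if_neg hij]
      apply cnt_eq_zero
      intro h
      exact hij (hrinj i j h)
  have hA : ∀ i j k l : Fin n, ∑ ψ : IrrCharacter G,
      ((m (r i) ψ : ℤ) - (m (r j) ψ : ℤ)) * ((m (r k) ψ : ℤ) - (m (r l) ψ : ℤ))
      = (if i = k then (1 : ℤ) else 0) - (if i = l then 1 else 0) - (if j = k then 1 else 0)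
        + (if j = l then 1 else 0) := by
    intro i j k l
    have h := hG (r i) (r j) (r k) (r l)
    rw [hcrr, hcrr, hcrr, hcrr] at h
    apply mul_left_cancel₀ hpz
    rw [h]
    split_ifs <;> push_cast <;> ring
  have hB : ∀ α β : P →* ℂˣ,
      ∑ ψ : IrrCharacter G, ((m α ψ : ℤ) - (m β ψ : ℤ)) * (dg ψ : ℤ) = 0 := by
    intro α β
    have h1 : (indFun P (cf α) - indFun P (cf β)) 1 = 0 := by
      rw [Pi.sub_apply, indFun_one, indFun_one, cf_apply_one, cf_apply_one, sub_self]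
    have h2 : (indFun P (cf α) - indFun P (cf β)) 1
        = ∑ ψ : IrrCharacter G, ((m α ψ : ℂ) - (m β ψ : ℂ)) * (dg ψ : ℂ) := by
      rw [hexp α, hexp β, ← Finset.sum_sub_distrib, Finset.sum_apply]
      refine Finset.sum_congr rfl (fun ψ _ => ?_)
      rw [← sub_smul, Pi.smul_apply, hd ψ, smul_eq_mul]
    rw [h2] at h1
    exact_mod_cast h1
  obtain ⟨ε, hε, θ, hθinj, hθ⟩ := Cfsg.Agent.S0170.exists_theta hn2
    (fun i ψ => (m (r i) ψ : ℤ)) (fun ψ => (dg ψ : ℤ)) (fun ψ => by exact_mod_cast hdpos ψ)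
    hA (fun i j => hB (r i) (r j))
  have hε2 : ε * ε = 1 := by rcases hε with h | h <;> rw [h] <;> norm_num
  have hε0 : ε ≠ 0 := by rcases hε with h | h <;> rw [h] <;> norm_num
  have hεc : (ε : ℂ) ≠ 0 := by exact_mod_cast hε0
  have hn0 : 0 < n := by omega
  obtain ⟨i₀, hi₀⟩ : ∃ i₀ : Fin n, i₀ = ⟨0, hn0⟩ := ⟨_, rfl⟩
  obtain ⟨a, ha⟩ : ∃ a : IrrCharacter G → ℤ, ∀ ψ,
      a ψ = (m (r i₀) ψ : ℤ) - ε * (if ψ = θ i₀ then 1 else 0) := ⟨_, fun _ => rfl⟩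
  have hma : ∀ i ψ, (m (r i) ψ : ℤ) = a ψ + ε * (if ψ = θ i then 1 else 0) := by
    intro i ψ
    have h : (m (r i) ψ : ℤ) - (m (r i₀) ψ : ℤ)
        = ε * ((if ψ = θ i then (1 : ℤ) else 0) - (if ψ = θ i₀ then 1 else 0)) := hθ i i₀ ψ
    rw [ha ψ]
    linear_combination h
  -- multiplicities are constant on orbits
  have hmorb : ∀ μ : P →* ℂˣ, μ ≠ 1 → ∃ i, ∀ ψ, m μ ψ = m (r i) ψ := by
    intro μ hμ
    obtain ⟨i, g₀, hg₀⟩ := hrsurj μ hμ
    have hg₀' : g₀ • r i = μ := hg₀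
    refine ⟨i, ?_⟩
    have h := hG μ (r i) μ (r i)
    have c1 : cnt P μ μ = p := cnt_self P hp hP hC hμ
    have c2 : cnt P μ (r i) = p := by
      rw [← hg₀']
      exact cnt_smul P hp hP hC (hr1 i) g₀
    have c3 : cnt P (r i) μ = p := by
      have h3 : r i = g₀⁻¹ • μ := by rw [← hg₀', inv_smul_smul]
      rw [h3]
      exact cnt_smul P hp hP hC hμ g₀⁻¹
    have c4 : cnt P (r i) (r i) = p := cnt_self P hp hP hC (hr1 i)
    rw [c1, c2, c3, c4] at h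
    have hsum : ∑ ψ : IrrCharacter G,
        ((m μ ψ : ℤ) - (m (r i) ψ : ℤ)) * ((m μ ψ : ℤ) - (m (r i) ψ : ℤ)) = 0 := by
      apply mul_left_cancel₀ hpz
      rw [h]
      ring
    intro ψ
    have h0 := (Finset.sum_eq_zero_iff_of_nonneg (fun ψ _ => mul_self_nonneg _)).mp hsum ψ
      (Finset.mem_univ ψ)
    have h1 : (m μ ψ : ℤ) - (m (r i) ψ : ℤ) = 0 := mul_self_eq_zero.mp h0
    exact_mod_cast sub_eq_zero.mp h1
  obtain ⟨M₀, hM₀⟩ : ∃ M₀ : IrrCharacter G → ℤ, ∀ ψ, M₀ ψ = (m 1 ψ : ℤ) - a ψ :=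
    ⟨_, fun _ => rfl⟩
  have hM1 : ∀ i ψ, (m 1 ψ : ℤ) - (m (r i) ψ : ℤ)
      = M₀ ψ - ε * (if ψ = θ i then 1 else 0) := by
    intro i ψ
    rw [hM₀ ψ, hma i ψ]
    ring
  have hC1 : ∀ i, ∑ ψ : IrrCharacter G, (M₀ ψ - ε * (if ψ = θ i then 1 else 0)) ^ 2
      = (e : ℤ) + 1 := by
    intro i
    have h := hG 1 (r i) 1 (r i)
    rw [hN', hc1r, hcr1, cnt_self P hp hP hC (hr1 i)] at h
    apply mul_left_cancel₀ hpz
    have h1 : ∑ ψ : IrrCharacter G, (M₀ ψ - ε * (if ψ = θ i then 1 else 0)) ^ 2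
        = ∑ ψ : IrrCharacter G,
          ((m 1 ψ : ℤ) - (m (r i) ψ : ℤ)) * ((m 1 ψ : ℤ) - (m (r i) ψ : ℤ)) := by
      apply Finset.sum_congr rfl
      intro ψ _
      rw [hM1 i ψ]
      ring
    rw [h1, h]
    push_cast
    ring
  have hsumδ : ∀ i, ∑ ψ : IrrCharacter G, M₀ ψ * (if ψ = θ i then (1 : ℤ) else 0)
      = M₀ (θ i) := by
    intro i
    simp
  have hsumδ2 : ∀ i, ∑ ψ : IrrCharacter G, (if ψ = θ i then (1 : ℤ) else 0) ^ 2 = 1 := by
    intro i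
    simp
  have hC2 : ∀ i, ∑ ψ : IrrCharacter G, M₀ ψ ^ 2 - 2 * ε * M₀ (θ i) = e := by
    intro i
    have h := hC1 i
    have hexpand : ∑ ψ : IrrCharacter G, (M₀ ψ - ε * (if ψ = θ i then 1 else 0)) ^ 2
        = ∑ ψ : IrrCharacter G, M₀ ψ ^ 2
          - 2 * ε * ∑ ψ : IrrCharacter G, M₀ ψ * (if ψ = θ i then (1 : ℤ) else 0)
          + ε * ε * ∑ ψ : IrrCharacter G, (if ψ = θ i then (1 : ℤ) else 0) ^ 2 := by
      rw [Finset.mul_sum, Finset.mul_sum, ← Finset.sum_sub_distrib, ← Finset.sum_add_distrib]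
      apply Finset.sum_congr rfl
      intro ψ _
      ring
    rw [hexpand, hsumδ, hsumδ2, hε2] at h
    linarith
  have hb : ∀ i, M₀ (θ i) = M₀ (θ i₀) := by
    intro i
    have h3 : ε * (M₀ (θ i) - M₀ (θ i₀)) = 0 := by linarith [hC2 i, hC2 i₀]
    rcases mul_eq_zero.mp h3 with h | h
    · exact absurd h hε0
    · linarith
  -- the trivial character
  have hmT : ∀ μ : P →* ℂˣ, (m μ (trivIrr G) : ℂ) = if μ = 1 then 1 else 0 := by
    intro μ
    rw [← hm μ (trivIrr G)]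
    have hcls : IsClassFunction G ((trivIrr G : IrrCharacter G) : G → ℂ) :=
      irr_isClassFunction _
    rw [frobenius_reciprocity P (cf μ) _ hcls]
    have e1 : (fun h : P => ((trivIrr G : IrrCharacter G) : G → ℂ) h)
        = cf (1 : P →* ℂˣ) := by
      funext h
      rw [trivIrr_apply, cf_one_apply]
    rw [e1, classInner_cf]
  have hmT1 : (m 1 (trivIrr G) : ℤ) = 1 := by
    have h := hmT 1
    rw [if_pos rfl] at h
    exact_mod_cast h
  have hmTr : ∀ i, (m (r i) (trivIrr G) : ℤ) = 0 := by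
    intro i
    have h := hmT (r i)
    rw [if_neg (hr1 i)] at h
    exact_mod_cast h
  have hθT : ∀ i, θ i ≠ trivIrr G := by
    intro i hi
    obtain ⟨j, hj⟩ : ∃ j : Fin n, j ≠ i := by
      by_cases h : i = ⟨0, hn0⟩
      · refine ⟨⟨1, by omega⟩, ?_⟩
        rw [h]
        intro h'
        have := congrArg Fin.val h'
        simp at this
      · exact ⟨⟨0, hn0⟩, fun h' => h h'.symm⟩
    have h1 := hma i (trivIrr G)
    have h2 := hma j (trivIrr G)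
    rw [hmTr, if_pos hi.symm] at h1
    rw [hmTr, if_neg (fun h => hj (hθinj (h.symm.trans hi.symm)))] at h2
    have h3 : ε = 0 := by linarith
    exact hε0 h3
  have haT : a (trivIrr G) = 0 := by
    have h1 := hma i₀ (trivIrr G)
    rw [hmTr, if_neg (fun h => hθT i₀ h.symm)] at h1
    linarith
  have hMT : M₀ (trivIrr G) = 1 := by
    rw [hM₀, hmT1, haT]
    ring
  -- differences of the induced characters as functions
  have hfun : ∀ i j, indFun P (cf (r i)) - indFun P (cf (r j))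
      = (ε : ℂ) • ((θ i : G → ℂ) - (θ j : G → ℂ)) := by
    intro i j
    rw [hexp (r i), hexp (r j), ← Finset.sum_sub_distrib]
    have h3 : ∀ ψ : IrrCharacter G,
        ((m (r i) ψ : ℂ) • (ψ : G → ℂ) - (m (r j) ψ : ℂ) • (ψ : G → ℂ))
        = ((ε : ℂ) * ((if ψ = θ i then (1 : ℂ) else 0) - (if ψ = θ j then 1 else 0)))
          • (ψ : G → ℂ) := by
      intro ψ
      rw [← sub_smul]
      congr 1
      have h4 : (m (r i) ψ : ℤ) - (m (r j) ψ : ℤ)
          = ε * ((if ψ = θ i then (1 : ℤ) else 0) - (if ψ = θ j then 1 else 0)) := hθ i j ψ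
      exact_mod_cast h4
    simp only [h3]
    simp only [mul_smul, sub_smul, ite_smul, one_smul, zero_smul, smul_sub,
      Finset.sum_sub_distrib, ← Finset.smul_sum, Finset.sum_ite_eq', Finset.mem_univ, if_true]
  have hθone : ∀ i j, (θ i : G → ℂ) 1 = (θ j : G → ℂ) 1 := by
    intro i j
    have h := congrFun (hfun i j) 1
    rw [Pi.sub_apply, indFun_one, indFun_one, cf_apply_one, cf_apply_one, sub_self,
      Pi.smul_apply, Pi.sub_apply, smul_eq_mul] at h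
    exact sub_eq_zero.mp ((mul_eq_zero.mp h.symm).resolve_left hεc)
  have hθvan : ∀ i j, ∀ g : G, (∀ u : G, u⁻¹ * g * u ∉ P) →
      (θ i : G → ℂ) g = (θ j : G → ℂ) g := by
    intro i j g hg
    have h := congrFun (hfun i j) g
    rw [Pi.sub_apply, indFun_eq_zero_of_forall_not_mem P _ g hg,
      indFun_eq_zero_of_forall_not_mem P _ g hg, sub_self, Pi.smul_apply, Pi.sub_apply,
      smul_eq_mul] at h
    exact sub_eq_zero.mp ((mul_eq_zero.mp h.symm).resolve_left hεc)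
  have hdgθ : ∀ i, dg (θ i) = dg (θ i₀) := by
    intro i
    have h := hθone i i₀
    rw [hd, hd] at h
    exact_mod_cast h
  -- restriction to `P`
  have hrestr : ∀ (ψ : IrrCharacter G) (y : P),
      (ψ : G → ℂ) y = ∑ μ : P →* ℂˣ, (m μ ψ : ℂ) * cf μ y := by
    intro ψ y
    refine (expand hcomm (fun h : P => (ψ : G → ℂ) h) y).trans ?_
    apply Finset.sum_congr rfl
    intro μ _
    congr 1
    rw [Cfsg.Agent.Lib.CT.Clifford.classInner_conj_symm,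
      ← frobenius_reciprocity P (cf μ) _ (irr_isClassFunction ψ), hm μ ψ, Complex.conj_natCast]
  have hnonexc : ∀ ψ : IrrCharacter G, (∀ i, θ i ≠ ψ) → ∀ μ : P →* ℂˣ, μ ≠ 1 →
      (m μ ψ : ℤ) = a ψ := by
    intro ψ hψ μ hμ
    obtain ⟨i, hi⟩ := hmorb μ hμ
    rw [hi ψ, hma i ψ, if_neg (fun h => hψ i h.symm)]
    ring
  have hval : ∀ ψ : IrrCharacter G, (∀ i, θ i ≠ ψ) → ∀ y : P,
      (ψ : G → ℂ) y = (a ψ : ℂ) * ∑ μ : P →* ℂˣ, cf μ y + (M₀ ψ : ℂ) := by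
    intro ψ hψ y
    rw [hrestr ψ y, Finset.mul_sum]
    have h1 : ∀ μ : P →* ℂˣ, (m μ ψ : ℂ) * cf μ y
        = (a ψ : ℂ) * cf μ y + (if μ = 1 then (M₀ ψ : ℂ) else 0) := by
      intro μ
      by_cases hμ : μ = 1
      · rw [if_pos hμ, hμ, cf_one_apply]
        have h2 : (M₀ ψ : ℂ) = (m 1 ψ : ℂ) - (a ψ : ℂ) := by
          rw [hM₀]
          push_cast
          ring
        rw [h2]
        ring
      · rw [if_neg hμ]
        have h2 : (m μ ψ : ℂ) = (a ψ : ℂ) := by exact_mod_cast hnonexc ψ hψ μ hμ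
        rw [h2]
        ring
    rw [Finset.sum_congr rfl (fun μ _ => h1 μ), Finset.sum_add_distrib,
      Finset.sum_ite_eq' Finset.univ (1 : P →* ℂˣ) (fun _ => (M₀ ψ : ℂ)),
      if_pos (Finset.mem_univ _)]
  have hvalP : ∀ ψ : IrrCharacter G, (∀ i, θ i ≠ ψ) → ∀ y : G, y ∈ P → y ≠ 1 →
      (ψ : G → ℂ) y = (M₀ ψ : ℂ) := by
    intro ψ hψ y hy hy1
    have h := hval ψ hψ ⟨y, hy⟩
    rw [sum_cf_eq_zero hcomm (⟨y, hy⟩ : P) (fun h' => hy1 (congrArg Subtype.val h')),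
      mul_zero, zero_add] at h
    exact h
  have hdegcong : ∀ ψ : IrrCharacter G, (∀ i, θ i ≠ ψ) →
      ∃ a' : ℤ, (charDegree (ψ : G → ℂ) : ℤ) = M₀ ψ + p * a' := by
    intro ψ hψ
    refine ⟨a ψ, ?_⟩
    have h := hval ψ hψ 1
    have hsum : ∑ μ : P →* ℂˣ, cf μ (1 : P) = (p : ℂ) := by
      simp only [cf_apply_one, Finset.sum_const, Finset.card_univ, nsmul_eq_mul, mul_one]
      rw [← Nat.card_eq_fintype_card, card_hom hcomm, hP]
    rw [hsum] at h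
    have h2 : ((ψ : G → ℂ) ((1 : P) : G)) = (charDegree (ψ : G → ℂ) : ℂ) :=
      Cfsg.Agent.Lib.Helper80.Integrality.apply_one_eq_charDegree (isCharacter_of_irr ψ.2)
    rw [h2] at h
    have h3 : (charDegree (ψ : G → ℂ) : ℂ) = ((M₀ ψ + p * a ψ : ℤ) : ℂ) := by
      rw [h]
      push_cast
      ring
    exact_mod_cast h3
  -- degree relation
  have hdeg : ∑ ψ : IrrCharacter G, M₀ ψ * (dg ψ : ℤ) = ε * (dg (θ i₀) : ℤ) := by
    have h := hB 1 (r i₀)
    have h1 : ∑ ψ : IrrCharacter G, ((m 1 ψ : ℤ) - (m (r i₀) ψ : ℤ)) * (dg ψ : ℤ)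
        = ∑ ψ : IrrCharacter G, M₀ ψ * (dg ψ : ℤ)
          - ε * ∑ ψ : IrrCharacter G, (if ψ = θ i₀ then (dg ψ : ℤ) else 0) := by
      rw [Finset.mul_sum, ← Finset.sum_sub_distrib]
      apply Finset.sum_congr rfl
      intro ψ _
      rw [hM1 i₀ ψ]
      split_ifs <;> ring
    rw [h1, Finset.sum_ite_eq' Finset.univ (θ i₀) (fun ψ => (dg ψ : ℤ)),
      if_pos (Finset.mem_univ _)] at h
    linarith
  have hsumθ : ∀ y : G, y ∈ P → y ≠ 1 →
      ∑ i : Fin n, (θ i : G → ℂ) y = (n : ℂ) * (M₀ (θ i₀) : ℂ) - (ε : ℂ) := by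
    intro y hy hy1
    have hreg := sum_apply_one_mul_of_ne_sum y hy1
    rw [sum_split θ hθinj] at hreg
    have h1 : ∑ ψ : IrrCharacter G,
        (if ∃ i, θ i = ψ then 0 else (ψ : G → ℂ) 1 * (ψ : G → ℂ) y)
        = ∑ ψ : IrrCharacter G,
          (if ∃ i, θ i = ψ then 0 else (dg ψ : ℂ) * (M₀ ψ : ℂ)) := by
      apply Finset.sum_congr rfl
      intro ψ _
      by_cases hψ : ∃ i, θ i = ψ
      · rw [if_pos hψ, if_pos hψ]
      · rw [if_neg hψ, if_neg hψ, hd ψ, hvalP ψ (not_exists.mp hψ) y hy hy1]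
    have h2 : ∑ i : Fin n, (θ i : G → ℂ) 1 * (θ i : G → ℂ) y
        = (dg (θ i₀) : ℂ) * ∑ i : Fin n, (θ i : G → ℂ) y := by
      rw [Finset.mul_sum]
      apply Finset.sum_congr rfl
      intro i _
      rw [hθone i i₀, hd (θ i₀)]
    have hdegC : ∑ ψ : IrrCharacter G, (M₀ ψ : ℂ) * (dg ψ : ℂ)
        = (ε : ℂ) * (dg (θ i₀) : ℂ) := by exact_mod_cast hdeg
    rw [sum_split θ hθinj] at hdegC
    have h3 : ∑ i : Fin n, (M₀ (θ i) : ℂ) * (dg (θ i) : ℂ)
        = (n : ℂ) * (M₀ (θ i₀) : ℂ) * (dg (θ i₀) : ℂ) := by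
      have h5 : ∀ i : Fin n, (M₀ (θ i) : ℂ) * (dg (θ i) : ℂ)
          = (M₀ (θ i₀) : ℂ) * (dg (θ i₀) : ℂ) := by
        intro i
        rw [hb i, hdgθ i]
      rw [Finset.sum_congr rfl (fun i _ => h5 i), Finset.sum_const, Finset.card_univ,
        Fintype.card_fin, nsmul_eq_mul]
      ring
    have h4 : ∑ ψ : IrrCharacter G, (if ∃ i, θ i = ψ then 0 else (M₀ ψ : ℂ) * (dg ψ : ℂ))
        = ∑ ψ : IrrCharacter G,
          (if ∃ i, θ i = ψ then 0 else (dg ψ : ℂ) * (M₀ ψ : ℂ)) := by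
      apply Finset.sum_congr rfl
      intro ψ _
      split_ifs
      · rfl
      · ring
    rw [h1, h2] at hreg
    rw [h3, h4] at hdegC
    have hdne : (dg (θ i₀) : ℂ) ≠ 0 := by exact_mod_cast (hdpos (θ i₀)).ne'
    apply mul_left_cancel₀ hdne
    linear_combination hreg - hdegC
  -- the final data: `M` vanishing on the exceptional characters
  obtain ⟨M, hM⟩ : ∃ M : IrrCharacter G → ℤ, ∀ ψ,
      M ψ = if ∃ i, θ i = ψ then 0 else M₀ ψ := ⟨_, fun _ => rfl⟩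
  have hMexc : ∀ i, M (θ i) = 0 := by
    intro i
    rw [hM, if_pos ⟨i, rfl⟩]
  have hMnon : ∀ ψ, (∀ i, θ i ≠ ψ) → M ψ = M₀ ψ := by
    intro ψ hψ
    rw [hM, if_neg (not_exists.mpr hψ)]
  have hsq : ∑ ψ, M ψ ^ 2 + (n : ℤ) * M₀ (θ i₀) ^ 2 = (e : ℤ) + 2 * ε * M₀ (θ i₀) := by
    have h := hC2 i₀
    rw [sum_split θ hθinj] at h
    have h1 : ∑ ψ : IrrCharacter G, (if ∃ i, θ i = ψ then 0 else M₀ ψ ^ 2)
        = ∑ ψ, M ψ ^ 2 := by
      apply Finset.sum_congr rfl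
      intro ψ _
      rw [hM]
      split_ifs <;> simp
    have h2 : ∑ i : Fin n, M₀ (θ i) ^ 2 = (n : ℤ) * M₀ (θ i₀) ^ 2 := by
      rw [Finset.sum_congr rfl (fun i _ => by rw [hb i]), Finset.sum_const, Finset.card_univ,
        Fintype.card_fin, nsmul_eq_mul]
    rw [h1, h2] at h
    linarith
  refine ⟨n, ε, M₀ (θ i₀), θ, M, i₀, hn, hε, hθinj, ?_, hθT, hMexc, hsq, ?_, ?_, hθvan,
    hθone, ?_⟩
  · rw [hMnon _ (fun i => hθT i), hMT]
  · intro ψ hψ
    rw [hMnon ψ hψ]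
    exact hdegcong ψ hψ
  · intro ψ hψ y hy hy1
    rw [hMnon ψ hψ]
    exact hvalP ψ hψ y hy hy1
  · intro y hy hy1 A hA'
    rw [sum_split θ hθinj, sum_split θ hθinj (fun ψ => A ψ * (M ψ : ℂ))]
    have h1 : ∑ ψ : IrrCharacter G,
        (if ∃ i, θ i = ψ then 0 else A ψ * conj ((ψ : G → ℂ) y))
        = ∑ ψ : IrrCharacter G, (if ∃ i, θ i = ψ then 0 else A ψ * (M ψ : ℂ)) := by
      apply Finset.sum_congr rfl
      intro ψ _
      by_cases hψ : ∃ i, θ i = ψ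
      · rw [if_pos hψ, if_pos hψ]
      · rw [if_neg hψ, if_neg hψ, hvalP ψ (not_exists.mp hψ) y hy hy1,
          hMnon ψ (not_exists.mp hψ), map_intCast]
    have h2 : ∑ i : Fin n, A (θ i) * (M (θ i) : ℂ) = 0 := by
      apply Finset.sum_eq_zero
      intro i _
      rw [hMexc i]
      simp
    have h3 : ∑ i : Fin n, A (θ i) * conj ((θ i : G → ℂ) y)
        = A (θ i₀) * ((n : ℂ) * (M₀ (θ i₀) : ℂ) - (ε : ℂ)) := by
      have h4 : ∀ i : Fin n, A (θ i) * conj ((θ i : G → ℂ) y)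
          = A (θ i₀) * conj ((θ i : G → ℂ) y) := fun i => by rw [hA' i i₀]
      rw [Finset.sum_congr rfl (fun i _ => h4 i), ← Finset.mul_sum, ← map_sum,
        hsumθ y hy hy1]
      simp
    rw [h1, h2, h3]
    ring

end Cfsg.Agent.Lib.Helper17.ExcMain
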