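import Mathlib
import Cfsg.Agent.Lib.Helper80.TISylow

/-!
# Group theory of a Sylow subgroup of prime order
-/

set_option autoImplicit false
set_option linter.unusedSectionVars false
set_option linter.style.haveILetI false

namespace Cfsg.Agent.Lib.Helper17.BrGrp

universe u
variable {G : Type u} [Group G] [Finite G] {p : ℕ} [Fact p.Prime]

theorem orderOf_eq (P : Sylow p G) (hP : Nat.card P = p) {y : G} (hy : y ∈ (P : Subgroup G))
    (hy1 : y ≠ 1) : orderOf y = p := by
  have hp : p.Prime := Fact.out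
  have h1 : orderOf y ∣ p := by
    have := Subgroup.orderOf_dvd_natCard (P : Subgroup G) hy
    rwa [show Nat.card ↥(P : Subgroup G) = p from hP] at this
  rcases (Nat.dvd_prime hp).mp h1 with h | h
  · exact absurd (orderOf_eq_one_iff.mp h) hy1
  · exact h

theorem zpowers_eq (P : Sylow p G) (hP : Nat.card P = p) {y : G} (hy : y ∈ (P : Subgroup G))
    (hy1 : y ≠ 1) : Subgroup.zpowers y = (P : Subgroup G) := by
  apply Subgroup.eq_of_le_of_card_ge (Subgroup.zpowers_le.mpr hy)
  rw [Nat.card_zpowers, orderOf_eq P hP hy hy1]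
  exact hP.le

theorem exists_gen (P : Sylow p G) (hP : Nat.card P = p) :
    ∃ x : G, x ∈ (P : Subgroup G) ∧ x ≠ 1 := by
  have hp : p.Prime := Fact.out
  have h1 : 1 < Nat.card ↥(P : Subgroup G) := by
    rw [show Nat.card ↥(P : Subgroup G) = p from hP]
    exact hp.one_lt
  haveI : Nontrivial ↥(P : Subgroup G) := Finite.one_lt_card_iff_nontrivial.mp h1
  obtain ⟨y, hy⟩ := exists_ne (1 : ↥(P : Subgroup G))
  exact ⟨y.1, y.2, fun h => hy (Subtype.ext h)⟩

theorem mem_normalizer_of_conj_mem (P : Sylow p G) (hP : Nat.card P = p) {y g : G}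
    (hy : y ∈ (P : Subgroup G)) (hy1 : y ≠ 1) (h : g * y * g⁻¹ ∈ (P : Subgroup G)) :
    g ∈ Subgroup.normalizer ((P : Subgroup G) : Set G) := by
  apply Subgroup.mem_normalizer_fintype
  intro w hw
  have hw' : w ∈ Subgroup.zpowers y := by
    rw [zpowers_eq P hP hy hy1]
    exact hw
  obtain ⟨i, rfl⟩ := Subgroup.mem_zpowers_iff.mp hw'
  rw [← conj_zpow]
  exact Subgroup.zpow_mem _ h i

theorem mem_centralizer_iff (P : Sylow p G) (hP : Nat.card P = p) {x : G}
    (hx : x ∈ (P : Subgroup G)) (hx1 : x ≠ 1) (c : G) :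
    c ∈ Subgroup.centralizer ((P : Subgroup G) : Set G) ↔ c * x = x * c := by
  rw [Subgroup.mem_centralizer_iff]
  constructor
  · intro h
    exact (h x hx).symm
  · intro h w hw
    have hw' : w ∈ Subgroup.zpowers x := by
      rw [zpowers_eq P hP hx hx1]
      exact hw
    obtain ⟨i, rfl⟩ := Subgroup.mem_zpowers_iff.mp hw'
    exact ((show Commute c x from h).zpow_right i).eq.symm

theorem isMulCommutative (P : Sylow p G) (hP : Nat.card P = p) : IsMulCommutative P := by
  obtain ⟨x, hx, hx1⟩ := exists_gen P hP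
  refine ⟨⟨fun a b => ?_⟩⟩
  have ha : (a : G) ∈ Subgroup.zpowers x := by
    rw [zpowers_eq P hP hx hx1]
    exact a.2
  have hb : (b : G) ∈ Subgroup.zpowers x := by
    rw [zpowers_eq P hP hx hx1]
    exact b.2
  obtain ⟨i, hi⟩ := Subgroup.mem_zpowers_iff.mp ha
  obtain ⟨j, hj⟩ := Subgroup.mem_zpowers_iff.mp hb
  apply Subtype.ext
  show (a : G) * (b : G) = (b : G) * (a : G)
  rw [← hi, ← hj]
  exact ((Commute.refl x).zpow_zpow i j).eq

theorem hfrob (P : Sylow p G) (hP : Nat.card P = p) :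
    ∀ y : G, y ∈ (P : Subgroup G) → y ≠ 1 →
      Subgroup.centralizer ({y} : Set G) ⊓ Subgroup.normalizer ((P : Subgroup G) : Set G) =
        Subgroup.centralizer ((P : Subgroup G) : Set G) := by
  intro y hy hy1
  ext c
  rw [Subgroup.mem_inf, mem_centralizer_iff P hP hy hy1]
  constructor
  · rintro ⟨h1, _⟩
    rw [Subgroup.mem_centralizer_iff] at h1
    exact (h1 y rfl).symm
  · intro h
    refine ⟨?_, ?_⟩
    · rw [Subgroup.mem_centralizer_iff]
      intro w hw
      rw [Set.mem_singleton_iff] at hw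
      subst hw
      exact h.symm
    · apply Subgroup.centralizer_le_normalizer
      exact (mem_centralizer_iff P hP hy hy1 c).mpr h

/-- An element of `N_G(P)` of `p`-power order lies in `P`; in particular conjugates of a
generator lying in the normalizer come from the normalizer. -/
theorem hTI (P : Sylow p G) (hP : Nat.card P = p) {x : G} (hx : x ∈ (P : Subgroup G))
    (hx1 : x ≠ 1) (g : G)
    (h : g⁻¹ * x * g ∈ Subgroup.normalizer ((P : Subgroup G) : Set G)) :
    g ∈ Subgroup.normalizer ((P : Subgroup G) : Set G) := by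
  have hord : (g⁻¹ * x * g) ^ p ^ 1 = 1 := by
    have e : g⁻¹ * x * g = g⁻¹ * x * g⁻¹⁻¹ := by rw [inv_inv]
    rw [pow_one, e, conj_pow, ← orderOf_eq P hP hx hx1, pow_orderOf_eq_one]
    group
  have hmem := Cfsg.Agent.Lib.Helper80.TISylow.mem_sylow_of_mem_normalizer p P _ h 1 hord
  have e : g⁻¹ * x * g = g⁻¹ * x * g⁻¹⁻¹ := by rw [inv_inv]
  rw [e] at hmem
  have := mem_normalizer_of_conj_mem P hP hx hx1 hmem
  simpa using Subgroup.inv_mem _ this

end Cfsg.Agent.Lib.Helper17.BrGrp
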