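import Mathlib
import Cfsg.Agent.Lib.Helper17.BrGrp
import Cfsg.Agent.Lib.Helper80.AbSylowPkg

/-!
# Brauer's theorem for a Sylow subgroup of prime order: the final step

From the values of the non-exceptional characters on the `p`-singular elements and the
relation on the `p`-regular elements, the congruences for the degrees follow.
-/

set_option autoImplicit false
set_option linter.unusedSectionVars false
set_option linter.style.haveILetI false
set_option maxHeartbeats 1000000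

namespace Cfsg.Agent.Lib.Helper17.BrFin

open Cfsg Cfsg.Agent.Lib.CT.Wedderburn Cfsg.Agent.Lib.CT.Ops Cfsg.Agent.Lib.CT.Clifford
  Cfsg.Agent.Lib.Helper80.AbSylowGT Cfsg.Agent.Lib.Helper80.AbSylowCh
  Cfsg.Agent.Lib.CT.ThirdMain Cfsg.Agent.Lib.Helper17.BrGrp

universe u
variable {G : Type u} [Group G] [Fintype G] {p : ℕ} [Fact p.Prime]

/-- If a character is constant `= c` on the non-identity elements of a Sylow subgroup of
order `p`, then its degree is congruent to `c` modulo `p`. -/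
theorem degree_modEq (P : Sylow p G) (hP : Nat.card P = p) {χ : G → ℂ} (hχ : IsCharacter G χ)
    (c : ℤ) (hc : ∀ w ∈ (P : Subgroup G), w ≠ 1 → χ w = (c : ℂ)) :
    (charDegree χ : ℤ) ≡ c [ZMOD p] := by
  classical
  have hα : IsCharacter ↥(P : Subgroup G) (fun k : ↥(P : Subgroup G) => χ k) :=
    isCharacter_restrict (P : Subgroup G) hχ
  have h1c : IsCharacter ↥(P : Subgroup G) (fun _ : ↥(P : Subgroup G) => (1 : ℂ)) :=
    isCharacter_one
  obtain ⟨n, hn⟩ := classInner_char_nat hα h1c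
  rw [classInner_eq_sum_mul_inv _ h1c] at hn
  have hPc : Nat.card ↥(P : Subgroup G) = p := hP
  have hp0 : (p : ℂ) ≠ 0 := Nat.cast_ne_zero.mpr (Fact.out : p.Prime).ne_zero
  rw [hPc] at hn
  have hsum : ∑ g : ↥(P : Subgroup G), χ (g : G) = (p : ℂ) * n := by
    rw [← hn, ← mul_assoc, mul_inv_cancel₀ hp0, one_mul]
    exact Finset.sum_congr rfl fun g _ => (mul_one _).symm
  have hval : ∀ g : ↥(P : Subgroup G), χ (g : G) =
      (c : ℂ) + (if g = 1 then ((charDegree χ : ℂ) - c) else 0) := by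
    intro g
    by_cases hg : g = 1
    · rw [if_pos hg, hg, char_natCast_charDegree hχ]
      simp
    · rw [if_neg hg, add_zero]
      exact hc g g.2 (fun h => hg (Subtype.ext h))
  rw [Finset.sum_congr rfl (fun g _ => hval g), Finset.sum_add_distrib, Finset.sum_const,
    Finset.sum_ite_eq' Finset.univ (1 : ↥(P : Subgroup G)) (fun _ => (charDegree χ : ℂ) - c),
    if_pos (Finset.mem_univ _), Finset.card_univ, ← Nat.card_eq_fintype_card, hPc,
    nsmul_eq_mul] at hsum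
  have hZ : (p : ℤ) * c + ((charDegree χ : ℤ) - c) = (p : ℤ) * n := by
    exact_mod_cast hsum
  exact Int.modEq_iff_dvd.mpr ⟨c - n, by linarith⟩

/-- The final step of Brauer's theorem. -/
theorem finish (M : Ideal AlgInt) (P : Sylow p G) (hP : Nat.card P = p) (e : ℕ)
    (X Y : Set (IrrCharacter G)) (hB : principalBlock M G = X ∪ Y) (hd : Disjoint X Y)
    (hX : Nat.card X = e) (hY : Nat.card Y = (p - 1) / e)
    (εX : IrrCharacter G → ℤ) (ε : ℤ)
    (h1 : ∀ χ ∈ X, εX χ = 1 ∨ εX χ = -1)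
    (h2 : ∀ χ ∈ X, ∀ z y : G, IsPPart p z y → y ∈ (P : Subgroup G) → y ≠ 1 →
      (χ : G → ℂ) z = (εX χ : ℂ))
    (h3 : ε = 1 ∨ ε = -1)
    (h4 : ∀ θ ∈ Y, ∀ θ' ∈ Y, ∀ g : G, ¬ p ∣ orderOf g → (θ : G → ℂ) g = (θ' : G → ℂ) g)
    (h5 : ∀ θ ∈ Y, ∀ g : G, ¬ p ∣ orderOf g →
      (ε : ℂ) * (θ : G → ℂ) g = ∑ᶠ χ ∈ X, (εX χ : ℂ) * (χ : G → ℂ) g) :
    ∃ X Y : Set (IrrCharacter G), principalBlock M G = X ∪ Y ∧ Disjoint X Y ∧
      Nat.card X = e ∧ Nat.card Y = (p - 1) / e ∧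
      ∃ (εX : IrrCharacter G → ℤ) (ε : ℤ),
        (∀ χ ∈ X, (εX χ = 1 ∨ εX χ = -1) ∧
          (charDegree (χ : G → ℂ) : ℤ) ≡ εX χ [ZMOD p] ∧
          ∀ x : G, x ∈ (P : Subgroup G) → x ≠ 1 →
            ∀ y : G, y ∈ Subgroup.centralizer ((P : Subgroup G) : Set G) → ¬ p ∣ orderOf y →
              (χ : G → ℂ) (x * y) = (εX χ : ℂ)) ∧
        (ε = 1 ∨ ε = -1) ∧
        (∀ θ ∈ Y, (charDegree (θ : G → ℂ) : ℤ) ≡ ε * (e : ℤ) [ZMOD p]) ∧
        (∀ θ ∈ Y, ∀ θ' ∈ Y, ∀ g : G, ¬ p ∣ orderOf g → (θ : G → ℂ) g = (θ' : G → ℂ) g) ∧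
        ∀ θ ∈ Y, ∀ g : G, ¬ p ∣ orderOf g →
          (ε : ℂ) * (θ : G → ℂ) g = ∑ᶠ χ ∈ X, (εX χ : ℂ) * (χ : G → ℂ) g := by
  classical
  have hp : p.Prime := Fact.out
  haveI := finite_irrCharacter G
  letI : Fintype (IrrCharacter G) := Fintype.ofFinite _
  have hreg1 : ¬ p ∣ orderOf (1 : G) := by
    rw [orderOf_one]
    exact fun h => hp.one_lt.ne' (Nat.dvd_one.mp h)
  have hval : ∀ χ ∈ X, ∀ x : G, x ∈ (P : Subgroup G) → x ≠ 1 →
      ∀ y : G, y ∈ Subgroup.centralizer ((P : Subgroup G) : Set G) → ¬ p ∣ orderOf y →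
        (χ : G → ℂ) (x * y) = (εX χ : ℂ) := by
    intro χ hχ x hx hx1 y hy hpy
    refine h2 χ hχ (x * y) x ⟨y, rfl, ?_, ⟨1, by rw [pow_one, orderOf_eq P hP hx hx1]⟩, hpy⟩
      hx hx1
    exact Subgroup.mem_centralizer_iff.mp hy x hx
  have hdeg : ∀ χ ∈ X, (charDegree (χ : G → ℂ) : ℤ) ≡ εX χ [ZMOD p] := by
    intro χ hχ
    apply degree_modEq P hP (isCharacter_of_irr χ.2)
    intro w hw hw1
    have h := hval χ hχ w hw hw1 1 (one_mem _) hreg1
    rwa [mul_one] at h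
  refine ⟨X, Y, hB, hd, hX, hY, εX, ε, fun χ hχ => ⟨h1 χ hχ, hdeg χ hχ, hval χ hχ⟩, h3, ?_,
    h4, h5⟩
  intro θ hθ
  have h6 := h5 θ hθ 1 hreg1
  rw [Cfsg.Agent.Lib.CT.ColumnId.finsum_mem_eq_sum] at h6
  have h7 : ε * (charDegree (θ : G → ℂ) : ℤ) =
      ∑ χ : IrrCharacter G, if χ ∈ X then εX χ * (charDegree (χ : G → ℂ) : ℤ) else 0 := by
    have h : ((ε * (charDegree (θ : G → ℂ) : ℤ) : ℤ) : ℂ) =
        ((∑ χ : IrrCharacter G,
          if χ ∈ X then εX χ * (charDegree (χ : G → ℂ) : ℤ) else 0 : ℤ) : ℂ) := by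
      push_cast
      rw [char_natCast_charDegree (isCharacter_of_irr θ.2), h6]
      refine Finset.sum_congr rfl fun χ _ => ?_
      by_cases hc : χ ∈ X
      · rw [if_pos hc, if_pos hc, char_natCast_charDegree (isCharacter_of_irr χ.2)]
      · rw [if_neg hc, if_neg hc]
    exact_mod_cast h
  have h8 : (p : ℤ) ∣ (∑ χ : IrrCharacter G,
      if χ ∈ X then εX χ * (charDegree (χ : G → ℂ) : ℤ) else 0) - (e : ℤ) := by
    have hcard : (e : ℤ) = ∑ χ : IrrCharacter G, if χ ∈ X then (1 : ℤ) else 0 := by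
      rw [Finset.sum_boole, ← hX, Nat.card_eq_fintype_card, Fintype.card_subtype]
    rw [hcard, ← Finset.sum_sub_distrib]
    apply Finset.dvd_sum
    intro χ _
    by_cases hc : χ ∈ X
    · rw [if_pos hc, if_pos hc]
      have h10 : (p : ℤ) ∣ εX χ - charDegree (χ : G → ℂ) := Int.modEq_iff_dvd.mp (hdeg χ hc)
      have h11 : εX χ * (charDegree (χ : G → ℂ) : ℤ) - 1 =
          (εX χ - charDegree (χ : G → ℂ)) * (-εX χ) := by
        rcases h1 χ hc with h | h <;> rw [h] <;> ring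
      rw [h11]
      exact Dvd.dvd.mul_right h10 _
    · rw [if_neg hc, if_neg hc, sub_zero]
      exact dvd_zero _
  rw [← h7] at h8
  apply Int.modEq_iff_dvd.mpr
  have h12 : ε * (e : ℤ) - (charDegree (θ : G → ℂ) : ℤ) =
      (ε * (charDegree (θ : G → ℂ) : ℤ) - (e : ℤ)) * (-ε) := by
    rcases h3 with h | h <;> rw [h] <;> ring
  rw [h12]
  exact Dvd.dvd.mul_right h8 _

end Cfsg.Agent.Lib.Helper17.BrFin
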