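import Mathlib

/-!
# Modular group algebra tools for a cyclic Sylow subgroup of prime order

Basic identities in `k[G]` (`k` a field of characteristic `p`, `x ∈ G` of order `p`): the element
`u = x - 1`, the norm element, how elements normalizing `⟨x⟩` move `u`, weights on the normalizer
and averaging elements.
-/

set_option autoImplicit false

namespace Cfsg.Agent.Lib.Helper17.BrAlg

open Finset

variable {k : Type*} [Field k] {G : Type*} [Group G]

/-- The normalizer of the cyclic group generated by `x`. -/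
abbrev Nx (x : G) : Subgroup G := Subgroup.normalizer ((Subgroup.zpowers x : Subgroup G) : Set G)

section wsum
variable [Fintype G]

/-- The group algebra element with coefficient function `f`. -/
noncomputable def wsum (f : G → k) : MonoidAlgebra k G := ∑ g, f g • MonoidAlgebra.of k G g

theorem coeff_wsum (f : G → k) (g : G) : (wsum f).coeff g = f g := by
  classical
  unfold wsum
  rw [MonoidAlgebra.coeff_sum, Finsupp.finsetSum_apply]
  simp only [MonoidAlgebra.coeff_smul, MonoidAlgebra.of_apply, MonoidAlgebra.coeff_single,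
    Finsupp.smul_apply, Finsupp.single_apply, smul_eq_mul, mul_ite, mul_one, mul_zero]
  rw [Finset.sum_ite_eq' Finset.univ g, if_pos (Finset.mem_univ _)]

theorem of_mul_wsum (a : G) (f : G → k) :
    MonoidAlgebra.of k G a * wsum f = wsum (fun g => f (a⁻¹ * g)) := by
  unfold wsum
  rw [Finset.mul_sum]
  refine Fintype.sum_equiv (Equiv.mulLeft a) _ _ (fun g => ?_)
  simp only [Equiv.coe_mulLeft, inv_mul_cancel_left, map_mul, mul_smul_comm]

theorem wsum_mul_of (a : G) (f : G → k) :
    wsum f * MonoidAlgebra.of k G a = wsum (fun g => f (g * a⁻¹)) := by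
  unfold wsum
  rw [Finset.sum_mul]
  refine Fintype.sum_equiv (Equiv.mulRight a) _ _ (fun g => ?_)
  simp only [Equiv.coe_mulRight, mul_inv_cancel_right, map_mul, smul_mul_assoc]

theorem wsum_smul (c : k) (f : G → k) : wsum (fun g => c * f g) = c • wsum f := by
  unfold wsum
  rw [Finset.smul_sum]
  exact Finset.sum_congr rfl fun g _ => mul_smul _ _ _

theorem wsum_central (f : G → k) (hf : ∀ g h : G, f (h * g * h⁻¹) = f g)
    (a : MonoidAlgebra k G) : wsum f * a = a * wsum f := by
  induction a using MonoidAlgebra.induction_on with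
  | of m =>
    rw [wsum_mul_of, of_mul_wsum]
    congr 1
    funext g
    rw [← hf (g * m⁻¹) m⁻¹]
    congr 1
    group
  | add x y hx hy => rw [mul_add, add_mul, hx, hy]
  | smul r x hx => rw [mul_smul_comm, smul_mul_assoc, hx]

theorem wsum_smul_eq {V : Type*} [AddCommGroup V] [Module (MonoidAlgebra k G) V] [Module k V]
    [IsScalarTower k (MonoidAlgebra k G) V] (f : G → k) (v : V) :
    wsum f • v = ∑ g, f g • (MonoidAlgebra.of k G g • v) := by
  unfold wsum
  rw [Finset.sum_smul]
  exact Finset.sum_congr rfl fun g _ => smul_assoc _ _ _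

theorem wsum_mul_exists (f : G → k) (a a' : MonoidAlgebra k G)
    (h : ∀ g, f g ≠ 0 → ∃ b, MonoidAlgebra.of k G g * a = a' * b) :
    ∃ b, wsum f * a = a' * b := by
  classical
  choose! B hB using h
  refine ⟨∑ g, f g • B g, ?_⟩
  unfold wsum
  rw [Finset.sum_mul, Finset.mul_sum]
  refine Finset.sum_congr rfl fun g _ => ?_
  by_cases hg : f g = 0
  · simp [hg]
  · rw [smul_mul_assoc, hB g hg, mul_smul_comm]

theorem mul_wsum_exists (f : G → k) (a a' : MonoidAlgebra k G)
    (h : ∀ g, f g ≠ 0 → ∃ b, a * MonoidAlgebra.of k G g = b * a') :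
    ∃ b, a * wsum f = b * a' := by
  classical
  choose! B hB using h
  refine ⟨∑ g, f g • B g, ?_⟩
  unfold wsum
  rw [Finset.sum_mul, Finset.mul_sum]
  refine Finset.sum_congr rfl fun g _ => ?_
  by_cases hg : f g = 0
  · simp [hg]
  · rw [mul_smul_comm, hB g hg, smul_mul_assoc]

end wsum

/-- `x - 1` in the group algebra. -/
noncomputable def uel (k : Type*) [Field k] {G : Type*} [Group G] (x : G) : MonoidAlgebra k G :=
  MonoidAlgebra.of k G x - 1

/-- The norm element `∑_{j<p} x^j`. -/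
noncomputable def NPel (k : Type*) [Field k] {G : Type*} [Group G] (x : G) (p : ℕ) :
    MonoidAlgebra k G :=
  ∑ j ∈ Finset.range p, MonoidAlgebra.of k G x ^ j

theorem NPel_eq (p : ℕ) [Fact p.Prime] [CharP k p] (x : G) : NPel k x p = uel k x ^ (p - 1) := by
  have hp : p.Prime := Fact.out
  have hpoly : (∑ j ∈ Finset.range p, (Polynomial.X : Polynomial k) ^ j) =
      (Polynomial.X - 1) ^ (p - 1) := by
    have h1 : (∑ j ∈ Finset.range p, (Polynomial.X : Polynomial k) ^ j) * (Polynomial.X - 1) =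
        Polynomial.X ^ p - 1 := geom_sum_mul _ _
    have h2 : ((Polynomial.X : Polynomial k) - 1) ^ (p - 1) * (Polynomial.X - 1) =
        Polynomial.X ^ p - 1 := by
      rw [← pow_succ, Nat.sub_add_cancel hp.one_le, sub_pow_char, one_pow]
    have hne : (Polynomial.X - 1 : Polynomial k) ≠ 0 := by
      have := Polynomial.X_sub_C_ne_zero (1 : k)
      simpa using this
    exact mul_right_cancel₀ hne (h1.trans h2.symm)
  have := congrArg (Polynomial.aeval (MonoidAlgebra.of k G x)) hpoly
  simpa [NPel, uel] using this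

theorem NPel_mul_uel (x : G) (p : ℕ) :
    NPel k x p * uel k x = MonoidAlgebra.of k G (x ^ p) - 1 := by
  unfold NPel uel
  rw [geom_sum_mul, map_pow]

theorem uel_pow_p (p : ℕ) [Fact p.Prime] [CharP k p] {x : G} (hx : x ^ p = 1) :
    uel k x ^ p = 0 := by
  have hp : p.Prime := Fact.out
  have h1 : uel k x ^ p = uel k x ^ (p - 1) * uel k x := by
    rw [← pow_succ, Nat.sub_add_cancel hp.one_le]
  rw [h1, ← NPel_eq, NPel_mul_uel, hx, map_one, sub_self]

theorem NPel_mul_uel_eq_zero (p : ℕ) {x : G} (hx : x ^ p = 1) : NPel k x p * uel k x = 0 := by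
  rw [NPel_mul_uel, hx, map_one, sub_self]

theorem of_pow_sub_one (x : G) (j : ℕ) :
    MonoidAlgebra.of k G (x ^ j) - 1 =
      uel k x * ∑ i ∈ Finset.range j, MonoidAlgebra.of k G x ^ i := by
  rw [map_pow]
  exact (mul_geom_sum _ _).symm

theorem of_pow_sub_one' (x : G) (j : ℕ) :
    MonoidAlgebra.of k G (x ^ j) - 1 =
      (∑ i ∈ Finset.range j, MonoidAlgebra.of k G x ^ i) * uel k x := by
  rw [map_pow]
  exact (geom_sum_mul _ _).symm

theorem geom_commute (x : G) (j : ℕ) :
    Commute (∑ i ∈ Finset.range j, MonoidAlgebra.of k G x ^ i) (uel k x) := by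
  show _ * _ = _ * _
  rw [← of_pow_sub_one, ← of_pow_sub_one']

theorem exists_pow_of_mem_zpowers [Finite G] {x w : G} (hw : w ∈ Subgroup.zpowers x) :
    ∃ j : ℕ, w = x ^ j := by
  obtain ⟨j, hj⟩ := (Submonoid.mem_powers_iff _ _).mp (mem_powers_iff_mem_zpowers.mpr hw)
  exact ⟨j, hj.symm⟩

theorem conj_eq_pow [Finite G] {x n : G} (hn : n ∈ Nx x) : ∃ j : ℕ, n * x * n⁻¹ = x ^ j :=
  exists_pow_of_mem_zpowers ((Subgroup.mem_normalizer_iff.mp hn x).mp (Subgroup.mem_zpowers x))

theorem of_sub_one_of_mem [Finite G] {x w : G} (hw : w ∈ Subgroup.zpowers x) :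
    ∃ b : MonoidAlgebra k G, MonoidAlgebra.of k G w - 1 = uel k x * b := by
  obtain ⟨j, rfl⟩ := exists_pow_of_mem_zpowers hw
  exact ⟨_, of_pow_sub_one x j⟩

theorem of_mul_uel [Finite G] {x n : G} (hn : n ∈ Nx x) :
    ∃ b : MonoidAlgebra k G, MonoidAlgebra.of k G n * uel k x = uel k x * b := by
  obtain ⟨j, hj⟩ := conj_eq_pow hn
  refine ⟨(∑ i ∈ Finset.range j, MonoidAlgebra.of k G x ^ i) * MonoidAlgebra.of k G n, ?_⟩
  have h1 : n * x = x ^ j * n := by rw [← hj]; group
  rw [← mul_assoc, ← of_pow_sub_one]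
  unfold uel
  rw [mul_sub, sub_mul, mul_one, one_mul, ← map_mul, ← map_mul, h1]

theorem uel_pow_mul_of [Finite G] {x n : G} (hn : n ∈ Nx x) (r : ℕ) :
    ∃ b : MonoidAlgebra k G, uel k x ^ r * MonoidAlgebra.of k G n = b * uel k x ^ r := by
  obtain ⟨j, hj⟩ := conj_eq_pow (Subgroup.inv_mem _ hn)
  set c : MonoidAlgebra k G := ∑ i ∈ Finset.range j, MonoidAlgebra.of k G x ^ i with hc
  have hcu : Commute c (uel k x) := geom_commute x j
  have h1 : x * n = n * x ^ j := by rw [← hj]; group
  have h2 : uel k x * MonoidAlgebra.of k G n = MonoidAlgebra.of k G n * c * uel k x := by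
    rw [mul_assoc, hc, ← of_pow_sub_one']
    unfold uel
    rw [sub_mul, mul_sub, one_mul, mul_one, ← map_mul, ← map_mul, h1]
  have h3 : ∀ r : ℕ, uel k x ^ r * MonoidAlgebra.of k G n =
      MonoidAlgebra.of k G n * c ^ r * uel k x ^ r := by
    intro r
    induction r with
    | zero => simp
    | succ r ih =>
      have e : uel k x ^ r * c = c * uel k x ^ r := (hcu.pow_right r).eq.symm
      calc uel k x ^ (r + 1) * MonoidAlgebra.of k G n
          = uel k x ^ r * (uel k x * MonoidAlgebra.of k G n) := by rw [pow_succ, mul_assoc]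
        _ = (uel k x ^ r * MonoidAlgebra.of k G n) * c * uel k x := by
            rw [h2, ← mul_assoc, ← mul_assoc]
        _ = MonoidAlgebra.of k G n * c ^ r * (uel k x ^ r * c) * uel k x := by
            rw [ih, mul_assoc (MonoidAlgebra.of k G n * c ^ r)]
        _ = MonoidAlgebra.of k G n * c ^ (r + 1) * uel k x ^ (r + 1) := by
            rw [e, pow_succ, pow_succ]
            simp only [mul_assoc]
  exact ⟨_, h3 r⟩

/-- A weight: a function on `G` that is multiplicative on `N_G(⟨x⟩)` and trivial on `C_G(x)`. -/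
structure IsWt (x : G) (lam : G → k) : Prop where
  mul : ∀ a ∈ Nx x, ∀ b ∈ Nx x, lam (a * b) = lam a * lam b
  cent : ∀ c : G, c * x = x * c → lam c = 1

namespace IsWt

variable {x : G} {lam : G → k}

theorem one (h : IsWt x lam) : lam 1 = 1 := h.cent 1 (by simp)

theorem pow (h : IsWt x lam) (j : ℕ) : lam (x ^ j) = 1 :=
  h.cent _ (by rw [← pow_succ, ← pow_succ'])

theorem mul_inv (h : IsWt x lam) {a : G} (ha : a ∈ Nx x) : lam a * lam a⁻¹ = 1 := by
  rw [← h.mul a ha a⁻¹ (Subgroup.inv_mem _ ha), mul_inv_cancel, h.one]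

theorem ne_zero (h : IsWt x lam) {a : G} (ha : a ∈ Nx x) : lam a ≠ 0 :=
  left_ne_zero_of_mul_eq_one (h.mul_inv ha)

theorem inv (h : IsWt x lam) {a : G} (ha : a ∈ Nx x) : lam a⁻¹ = (lam a)⁻¹ :=
  eq_inv_of_mul_eq_one_right (h.mul_inv ha)

end IsWt

theorem cent_mem_Nx {x c : G} (hc : c * x = x * c) : c ∈ Nx x := by
  apply Subgroup.centralizer_le_normalizer
  rw [Subgroup.mem_centralizer_iff]
  intro w hw
  obtain ⟨z, rfl⟩ := Subgroup.mem_zpowers_iff.mp hw
  exact ((show Commute c x from hc).zpow_right z).eq.symm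

theorem mem_Nx_self (x : G) : x ∈ Nx x := cent_mem_Nx rfl

theorem pow_mem_Nx (x : G) (j : ℕ) : x ^ j ∈ Nx x := Subgroup.pow_mem _ (mem_Nx_self x) j

/-- The standing hypotheses: `x` has prime order `p`, the field has characteristic `p`, `H` is a
`p'`-subgroup of `N = N_G(⟨x⟩)` with `N = ⟨x⟩ H`, and `⟨x⟩` is the only subgroup of order `p`
of `N` among the conjugates. -/
structure Setup (k : Type*) [Field k] {G : Type*} [Group G] (p : ℕ) (x : G) (H : Subgroup G) :
    Prop where
  prime : p.Prime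
  charP : CharP k p
  ord : orderOf x = p
  hHN : H ≤ Nx x
  hcard : (Nat.card H : k) ≠ 0
  hPH : ∀ n ∈ Nx x, ∃ j : ℕ, ∃ h ∈ H, n = x ^ j * h
  hTI : ∀ g : G, g⁻¹ * x * g ∈ Nx x → g ∈ Nx x

theorem Setup.pow_eq_one {p : ℕ} {x : G} {H : Subgroup G} (hS : Setup k p x H) : x ^ p = 1 := by
  rw [← hS.ord]
  exact pow_orderOf_eq_one x

open Classical in
/-- The coefficient function of the averaging element of `H` with weight `lam`. -/
noncomputable def avgf (H : Subgroup G) (lam : G → k) : G → k :=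
  fun g => if g ∈ H then (Nat.card H : k)⁻¹ * (lam g)⁻¹ else 0

/-- The averaging element `|H|⁻¹ ∑_{h ∈ H} lam(h)⁻¹ h`. -/
noncomputable def avg [Fintype G] (H : Subgroup G) (lam : G → k) : MonoidAlgebra k G :=
  wsum (avgf H lam)

section avg

theorem avgf_ne_zero {H : Subgroup G} {lam : G → k} {g : G} (h : avgf H lam g ≠ 0) : g ∈ H := by
  by_contra hg
  exact h (if_neg hg)

variable [Fintype G] {p : ℕ} {x : G} {H : Subgroup G} {lam : G → k}

theorem of_mul_avg (hS : Setup k p x H) (hl : IsWt x lam) {h : G} (hh : h ∈ H) :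
    MonoidAlgebra.of k G h * avg H lam = lam h • avg H lam := by
  unfold avg
  rw [of_mul_wsum, ← wsum_smul]
  congr 1
  funext g
  unfold avgf
  by_cases hg : g ∈ H
  · have hg' : h⁻¹ * g ∈ H := H.mul_mem (H.inv_mem hh) hg
    rw [if_pos hg, if_pos hg', hl.mul _ (Subgroup.inv_mem _ (hS.hHN hh)) _ (hS.hHN hg),
      hl.inv (hS.hHN hh), mul_inv, inv_inv]
    ring
  · have hg' : h⁻¹ * g ∉ H := fun hc => hg (by simpa using H.mul_mem hh hc)
    rw [if_neg hg, if_neg hg', mul_zero]

theorem avg_mul_of (hS : Setup k p x H) (hl : IsWt x lam) {h : G} (hh : h ∈ H) :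
    avg H lam * MonoidAlgebra.of k G h = lam h • avg H lam := by
  unfold avg
  rw [wsum_mul_of, ← wsum_smul]
  congr 1
  funext g
  unfold avgf
  by_cases hg : g ∈ H
  · have hg' : g * h⁻¹ ∈ H := H.mul_mem hg (H.inv_mem hh)
    rw [if_pos hg, if_pos hg', hl.mul _ (hS.hHN hg) _ (Subgroup.inv_mem _ (hS.hHN hh)),
      hl.inv (hS.hHN hh), mul_inv, inv_inv]
    ring
  · have hg' : g * h⁻¹ ∉ H := fun hc => hg (by simpa using H.mul_mem hc hh)
    rw [if_neg hg, if_neg hg', mul_zero]

theorem avg_mul_uel [Finite G] (hS : Setup k p x H) :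
    ∃ b : MonoidAlgebra k G, avg H lam * uel k x = uel k x * b :=
  wsum_mul_exists _ _ _ fun _ hg => of_mul_uel (hS.hHN (avgf_ne_zero hg))

theorem uel_pow_mul_avg [Finite G] (hS : Setup k p x H) (r : ℕ) :
    ∃ b : MonoidAlgebra k G, uel k x ^ r * avg H lam = b * uel k x ^ r :=
  mul_wsum_exists _ _ _ fun _ hg => uel_pow_mul_of (hS.hHN (avgf_ne_zero hg)) r

theorem sum_avgf_smul (hS : Setup k p x H) (hl : IsWt x lam) {V : Type*} [AddCommGroup V]
    [Module k V] (w : V) : ∑ g, avgf H lam g • (lam g • w) = w := by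
  classical
  have e : ∀ g : G, avgf H lam g • (lam g • w) =
      if g ∈ H then (Nat.card H : k)⁻¹ • w else 0 := by
    intro g
    unfold avgf
    by_cases hg : g ∈ H
    · rw [if_pos hg, if_pos hg, smul_smul, mul_assoc, inv_mul_cancel₀ (hl.ne_zero (hS.hHN hg)),
        mul_one]
    · rw [if_neg hg, if_neg hg, zero_smul]
  simp_rw [e]
  rw [Finset.sum_ite, Finset.sum_const_zero, add_zero, Finset.sum_const]
  have hc : (Finset.univ.filter (fun g : G => g ∈ H)).card = Nat.card H := by
    rw [Nat.card_eq_fintype_card, Fintype.card_subtype]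
  rw [hc, ← Nat.cast_smul_eq_nsmul k, smul_smul, mul_inv_cancel₀ hS.hcard, one_smul]

theorem avg_smul_of_eigen (hS : Setup k p x H) (hl : IsWt x lam) {V : Type*} [AddCommGroup V]
    [Module (MonoidAlgebra k G) V] [Module k V] [IsScalarTower k (MonoidAlgebra k G) V] (v : V)
    (hv : ∀ h ∈ H, MonoidAlgebra.of k G h • v = lam h • v) : avg H lam • v = v := by
  unfold avg
  rw [wsum_smul_eq]
  conv_rhs => rw [← sum_avgf_smul hS hl v]
  refine Finset.sum_congr rfl fun g _ => ?_
  by_cases hg : g ∈ H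
  · rw [hv g hg]
  · have : avgf H lam g = 0 := if_neg hg
    rw [this, zero_smul, zero_smul]

theorem avg_smul_sub_mem (hS : Setup k p x H) (hl : IsWt x lam) {V : Type*} [AddCommGroup V]
    [Module (MonoidAlgebra k G) V] [Module k V] [IsScalarTower k (MonoidAlgebra k G) V]
    (N₂ : Submodule (MonoidAlgebra k G) V) (w : V)
    (hw : ∀ h ∈ H, MonoidAlgebra.of k G h • w - lam h • w ∈ N₂) : avg H lam • w - w ∈ N₂ := by
  have e : avg H lam • w - w =
      ∑ g, avgf H lam g • (MonoidAlgebra.of k G g • w - lam g • w) := by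
    unfold avg
    rw [wsum_smul_eq]
    have e0 := sum_avgf_smul hS hl w
    calc ∑ g, avgf H lam g • (MonoidAlgebra.of k G g • w) - w
        = ∑ g, avgf H lam g • (MonoidAlgebra.of k G g • w) -
            ∑ g, avgf H lam g • (lam g • w) := by rw [e0]
      _ = _ := by
        rw [← Finset.sum_sub_distrib]
        exact Finset.sum_congr rfl fun g _ => (smul_sub _ _ _).symm
  rw [e]
  refine Submodule.sum_mem _ fun g _ => ?_
  by_cases hg : g ∈ H
  · exact N₂.smul_of_tower_mem _ (hw g hg)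
  · have : avgf H lam g = 0 := if_neg hg
    rw [this, zero_smul]
    exact N₂.zero_mem

end avg

end Cfsg.Agent.Lib.Helper17.BrAlg
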