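import Mathlib
import Cfsg.Agent.Lib.Helper17.BrAlg

/-!
# Good pairs of submodules and good simple subquotients

A pair `N₂ ≤ N₁` of submodules of a `k[G]`-module is *good* for a weight `lam` if `N₁ / N₂`
contains an element killed by the norm element of `⟨x⟩`, on which `H` acts through `lam`, and
which is not in `(x - 1) (N₁ / N₂)`.  Goodness passes to one of the two layers of any
intermediate submodule, hence to a simple subquotient.
-/

set_option autoImplicit false
set_option linter.unusedSectionVars false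
set_option linter.style.haveILetI false

namespace Cfsg.Agent.Lib.Helper17.BrGood

open Cfsg.Agent.Lib.Helper17.BrAlg

variable {k : Type*} [Field k] {G : Type*} [Group G] [Fintype G]
variable {X : Type*} [AddCommGroup X] [Module (MonoidAlgebra k G) X] [Module k X]
  [IsScalarTower k (MonoidAlgebra k G) X]

/-- A good pair of submodules. -/
def GoodPair (p : ℕ) (x : G) (H : Subgroup G) (lam : G → k)
    (N₂ N₁ : Submodule (MonoidAlgebra k G) X) : Prop :=
  N₂ ≤ N₁ ∧ ∃ w ∈ N₁, NPel k x p • w ∈ N₂ ∧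
    (∀ h ∈ H, MonoidAlgebra.of k G h • w - lam h • w ∈ N₂) ∧
    ∀ y ∈ N₁, w - uel k x • y ∉ N₂

/-- A good module. -/
def GoodMod (p : ℕ) (x : G) (H : Subgroup G) (lam : G → k) (S : Type*) [AddCommGroup S]
    [Module (MonoidAlgebra k G) S] [Module k S] : Prop :=
  ∃ w : S, NPel k x p • w = 0 ∧ (∀ h ∈ H, MonoidAlgebra.of k G h • w = lam h • w) ∧
    ∀ y : S, w ≠ uel k x • y

variable {p : ℕ} {x : G} {H : Subgroup G} {lam : G → k}

theorem GoodPair.split (hS : Setup k p x H) (hl : IsWt x lam)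
    {N₂ N₁ c : Submodule (MonoidAlgebra k G) X}
    (h : GoodPair p x H lam N₂ N₁) (h2c : N₂ ≤ c) (hc1 : c ≤ N₁) :
    GoodPair p x H lam N₂ c ∨ GoodPair p x H lam c N₁ := by
  obtain ⟨h21, w, hw1, hwN, hwH, hwu⟩ := h
  by_cases hex : ∃ y ∈ N₁, w - uel k x • y ∈ c
  · left
    obtain ⟨y, hy, hyc⟩ := hex
    haveI : Fact p.Prime := ⟨hS.prime⟩
    haveI := hS.charP
    obtain ⟨b, hb⟩ := avg_mul_uel (lam := lam) hS
    obtain ⟨b', hb'⟩ := uel_pow_mul_avg (lam := lam) hS (p - 1)
    refine ⟨h2c, avg H lam • (w - uel k x • y), c.smul_mem _ hyc, ?_, ?_, ?_⟩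
    · rw [NPel_eq, smul_smul, hb', mul_smul]
      apply N₂.smul_mem
      rw [← NPel_eq, smul_sub, smul_smul, NPel_mul_uel_eq_zero p hS.pow_eq_one, zero_smul,
        sub_zero]
      exact hwN
    · intro h hh
      rw [smul_smul, of_mul_avg hS hl hh, smul_assoc, sub_self]
      exact N₂.zero_mem
    · intro y' hy' hcon
      apply hwu (b • y + y') (N₁.add_mem (N₁.smul_mem _ hy) (hc1 hy'))
      have h1 : avg H lam • w - w ∈ N₂ := avg_smul_sub_mem hS hl N₂ w hwH
      have e : w - uel k x • (b • y + y') =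
          (avg H lam • (w - uel k x • y) - uel k x • y') - (avg H lam • w - w) := by
        rw [smul_sub, smul_smul (avg H lam), hb, mul_smul, smul_add]
        abel
      rw [e]
      exact N₂.sub_mem hcon h1
  · right
    push Not at hex
    exact ⟨hc1, w, hw1, h2c hwN, fun h hh => h2c (hwH h hh), hex⟩

/-- The dimension over `k` of a submodule. -/
noncomputable def rk (N : Submodule (MonoidAlgebra k G) X) : ℕ :=
  Module.finrank k ↥(N.restrictScalars k)

theorem rk_mono [Module.Finite k X] {N N' : Submodule (MonoidAlgebra k G) X} (h : N ≤ N') :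
    rk N ≤ rk N' :=
  Submodule.finrank_mono (show N.restrictScalars k ≤ N'.restrictScalars k from fun _ hx => h hx)

theorem rk_strictMono [Module.Finite k X] {N N' : Submodule (MonoidAlgebra k G) X}
    (h : N < N') : rk N < rk N' := by
  apply Submodule.finrank_lt_finrank_of_lt
  obtain ⟨h1, z, hz1, hz2⟩ := SetLike.lt_iff_le_and_exists.mp h
  exact SetLike.lt_iff_le_and_exists.mpr ⟨fun _ hx => h1 hx, z, hz1, hz2⟩

theorem exists_covBy [Module.Finite k X] (hS : Setup k p x H) (hl : IsWt x lam)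
    {X₀ : Submodule (MonoidAlgebra k G) X} (h : GoodPair p x H lam ⊥ X₀) :
    ∃ N₂ N₁ : Submodule (MonoidAlgebra k G) X, N₁ ≤ X₀ ∧ N₂ ⋖ N₁ ∧ GoodPair p x H lam N₂ N₁ := by
  classical
  let Q : ℕ → Prop := fun n => ∃ N₂ N₁ : Submodule (MonoidAlgebra k G) X,
    N₁ ≤ X₀ ∧ GoodPair p x H lam N₂ N₁ ∧ rk N₁ - rk N₂ = n
  have hQ : ∃ n, Q n := ⟨_, ⊥, X₀, le_rfl, h, rfl⟩
  obtain ⟨N₂, N₁, h1, hg, hn⟩ := Nat.find_spec hQ
  refine ⟨N₂, N₁, h1, ?_, hg⟩
  have hlt : N₂ < N₁ := by
    refine lt_of_le_of_ne hg.1 ?_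
    rintro rfl
    obtain ⟨_, w, hw1, _, _, hwu⟩ := hg
    have := hwu 0 (Submodule.zero_mem _)
    rw [smul_zero, sub_zero] at this
    exact this hw1
  refine ⟨hlt, fun c h2c hc1 => ?_⟩
  rcases hg.split hS hl h2c.le hc1.le with h' | h'
  · have hlt' : rk c - rk N₂ < Nat.find hQ := by
      rw [← hn]
      have := rk_strictMono (k := k) hc1
      have := rk_mono (k := k) h2c.le
      omega
    exact Nat.find_min hQ hlt' ⟨N₂, c, hc1.le.trans h1, h', rfl⟩
  · have hlt' : rk N₁ - rk c < Nat.find hQ := by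
      rw [← hn]
      have := rk_strictMono (k := k) h2c
      have := rk_mono (k := k) hc1.le
      omega
    exact Nat.find_min hQ hlt' ⟨c, N₁, h1, h', rfl⟩

theorem GoodPair.goodMod {N₂ N₁ : Submodule (MonoidAlgebra k G) X}
    (h : GoodPair p x H lam N₂ N₁) :
    GoodMod p x H lam (↥N₁ ⧸ N₂.comap N₁.subtype) := by
  obtain ⟨h21, w, hw1, hwN, hwH, hwu⟩ := h
  refine ⟨Submodule.Quotient.mk ⟨w, hw1⟩, ?_, ?_, ?_⟩
  · rw [← Submodule.Quotient.mk_smul, Submodule.Quotient.mk_eq_zero]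
    exact hwN
  · intro h hh
    rw [← Submodule.Quotient.mk_smul, ← Submodule.Quotient.mk_smul, Submodule.Quotient.eq]
    exact hwH h hh
  · intro y hy
    obtain ⟨⟨y', hy'⟩, rfl⟩ := Submodule.Quotient.mk_surjective _ y
    rw [← Submodule.Quotient.mk_smul, Submodule.Quotient.eq] at hy
    exact hwu y' hy' hy

theorem smul_eq_of_quot {N₂ N₁ : Submodule (MonoidAlgebra k G) X} (e : MonoidAlgebra k G)
    (he : ∀ b ∈ N₁, e • b = b) (v : ↥N₁ ⧸ N₂.comap N₁.subtype) : e • v = v := by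
  obtain ⟨⟨b, hb⟩, rfl⟩ := Submodule.Quotient.mk_surjective _ v
  rw [← Submodule.Quotient.mk_smul]
  congr 1
  exact Subtype.ext (he b hb)

theorem finite_quot [Module.Finite k X] (N₂ N₁ : Submodule (MonoidAlgebra k G) X) :
    Module.Finite k (↥N₁ ⧸ N₂.comap N₁.subtype) := by
  haveI : Module.Finite k ↥N₁ :=
    Module.Finite.of_injective (N₁.subtype.restrictScalars k) (Submodule.injective_subtype N₁)
  let f : ↥N₁ →ₗ[k] (↥N₁ ⧸ N₂.comap N₁.subtype) :=
    { toFun := Submodule.Quotient.mk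
      map_add' := fun _ _ => rfl
      map_smul' := fun r v => Submodule.Quotient.mk_smul _ r v }
  exact Module.Finite.of_surjective f (Submodule.Quotient.mk_surjective _)

end Cfsg.Agent.Lib.Helper17.BrGood
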