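import Mathlib

/-!
# Sums over a finite set permuted by an element of prime order

If `τ` is a permutation with `τ ^ p = 1` (`p` prime) and the sum of `F` over every non-trivial
`τ`-orbit (listed as `τ ^ j ω`, `j < p`) vanishes, then the sum of `F` over everything is the
sum of `F` over the fixed points.
-/

set_option autoImplicit false

namespace Cfsg.Agent.Lib.Helper17.BrOrb

open Finset

theorem orbit_sum {Ω : Type*} [Fintype Ω] [DecidableEq Ω] {M : Type*} [AddCommMonoid M]
    (τ : Equiv.Perm Ω) (p : ℕ) (hp : p.Prime) (hτ : τ ^ p = 1) (F : Ω → M)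
    (h : ∀ ω, τ ω ≠ ω → ∑ j ∈ Finset.range p, F ((τ ^ j) ω) = 0) :
    ∑ ω, F ω = ∑ ω ∈ Finset.univ.filter (fun ω => τ ω = ω), F ω := by
  classical
  have key : ∀ n : ℕ, ∀ T : Finset Ω, T.card = n → (∀ ω ∈ T, τ ω ∈ T) →
      ∑ ω ∈ T, F ω = ∑ ω ∈ T.filter (fun ω => τ ω = ω), F ω := by
    intro n
    induction n using Nat.strong_induction_on with
    | _ n ih =>
      intro T hT hstab
      by_cases hall : ∀ ω ∈ T, τ ω = ω
      · rw [Finset.filter_true_of_mem hall]
      · push Not at hall
        obtain ⟨ω₀, hω₀T, hω₀⟩ := hall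
        have hpowT : ∀ j : ℕ, (τ ^ j) ω₀ ∈ T := by
          intro j
          induction j with
          | zero => simpa using hω₀T
          | succ j ihj =>
            rw [pow_succ', Equiv.Perm.mul_apply]
            exact hstab _ ihj
        have hmod : ∀ m : ℕ, (τ ^ m) ω₀ = (τ ^ (m % p)) ω₀ := by
          intro m
          rw [pow_eq_pow_mod m hτ]
        have hfixpow : ∀ j : ℕ, τ ((τ ^ j) ω₀) ≠ (τ ^ j) ω₀ := by
          intro j hj
          apply hω₀
          have h1 : (τ ^ j) (τ ω₀) = (τ ^ j) ω₀ := by
            rw [← Equiv.Perm.mul_apply, ← pow_succ, pow_succ', Equiv.Perm.mul_apply]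
            exact hj
          exact (τ ^ j).injective h1
        have hinj : Set.InjOn (fun j => (τ ^ j) ω₀) (Finset.range p : Set ℕ) := by
          have aux : ∀ i j : ℕ, i < j → j < p → (τ ^ i) ω₀ = (τ ^ j) ω₀ → False := by
            intro i j hij hjp heq
            have hd : (τ ^ (j - i)) ω₀ = ω₀ := by
              have h1 : (τ ^ i) ((τ ^ (j - i)) ω₀) = (τ ^ i) ω₀ := by
                rw [← Equiv.Perm.mul_apply, ← pow_add, Nat.add_sub_cancel' hij.le]
                exact heq.symm
              exact (τ ^ i).injective h1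
            have hcop : Nat.Coprime (j - i) p := by
              rw [Nat.coprime_comm]
              exact (Nat.Prime.coprime_iff_not_dvd hp).mpr
                (Nat.not_dvd_of_pos_of_lt (by omega) (by omega))
            obtain ⟨a, b, hab⟩ : ∃ a b : ℤ, ((j - i : ℕ) : ℤ) * a + (p : ℤ) * b = 1 := by
              have := Nat.Coprime.gcd_eq_one hcop
              have h2 := Int.gcd_eq_gcd_ab ((j - i : ℕ) : ℤ) (p : ℤ)
              rw [Int.gcd_natCast_natCast, this] at h2
              exact ⟨_, _, by simpa using h2.symm⟩
            have hmemd : τ ^ (j - i) ∈ MulAction.stabilizer (Equiv.Perm Ω) ω₀ := by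
              rw [MulAction.mem_stabilizer_iff]
              exact hd
            have hmemp : τ ^ p ∈ MulAction.stabilizer (Equiv.Perm Ω) ω₀ := by
              rw [hτ]
              exact Subgroup.one_mem _
            have hτmem : τ ∈ MulAction.stabilizer (Equiv.Perm Ω) ω₀ := by
              have e : τ = (τ ^ (j - i)) ^ a * (τ ^ p) ^ b := by
                rw [← zpow_natCast τ (j - i), ← zpow_natCast τ p, ← zpow_mul, ← zpow_mul,
                  ← zpow_add, hab, zpow_one]
              rw [e]
              exact Subgroup.mul_mem _ (Subgroup.zpow_mem _ hmemd a) (Subgroup.zpow_mem _ hmemp b)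
            exact hω₀ (MulAction.mem_stabilizer_iff.mp hτmem)
          intro i hi j hj heq
          simp only [Finset.coe_range, Set.mem_Iio] at hi hj
          by_contra hne
          rcases Nat.lt_or_gt_of_ne hne with hlt | hlt
          · exact aux i j hlt hj heq
          · exact aux j i hlt hi heq.symm
        set O : Finset Ω := (Finset.range p).image (fun j => (τ ^ j) ω₀) with hO
        have hOT : O ⊆ T := by
          intro ω hω
          rw [hO, Finset.mem_image] at hω
          obtain ⟨j, _, rfl⟩ := hω
          exact hpowT j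
        have hmemO : ∀ m : ℕ, (τ ^ m) ω₀ ∈ O := by
          intro m
          rw [hmod m, hO, Finset.mem_image]
          exact ⟨m % p, Finset.mem_range.mpr (Nat.mod_lt _ hp.pos), rfl⟩
        have hsumO : ∑ ω ∈ O, F ω = 0 := by
          rw [hO, Finset.sum_image hinj]
          exact h ω₀ hω₀
        have hstab' : ∀ ω ∈ T \ O, τ ω ∈ T \ O := by
          intro ω hω
          rw [Finset.mem_sdiff] at hω ⊢
          refine ⟨hstab ω hω.1, fun hc => hω.2 ?_⟩
          rw [hO, Finset.mem_image] at hc
          obtain ⟨j, _, hj⟩ := hc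
          have h1 : τ ((τ ^ (j + (p - 1))) ω₀) = τ ω := by
            rw [← Equiv.Perm.mul_apply, ← pow_succ']
            have : j + (p - 1) + 1 = j + p := by have := hp.pos; omega
            rw [this, pow_add, hτ, mul_one]
            exact hj
          rw [← τ.injective h1]
          exact hmemO _
        have hcard : (T \ O).card < n := by
          rw [← hT]
          apply Finset.card_lt_card
          refine Finset.ssubset_iff_subset_ne.mpr ⟨Finset.sdiff_subset, fun heq => ?_⟩
          have h1 : ω₀ ∈ T \ O := by rw [heq]; exact hω₀T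
          have h2 : ω₀ ∈ O := by simpa using hmemO 0
          exact (Finset.mem_sdiff.mp h1).2 h2
        have hfil : (T \ O).filter (fun ω => τ ω = ω) = T.filter (fun ω => τ ω = ω) := by
          ext ω
          simp only [Finset.mem_filter, Finset.mem_sdiff]
          constructor
          · rintro ⟨⟨h1, _⟩, h3⟩
            exact ⟨h1, h3⟩
          · rintro ⟨h1, h3⟩
            refine ⟨⟨h1, fun hc => ?_⟩, h3⟩
            rw [hO, Finset.mem_image] at hc
            obtain ⟨j, _, rfl⟩ := hc
            exact hfixpow j h3
        rw [← Finset.sum_sdiff hOT, hsumO, add_zero, ih _ hcard (T \ O) rfl hstab', hfil]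
  have := key _ Finset.univ rfl (fun ω _ => Finset.mem_univ _)
  exact this

/-- For a `τ`-invariant function with values in a module of characteristic `p`, the sum over
everything is the sum over the fixed points. -/
theorem orbit_sum_invariant {Ω : Type*} [Fintype Ω] [DecidableEq Ω] {M : Type*}
    [AddCommMonoid M] (τ : Equiv.Perm Ω) (p : ℕ) (hp : p.Prime) (hτ : τ ^ p = 1) (F : Ω → M)
    (hF : ∀ ω, F (τ ω) = F ω) (hpM : ∀ m : M, p • m = 0) :
    ∑ ω, F ω = ∑ ω ∈ Finset.univ.filter (fun ω => τ ω = ω), F ω := by
  apply orbit_sum τ p hp hτ F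
  intro ω _
  have hj : ∀ j : ℕ, F ((τ ^ j) ω) = F ω := by
    intro j
    induction j with
    | zero => simp
    | succ j ih => rw [pow_succ', Equiv.Perm.mul_apply, hF, ih]
  rw [Finset.sum_congr rfl (fun j _ => hj j), Finset.sum_const, Finset.card_range]
  exact hpM _

end Cfsg.Agent.Lib.Helper17.BrOrb
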