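import Mathlib
import Cfsg.Agent.Lib.Helper17.BrAlg
import Cfsg.Agent.Lib.Helper17.BrOrb
import Cfsg.Agent.Lib.Helper17.BrGood

/-!
# A good left ideal inside a block of `k[G]`

For a central idempotent `e = ∑ cb(g) g` of augmentation one (the principal block idempotent)
and a weight `lam`, the left ideal `k[G] e W`, `W = ∑_{n ∈ N} lam(n)⁻¹ n`, is good for `lam`.
-/

set_option autoImplicit false
set_option linter.unusedSectionVars false
set_option linter.style.haveILetI false

namespace Cfsg.Agent.Lib.Helper17.BrWit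

open Cfsg.Agent.Lib.Helper17.BrAlg Cfsg.Agent.Lib.Helper17.BrGood Cfsg.Agent.Lib.Helper17.BrOrb

variable {k : Type*} [Field k] {G : Type*} [Group G] [Fintype G]

/-- Coefficient data of a central idempotent of augmentation one. -/
structure IsBlk (cb : G → k) : Prop where
  conj : ∀ g h : G, cb (h * g * h⁻¹) = cb g
  sum_one : ∑ g, cb g = 1
  idem : ∀ g : G, ∑ y, cb y * cb (y⁻¹ * g) = cb g

theorem IsBlk.mul_self {cb : G → k} (h : IsBlk cb) : wsum cb * wsum cb = wsum cb := by
  ext g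
  rw [MonoidAlgebra.coeff_mul_apply_left, coeff_wsum,
    Finsupp.sum_fintype _ _ (fun _ => zero_mul _)]
  simp_rw [coeff_wsum]
  exact h.idem g

open Classical in
/-- The coefficient function of `W = ∑_{n ∈ N} lam(n)⁻¹ n`. -/
noncomputable def wtf (x : G) (lam : G → k) : G → k :=
  fun g => if g ∈ Nx x then (lam g)⁻¹ else 0

variable {p : ℕ} {x : G} {H : Subgroup G} {lam : G → k} {cb : G → k}

theorem of_mul_W (hl : IsWt x lam) {n : G} (hn : n ∈ Nx x) :
    MonoidAlgebra.of k G n * wsum (wtf x lam) = lam n • wsum (wtf x lam) := by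
  rw [of_mul_wsum, ← wsum_smul]
  congr 1
  funext g
  unfold wtf
  by_cases hg : g ∈ Nx x
  · have hg' : n⁻¹ * g ∈ Nx x := Subgroup.mul_mem _ (Subgroup.inv_mem _ hn) hg
    rw [if_pos hg, if_pos hg', hl.mul _ (Subgroup.inv_mem _ hn) _ hg, hl.inv hn, mul_inv, inv_inv]
  · have hg' : n⁻¹ * g ∉ Nx x := fun hc => hg (by simpa using Subgroup.mul_mem _ hn hc)
    rw [if_neg hg, if_neg hg', mul_zero]

theorem W_mul_of (hl : IsWt x lam) {n : G} (hn : n ∈ Nx x) :
    wsum (wtf x lam) * MonoidAlgebra.of k G n = lam n • wsum (wtf x lam) := by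
  rw [wsum_mul_of, ← wsum_smul]
  congr 1
  funext g
  unfold wtf
  by_cases hg : g ∈ Nx x
  · have hg' : g * n⁻¹ ∈ Nx x := Subgroup.mul_mem _ hg (Subgroup.inv_mem _ hn)
    rw [if_pos hg, if_pos hg', hl.mul _ hg _ (Subgroup.inv_mem _ hn), hl.inv hn, mul_inv, inv_inv,
      mul_comm]
  · have hg' : g * n⁻¹ ∉ Nx x := fun hc => hg (by simpa using Subgroup.mul_mem _ hc hn)
    rw [if_neg hg, if_neg hg', mul_zero]

/-- The left ideal `k[G] e W`. -/
noncomputable def X0 (cb : G → k) (x : G) (lam : G → k) :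
    Submodule (MonoidAlgebra k G) (MonoidAlgebra k G) :=
  Submodule.span (MonoidAlgebra k G) {wsum cb * wsum (wtf x lam)}

theorem X0_eb (hb : IsBlk cb) {b : MonoidAlgebra k G} (hb' : b ∈ X0 cb x lam) :
    wsum cb * b = b := by
  obtain ⟨a, rfl⟩ := Submodule.mem_span_singleton.mp hb'
  calc wsum cb * (a • (wsum cb * wsum (wtf x lam)))
      = (wsum cb * a) * (wsum cb * wsum (wtf x lam)) := by rw [smul_eq_mul, mul_assoc]
    _ = a * ((wsum cb * wsum cb) * wsum (wtf x lam)) := by
        rw [wsum_central cb hb.conj a, mul_assoc, mul_assoc]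
    _ = a • (wsum cb * wsum (wtf x lam)) := by rw [hb.mul_self, smul_eq_mul]

theorem X0_mul_x (hl : IsWt x lam) {b : MonoidAlgebra k G} (hb' : b ∈ X0 cb x lam) :
    b * MonoidAlgebra.of k G x = b := by
  obtain ⟨a, rfl⟩ := Submodule.mem_span_singleton.mp hb'
  rw [smul_eq_mul, mul_assoc, mul_assoc, W_mul_of hl (mem_Nx_self x), hl.cent x rfl, one_smul]

theorem X0_coeff (hl : IsWt x lam) {b : MonoidAlgebra k G} (hb' : b ∈ X0 cb x lam) :
    (uel k x * b).coeff 1 = 0 := by
  have h1 := X0_mul_x hl hb'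
  have h2 : b.coeff 1 = b.coeff x⁻¹ := by
    conv_lhs => rw [← h1]
    rw [MonoidAlgebra.of_apply, MonoidAlgebra.coeff_mul_single_apply, one_mul, mul_one]
  unfold uel
  rw [sub_mul, one_mul, MonoidAlgebra.coeff_sub, Finsupp.sub_apply, MonoidAlgebra.of_apply,
    MonoidAlgebra.coeff_single_mul_apply, one_mul, mul_one, h2, sub_self]

theorem coeff_one_eb_W (hS : Setup k p x H) (hl : IsWt x lam) (hb : IsBlk cb) :
    (wsum cb * wsum (wtf x lam)).coeff 1 = 1 := by
  classical
  haveI := hS.charP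
  have e1 : (wsum cb * wsum (wtf x lam)).coeff 1 = ∑ g, wtf x lam g * cb g⁻¹ := by
    conv_lhs => rw [show wsum (wtf x lam) = ∑ g, wtf x lam g • MonoidAlgebra.of k G g from rfl]
    rw [Finset.mul_sum, MonoidAlgebra.coeff_sum, Finsupp.finsetSum_apply]
    refine Finset.sum_congr rfl fun g _ => ?_
    rw [mul_smul_comm, MonoidAlgebra.coeff_smul, Finsupp.smul_apply, MonoidAlgebra.of_apply,
      MonoidAlgebra.coeff_mul_single_apply, coeff_wsum, one_mul, mul_one, smul_eq_mul]
  rw [e1]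
  let τ : Equiv.Perm G := MulAut.toPerm G (MulAut.conj x)
  have hτ : ∀ g : G, τ g = x * g * x⁻¹ := fun g => rfl
  have hτp : τ ^ p = 1 := by
    show (MulAut.toPerm G (MulAut.conj x)) ^ p = 1
    rw [← map_pow, ← map_pow, hS.pow_eq_one, map_one, map_one]
  let F : G → k := fun g => (wtf x lam g - 1) * cb g⁻¹
  have hF : ∀ g, F (τ g) = F g := by
    intro g
    have hc : cb (τ g)⁻¹ = cb g⁻¹ := by
      rw [hτ, ← hb.conj g⁻¹ x]
      congr 1
      group
    have hw : wtf x lam (τ g) = wtf x lam g := by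
      unfold wtf
      rw [hτ]
      by_cases hg : g ∈ Nx x
      · have hg' : x * g * x⁻¹ ∈ Nx x :=
          Subgroup.mul_mem _ (Subgroup.mul_mem _ (mem_Nx_self x) hg)
            (Subgroup.inv_mem _ (mem_Nx_self x))
        rw [if_pos hg, if_pos hg', hl.mul _ (Subgroup.mul_mem _ (mem_Nx_self x) hg) _
          (Subgroup.inv_mem _ (mem_Nx_self x)), hl.mul _ (mem_Nx_self x) _ hg,
          hl.inv (mem_Nx_self x), hl.cent x rfl]
        simp
      · have hg' : x * g * x⁻¹ ∉ Nx x := by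
          intro hc
          apply hg
          have := Subgroup.mul_mem _ (Subgroup.mul_mem _ (Subgroup.inv_mem _ (mem_Nx_self x)) hc)
            (mem_Nx_self x)
          simpa [mul_assoc] using this
        rw [if_neg hg, if_neg hg']
    show (wtf x lam (τ g) - 1) * cb (τ g)⁻¹ = (wtf x lam g - 1) * cb g⁻¹
    rw [hc, hw]
  have hsum := orbit_sum_invariant τ p hS.prime hτp F hF (fun m => by
    rw [nsmul_eq_mul, CharP.cast_eq_zero, zero_mul])
  have hfix : ∑ g ∈ Finset.univ.filter (fun g => τ g = g), F g = 0 := by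
    refine Finset.sum_eq_zero fun g hg => ?_
    have hg' : x * g * x⁻¹ = g := (Finset.mem_filter.mp hg).2
    have hcomm : g * x = x * g := by
      rw [mul_inv_eq_iff_eq_mul] at hg'
      exact hg'.symm
    show (wtf x lam g - 1) * cb g⁻¹ = 0
    unfold wtf
    rw [if_pos (cent_mem_Nx hcomm), hl.cent g hcomm, inv_one, sub_self, zero_mul]
  rw [hfix] at hsum
  have e2 : ∑ g, wtf x lam g * cb g⁻¹ = ∑ g, F g + ∑ g, cb g⁻¹ := by
    rw [← Finset.sum_add_distrib]
    refine Finset.sum_congr rfl fun g _ => ?_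
    show _ = (wtf x lam g - 1) * cb g⁻¹ + cb g⁻¹
    ring
  rw [e2, hsum, zero_add]
  exact (Equiv.sum_comp (Equiv.inv G) cb).trans hb.sum_one

theorem good_X0 (hS : Setup k p x H) (hl : IsWt x lam) (hb : IsBlk cb) :
    GoodPair p x H lam ⊥ (X0 cb x lam) := by
  haveI := hS.charP
  refine ⟨bot_le, wsum cb * wsum (wtf x lam), Submodule.mem_span_singleton_self _, ?_, ?_, ?_⟩
  · have h0 : NPel k x p * wsum (wtf x lam) = 0 := by
      unfold NPel
      rw [Finset.sum_mul]
      have hj : ∀ j : ℕ, MonoidAlgebra.of k G x ^ j * wsum (wtf x lam) = wsum (wtf x lam) := by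
        intro j
        rw [← map_pow, of_mul_W hl (pow_mem_Nx x j), hl.pow, one_smul]
      rw [Finset.sum_congr rfl (fun j _ => hj j), Finset.sum_const, Finset.card_range,
        ← Nat.cast_smul_eq_nsmul k, CharP.cast_eq_zero, zero_smul]
    rw [Submodule.mem_bot, smul_eq_mul, ← mul_assoc, ← wsum_central cb hb.conj, mul_assoc, h0,
      mul_zero]
  · intro h hh
    rw [Submodule.mem_bot, smul_eq_mul, ← mul_assoc, ← wsum_central cb hb.conj, mul_assoc,
      of_mul_W hl (hS.hHN hh), mul_smul_comm, sub_self]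
  · intro y hy hcon
    rw [Submodule.mem_bot] at hcon
    have h1 := congrArg (fun z : MonoidAlgebra k G => z.coeff 1) hcon
    simp only [smul_eq_mul, MonoidAlgebra.coeff_sub, Finsupp.sub_apply, MonoidAlgebra.coeff_zero,
      Finsupp.zero_apply] at h1
    rw [coeff_one_eb_W hS hl hb, X0_coeff hl hy, sub_zero] at h1
    exact one_ne_zero h1

instance finite_monoidAlgebra : Module.Finite k (MonoidAlgebra k G) :=
  Module.Finite.equiv (MonoidAlgebra.coeffLinearEquiv (R := k) (S := k) (M := G)).symm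

/-- A good simple subquotient of the block: a covering pair of left ideals inside `k[G] e`. -/
theorem exists_pair (hS : Setup k p x H) (hl : IsWt x lam) (hb : IsBlk cb) :
    ∃ N₂ N₁ : Submodule (MonoidAlgebra k G) (MonoidAlgebra k G),
      N₂ ⋖ N₁ ∧ GoodPair p x H lam N₂ N₁ ∧ ∀ b ∈ N₁, wsum cb * b = b := by
  obtain ⟨N₂, N₁, h1, h2, h3⟩ := exists_covBy hS hl (good_X0 hS hl hb)
  exact ⟨N₂, N₁, h2, h3, fun b hb' => X0_eb hb (h1 hb')⟩

end Cfsg.Agent.Lib.Helper17.BrWit
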