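import Mathlib
import Cfsg.Agent.Lib.Helper77.BlockIdem
import Cfsg.Agent.Lib.Helper3.Orth
import Cfsg.Agent.Lib.CT.ThirdMain
import Cfsg.Agent.Lib.Helper17.BrWit

/-!
# From the modular group algebra back to ordinary characters

The coefficients of a block idempotent are local integers; clearing denominators and reducing
modulo the maximal ideal gives a central idempotent of the modular group algebra.  Linearly
independent class functions with values in the residue field that are invariant under this
idempotent are bounded in number by the number of irreducible characters in the block.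
-/

set_option autoImplicit false
set_option linter.unusedSectionVars false
set_option linter.style.haveILetI false
set_option maxHeartbeats 1000000

namespace Cfsg.Agent.Lib.Helper17.BrBridge

open Cfsg Cfsg.Agent.Lib.Helper77.BlockIdem Cfsg.Agent.Lib.Helper77.CentralChar
  Cfsg.Agent.Lib.Helper77.ClassSum Cfsg.Agent.Lib.Helper77.LocalRing
  Cfsg.Agent.Lib.CT.Wedderburn Cfsg.Agent.Lib.CT.ThirdMain
  Cfsg.Agent.Lib.Helper17.BrAlg Cfsg.Agent.Lib.Helper17.BrWit

universe u
variable {G : Type u} [Group G] [Fintype G]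

/-! ### The ordinary side -/

theorem blockCoeff_sum (B : Set (IrrCharacter G)) (hB : triv G ∈ B) :
    ∑ g, blockCoeff B g = 1 := by
  classical
  have h1 := omega_blockIdem B (triv G)
  rw [if_pos hB] at h1
  unfold omega at h1
  rw [show blockIdem B = ofFun (blockCoeff B) from rfl, pair_ofFun] at h1
  simpa [coe_triv] using h1

theorem blockIdem_mul_self (B : Set (IrrCharacter G)) :
    blockIdem B * blockIdem B = blockIdem B := by
  classical
  apply eq_of_omega_eq _ _
    (Subalgebra.mul_mem _ (blockIdem_mem_center B) (blockIdem_mem_center B))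
    (blockIdem_mem_center B)
  intro χ
  rw [omega_mul χ.2 _ _ (blockIdem_mem_center B), omega_blockIdem]
  split_ifs <;> simp

theorem blockCoeff_idem (B : Set (IrrCharacter G)) (g : G) :
    ∑ y, blockCoeff B y * blockCoeff B (y⁻¹ * g) = blockCoeff B g := by
  have h : (blockIdem B * blockIdem B).coeff g = (blockIdem B).coeff g := by
    rw [blockIdem_mul_self]
  rw [MonoidAlgebra.coeff_mul_apply_left, Finsupp.sum_fintype _ _ (fun _ => zero_mul _)] at h
  simpa [coeff_blockIdem] using h

open Classical in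
theorem blockCoeff_conv_irr (B : Set (IrrCharacter G)) (χ : IrrCharacter G) (g : G) :
    ∑ y, blockCoeff B y * (χ : G → ℂ) (y * g) = if χ ∈ B then (χ : G → ℂ) g else 0 := by
  have h := pair_mul_center χ.2 (blockIdem B) (MonoidAlgebra.single g 1) (blockIdem_mem_center B)
  rw [omega_blockIdem, pair_single, one_mul, pair_eq_sum] at h
  have e : ∑ y, (blockIdem B * MonoidAlgebra.single g 1).coeff y * (χ : G → ℂ) y =
      ∑ y, blockCoeff B y * (χ : G → ℂ) (y * g) := by
    refine (Fintype.sum_equiv (Equiv.mulRight g) _ _ (fun y => ?_)).symm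
    simp only [Equiv.coe_mulRight, MonoidAlgebra.coeff_mul_single_apply, mul_inv_cancel_right,
      mul_one, coeff_blockIdem]
  rw [e] at h
  rw [h]
  split_ifs <;> simp

/-- Convolution with the block idempotent, as a linear map on functions. -/
noncomputable def conv (B : Set (IrrCharacter G)) : (G → ℂ) →ₗ[ℂ] (G → ℂ) where
  toFun f := fun g => ∑ y, blockCoeff B y * f (y * g)
  map_add' f f' := by
    funext g
    simp only [Pi.add_apply, mul_add, Finset.sum_add_distrib]
  map_smul' c f := by
    funext g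
    simp only [Pi.smul_apply, smul_eq_mul, RingHom.id_apply, Finset.mul_sum]
    exact Finset.sum_congr rfl fun y _ => by ring

theorem conv_apply (B : Set (IrrCharacter G)) (f : G → ℂ) (g : G) :
    conv B f g = ∑ y, blockCoeff B y * f (y * g) := rfl

/-- The span of the characters in `B`. -/
noncomputable def spanB (B : Set (IrrCharacter G)) : Submodule ℂ (G → ℂ) :=
  Submodule.span ℂ ((fun χ : IrrCharacter G => (χ : G → ℂ)) '' B)

theorem conv_irr_mem (B : Set (IrrCharacter G)) (χ : IrrCharacter G) :
    conv B (χ : G → ℂ) ∈ spanB B := by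
  classical
  have e : conv B (χ : G → ℂ) = if χ ∈ B then (χ : G → ℂ) else 0 := by
    funext g
    rw [conv_apply, blockCoeff_conv_irr]
    split_ifs <;> rfl
  rw [e]
  split_ifs with h
  · exact Submodule.subset_span ⟨χ, h, rfl⟩
  · exact Submodule.zero_mem _

theorem conv_mem_span (B : Set (IrrCharacter G)) (f : G → ℂ) (hf : IsClassFunction G f) :
    conv B f ∈ spanB B := by
  classical
  haveI := finite_irrCharacter G
  letI : Fintype (IrrCharacter G) := Fintype.ofFinite _
  rw [Cfsg.Agent.Lib.Helper3.Orth.classFunction_eq_sum f hf, map_sum]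
  refine Submodule.sum_mem _ fun χ _ => ?_
  rw [map_smul]
  exact Submodule.smul_mem _ _ (conv_irr_mem B χ)

theorem conv_eq_of_mem_span (B : Set (IrrCharacter G)) (f : G → ℂ) (hf : f ∈ spanB B) :
    conv B f = f := by
  classical
  unfold spanB at hf
  induction hf using Submodule.span_induction with
  | mem f hf =>
    obtain ⟨χ, hχ, rfl⟩ := hf
    funext g
    rw [conv_apply, blockCoeff_conv_irr, if_pos hχ]
  | zero => rw [map_zero]
  | add f f' _ _ h1 h2 => rw [map_add, h1, h2]
  | smul c f _ h1 => rw [map_smul, h1]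

theorem finrank_spanB_le (B : Set (IrrCharacter G)) :
    Module.finrank ℂ ↥(spanB B) ≤ Nat.card B := by
  classical
  haveI := finite_irrCharacter G
  haveI : Fintype ↥((fun χ : IrrCharacter G => (χ : G → ℂ)) '' B) := Fintype.ofFinite _
  refine (finrank_span_le_card _).trans ?_
  rw [← Set.ncard_eq_toFinset_card', Nat.card_coe_set_eq B]
  exact Set.ncard_image_le (Set.toFinite B)

/-! ### Clearing denominators -/

theorem exists_den (M : Ideal AlgInt) (hMp : M.IsPrime) (β : G → ℂ)
    (hloc : ∀ g, MemLocalRing M (β g)) :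
    ∃ d : AlgInt, d ∉ M ∧ ∃ e : G → AlgInt, ∀ g, (e g : ℂ) = (d : ℂ) * β g := by
  classical
  choose a b hb hab using hloc
  refine ⟨∏ g, b g, ?_, fun g => a g * ∏ g' ∈ Finset.univ.erase g, b g', fun g => ?_⟩
  · intro hmem
    obtain ⟨g, _, hg⟩ := (Ideal.IsPrime.prod_mem_iff (hp := hMp)).mp hmem
    exact hb g hg
  · have hbne : (b g : ℂ) ≠ 0 := coe_ne_zero_of_not_mem (hb g)
    rw [← hab g, ← Finset.mul_prod_erase Finset.univ b (Finset.mem_univ g)]
    push_cast
    field_simp

/-! ### The bridge -/

section bridge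

variable {k : Type*} [Field k] (ρ : AlgInt →+* k) (hρ : Function.Surjective ρ)
  (M : Ideal AlgInt) (hker : ∀ a, ρ a = 0 ↔ a ∈ M)
  (B : Set (IrrCharacter G)) (d : AlgInt) (hd : d ∉ M) (e : G → AlgInt)
  (he : ∀ g, (e g : ℂ) = (d : ℂ) * blockCoeff B g)

include hker hd he

theorem rho_d_ne : ρ d ≠ 0 := fun h => hd ((hker d).mp h)

theorem isBlk (hB : triv G ∈ B) : IsBlk (fun g => (ρ d)⁻¹ * ρ (e g)) := by
  have hd0 := rho_d_ne ρ M hker B d hd e he
  refine ⟨?_, ?_, ?_⟩
  · intro g h
    have : e (h * g * h⁻¹) = e g := by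
      apply Subtype.ext
      rw [he, he, blockCoeff_conj]
    show (ρ d)⁻¹ * ρ (e (h * g * h⁻¹)) = (ρ d)⁻¹ * ρ (e g)
    rw [this]
  · have : ∑ g, e g = d := by
      apply Subtype.ext
      push_cast
      simp_rw [he]
      rw [← Finset.mul_sum, blockCoeff_sum B hB, mul_one]
    rw [← Finset.mul_sum, ← map_sum, this, inv_mul_cancel₀ hd0]
  · intro g
    have : ∑ y, e y * e (y⁻¹ * g) = d * e g := by
      apply Subtype.ext
      push_cast
      simp_rw [he]
      rw [← blockCoeff_idem B g, Finset.mul_sum, Finset.mul_sum]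
      exact Finset.sum_congr rfl fun y _ => by ring
    have h2 : ∑ y, ρ (e y) * ρ (e (y⁻¹ * g)) = ρ d * ρ (e g) := by
      rw [← map_mul, ← this, map_sum]
      exact Finset.sum_congr rfl fun y _ => (map_mul _ _ _).symm
    have h3 : ∑ y, (ρ d)⁻¹ * ρ (e y) * ((ρ d)⁻¹ * ρ (e (y⁻¹ * g))) =
        (ρ d)⁻¹ * (ρ d)⁻¹ * ∑ y, ρ (e y) * ρ (e (y⁻¹ * g)) := by
      rw [Finset.mul_sum]
      exact Finset.sum_congr rfl fun y _ => by ring
    show ∑ y, (ρ d)⁻¹ * ρ (e y) * ((ρ d)⁻¹ * ρ (e (y⁻¹ * g))) = (ρ d)⁻¹ * ρ (e g)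
    rw [h3, h2]
    field_simp

/-- Reductions of integral-valued elements of the span of `B` are invariant. -/
theorem inv_of_mem_span (f : G → AlgInt) (hf : (fun g => (f g : ℂ)) ∈ spanB B) (g : G) :
    ∑ y, ((ρ d)⁻¹ * ρ (e y)) * ρ (f (y * g)) = ρ (f g) := by
  have hd0 := rho_d_ne ρ M hker B d hd e he
  have h1 : ∑ y, e y * f (y * g) = d * f g := by
    apply Subtype.ext
    push_cast
    simp_rw [he]
    have h := congrFun (conv_eq_of_mem_span B _ hf) g
    rw [conv_apply] at h
    rw [← h, Finset.mul_sum]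
    exact Finset.sum_congr rfl fun y _ => by ring
  have h2 : ∑ y, ρ (e y) * ρ (f (y * g)) = ρ d * ρ (f g) := by
    rw [← map_mul, ← h1, map_sum]
    exact Finset.sum_congr rfl fun y _ => (map_mul _ _ _).symm
  have h3 : ∑ y, ((ρ d)⁻¹ * ρ (e y)) * ρ (f (y * g)) =
      (ρ d)⁻¹ * ∑ y, ρ (e y) * ρ (f (y * g)) := by
    rw [Finset.mul_sum]
    exact Finset.sum_congr rfl fun y _ => by ring
  rw [h3, h2]
  field_simp

include hρ

/-- **The bridge**: invariant, linearly independent class functions with values in the residue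
field are at most as many as the characters of the block. -/
theorem bridge {ι : Type*} [Fintype ι] (φ : ι → G → k)
    (hcl : ∀ i g h, φ i (h * g * h⁻¹) = φ i g)
    (hinv : ∀ i g, ∑ y, ((ρ d)⁻¹ * ρ (e y)) * φ i (y * g) = φ i g)
    (hli : ∀ a : ι → k, (∀ g : G, ∑ i, a i * φ i g = 0) → ∀ i, a i = 0) :
    Fintype.card ι ≤ Nat.card B := by
  classical
  have hd0 := rho_d_ne ρ M hker B d hd e he
  let σ : k → AlgInt := Function.surjInv hρ
  have hσ : ∀ c, ρ (σ c) = c := Function.surjInv_eq hρ
  let ψ : ι → G → AlgInt := fun i g => ∑ y, e y * σ (φ i (y * g))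
  have hρψ : ∀ i g, ρ (ψ i g) = ρ d * φ i g := by
    intro i g
    show ρ (∑ y, e y * σ (φ i (y * g))) = _
    rw [map_sum, ← hinv i g, Finset.mul_sum]
    refine Finset.sum_congr rfl fun y _ => ?_
    rw [map_mul, hσ]
    field_simp
  let Ψ : ι → G → ℂ := fun i g => (ψ i g : ℂ)
  have hΨmem : ∀ i, Ψ i ∈ spanB B := by
    intro i
    have hcf : IsClassFunction G (fun g => ((σ (φ i g) : AlgInt) : ℂ)) := by
      intro g h
      show ((σ (φ i (h * g * h⁻¹)) : AlgInt) : ℂ) = ((σ (φ i g) : AlgInt) : ℂ)
      rw [hcl]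
    have e1 : Ψ i = (d : ℂ) • conv B (fun g => ((σ (φ i g) : AlgInt) : ℂ)) := by
      funext g
      show ((∑ y, e y * σ (φ i (y * g)) : AlgInt) : ℂ) = _
      rw [Pi.smul_apply, conv_apply, smul_eq_mul, Finset.mul_sum]
      push_cast
      exact Finset.sum_congr rfl fun y _ => by rw [he]; ring
    rw [e1]
    exact Submodule.smul_mem _ _ (conv_mem_span B _ hcf)
  -- a left inverse matrix
  have hinj : LinearMap.ker (Fintype.linearCombination k φ) = ⊥ := by
    rw [LinearMap.ker_eq_bot']
    intro a ha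
    have ha' : ∀ g : G, ∑ i, a i * φ i g = 0 := by
      intro g
      have := congrFun ha g
      rw [Fintype.linearCombination_apply] at this
      simpa [Finset.sum_apply] using this
    funext i
    exact hli a ha' i
  obtain ⟨Λ, hΛ⟩ := LinearMap.exists_leftInverse_of_injective _ hinj
  let A : ι → G → k := fun j g => Λ (fun g' => if g = g' then 1 else 0) j
  have hA : ∀ i j, ∑ g, φ i g * A j g = if i = j then 1 else 0 := by
    intro i j
    have h1 : Λ (φ i) j = ∑ g, φ i g * A j g := by
      rw [LinearMap.pi_apply_eq_sum_univ Λ (φ i), Finset.sum_apply]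
      exact Finset.sum_congr rfl fun g _ => by rw [Pi.smul_apply, smul_eq_mul]
    have h2 : Fintype.linearCombination k φ (Pi.single i 1) = φ i := by
      rw [Fintype.linearCombination_apply, Finset.sum_eq_single i]
      · rw [Pi.single_eq_same, one_smul]
      · intro j _ hj
        rw [Pi.single_eq_of_ne hj, zero_smul]
      · intro h
        exact absurd (Finset.mem_univ _) h
    have h3 := LinearMap.congr_fun hΛ (Pi.single i 1)
    rw [LinearMap.comp_apply, h2, LinearMap.id_apply] at h3
    rw [← h1, h3, Pi.single_apply]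
    by_cases hij : i = j
    · rw [if_pos hij, if_pos hij.symm]
    · rw [if_neg hij, if_neg (fun h => hij h.symm)]
  let T : Matrix ι ι AlgInt := fun i j => ∑ g, ψ i g * σ (A j g)
  have hT : ρ.mapMatrix T = (ρ d) • (1 : Matrix ι ι k) := by
    ext i j
    show ρ (∑ g, ψ i g * σ (A j g)) = (ρ d • (1 : Matrix ι ι k)) i j
    rw [map_sum, Matrix.smul_apply, Matrix.one_apply, smul_eq_mul, ← hA i j, Finset.mul_sum]
    refine Finset.sum_congr rfl fun g _ => ?_
    rw [map_mul, hρψ, hσ]
    ring
  have hdet : T.det ≠ 0 := by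
    intro h0
    have h1 := RingHom.map_det ρ T
    rw [h0, map_zero, hT, Matrix.det_smul, Matrix.det_one, mul_one] at h1
    exact pow_ne_zero _ hd0 h1.symm
  let incl : AlgInt →+* ℂ := (Subalgebra.val AlgInt : AlgInt →ₐ[ℤ] ℂ)
  have hdetC : (incl.mapMatrix T).det ≠ 0 := by
    rw [← RingHom.map_det]
    intro h0
    exact hdet (Subtype.coe_injective (by simpa [incl] using h0))
  have hΨli : LinearIndependent ℂ Ψ := by
    rw [Fintype.linearIndependent_iff]
    intro c hc
    have hv : Matrix.vecMul c (incl.mapMatrix T) = 0 := by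
      funext j
      show ∑ i, c i * ((∑ g, ψ i g * σ (A j g) : AlgInt) : ℂ) = 0
      have e2 : ∀ i, c i * ((∑ g, ψ i g * σ (A j g) : AlgInt) : ℂ) =
          ∑ g, (c i * Ψ i g) * ((σ (A j g) : AlgInt) : ℂ) := by
        intro i
        push_cast
        rw [Finset.mul_sum]
        exact Finset.sum_congr rfl fun g _ => by ring
      rw [Finset.sum_congr rfl (fun i _ => e2 i), Finset.sum_comm]
      refine Finset.sum_eq_zero fun g _ => ?_
      rw [← Finset.sum_mul]
      have := congrFun hc g
      simp only [Finset.sum_apply, Pi.smul_apply, smul_eq_mul, Pi.zero_apply] at this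
      rw [this, zero_mul]
    have := Matrix.eq_zero_of_vecMul_eq_zero hdetC hv
    intro i
    exact congrFun this i
  let Ψ' : ι → ↥(spanB B) := fun i => ⟨Ψ i, hΨmem i⟩
  have hΨ'li : LinearIndependent ℂ Ψ' := LinearIndependent.of_comp (spanB B).subtype hΨli
  exact hΨ'li.fintype_card_le_finrank.trans (finrank_spanB_le B)

end bridge

end Cfsg.Agent.Lib.Helper17.BrBridge
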