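import Mathlib
import Cfsg.Agent.Lib.Helper17.BrGrp
import Cfsg.Agent.Lib.Helper17.BrBridge
import Cfsg.Agent.Lib.Helper80.AbSylowGT
import Cfsg.Agent.Lib.CT.ColumnId
import Cfsg.Agent.S0925
import Cfsg.Agent.S0947
import Cfsg.Agent.S0942

/-!
# Section indicators in the span of the principal block

For a Sylow `p`-subgroup `P` of order `p` and `y₀ ∈ P`, `y₀ ≠ 1`, the function
`θ(g) = ∑_{χ ∈ B₀} χ(g) χ(y₀⁻¹)` takes only the values `0` and `p`; so `θ / p` is an
integer-valued class function in the span of the principal block.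
-/

set_option autoImplicit false
set_option linter.unusedSectionVars false
set_option linter.style.haveILetI false
set_option maxHeartbeats 1000000

namespace Cfsg.Agent.Lib.Helper17.BrSec

open Cfsg Cfsg.Agent.Lib.CT.Wedderburn Cfsg.Agent.Lib.CT.ThirdMain
  Cfsg.Agent.Lib.Helper17.BrGrp Cfsg.Agent.Lib.Helper17.BrBridge
  Cfsg.Agent.Lib.Helper80.AbSylowGT

open scoped ComplexConjugate

universe u
variable {G : Type u} [Group G] [Fintype G] {p : ℕ} [Fact p.Prime]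

/-- The section function of `y₀`. -/
noncomputable def theta (M : Ideal AlgInt) (y₀ : G) : G → ℂ :=
  fun g => ∑ᶠ χ ∈ principalBlock M G, (χ : G → ℂ) g * (χ : G → ℂ) y₀⁻¹

theorem theta_conj (M : Ideal AlgInt) (y₀ g h : G) :
    theta M y₀ (h * g * h⁻¹) = theta M y₀ g := by
  unfold theta
  refine finsum_mem_congr rfl fun χ _ => ?_
  rw [char_isClassFunction (isCharacter_of_irr χ.2) g h]

theorem theta_mem_span (M : Ideal AlgInt) (y₀ : G) : theta M y₀ ∈ spanB (principalBlock M G) := by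
  classical
  haveI := finite_irrCharacter G
  letI : Fintype (IrrCharacter G) := Fintype.ofFinite _
  have e : theta M y₀ = ∑ χ : IrrCharacter G,
      if χ ∈ principalBlock M G then (χ : G → ℂ) y₀⁻¹ • (χ : G → ℂ) else 0 := by
    funext g
    unfold theta
    rw [Cfsg.Agent.Lib.CT.ColumnId.finsum_mem_eq_sum, Finset.sum_apply]
    refine Finset.sum_congr rfl fun χ _ => ?_
    split_ifs
    · rw [Pi.smul_apply, smul_eq_mul, mul_comm]
    · rfl
  rw [e]
  refine Submodule.sum_mem _ fun χ _ => ?_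
  split_ifs with h
  · exact Submodule.smul_mem _ _ (Submodule.subset_span ⟨χ, h, rfl⟩)
  · exact Submodule.zero_mem _

variable (M : Ideal AlgInt) (hM : IsPModular p M) (P : Sylow p G) (hP : Nat.card P = p)
  {y₀ : G} (hy₀ : y₀ ∈ (P : Subgroup G)) (hy₀1 : y₀ ≠ 1)

include hM hP hy₀ hy₀1

theorem theta_zero (g z : G) (hz : IsPPart p g z) (hnc : ¬ IsConj z y₀) : theta M y₀ g = 0 := by
  have hp : p.Prime := Fact.out
  have hord : ∃ k : ℕ, orderOf y₀ = p ^ k := ⟨1, by rw [pow_one, orderOf_eq P hP hy₀ hy₀1]⟩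
  exact (Cfsg.Agent.S0925.result p M hM).2 g y₀ z y₀ hz
    (Cfsg.Agent.Lib.CT.ColumnId.isPPart_self p hp y₀ hord) hnc _
    (Cfsg.Agent.Lib.CT.ColumnId.isPBlock_principal M)

theorem theta_self (v : G) (hcomm : Commute y₀ v) (hpv : ¬ p ∣ orderOf v) :
    theta M y₀ (y₀ * v) = p := by
  classical
  have hp : p.Prime := Fact.out
  have hord : ∃ k : ℕ, orderOf y₀ = p ^ k := ⟨1, by rw [pow_one, orderOf_eq P hP hy₀ hy₀1]⟩
  have hab := isMulCommutative P hP
  have hfr := hfrob P hP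
  have hburn := burnside_centralizer p P hab hfr y₀ hy₀ hy₀1
  haveI := finite_irrCharacter G
  letI : Fintype (IrrCharacter G) := Fintype.ofFinite _
  have h1le : ¬ p ∣ orderOf (1 : ↥(Subgroup.centralizer ({y₀} : Set G))) := by
    rw [orderOf_one]
    exact fun h => hp.one_lt.ne' (Nat.dvd_one.mp h)
  obtain ⟨_, h2⟩ := Cfsg.Agent.S0947.result p M hM y₀ hord hy₀1 1 h1le
  have h3 := h2 hburn.1
  have hfac : p ^ (Nat.card ↥(Subgroup.centralizer ({y₀} : Set G))).factorization p = p := by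
    have hPH := le_centralizer_singleton P hab y₀ hy₀
    have hQ := Sylow.card_eq_multiplicity (P.subtype hPH)
    rw [← hQ]
    exact (Nat.card_congr (Subgroup.subgroupOfEquivOfLe hPH).toEquiv).trans hP
  rw [hfac, Subgroup.coe_one, mul_one] at h3
  unfold theta
  have e1 : ∀ χ ∈ principalBlock M G, (χ : G → ℂ) (y₀ * v) * (χ : G → ℂ) y₀⁻¹ =
      ((‖(χ : G → ℂ) y₀‖ ^ 2 : ℝ) : ℂ) := by
    intro χ hχ
    rw [Cfsg.Agent.S0942.result p M hM y₀ hord v (hburn.2 v hcomm hpv) χ hχ,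
      char_apply_inv (isCharacter_of_irr χ.2), Complex.mul_conj']
    push_cast
    rfl
  rw [finsum_mem_congr rfl e1, Cfsg.Agent.Lib.CT.ColumnId.finsum_mem_eq_sum]
  rw [Cfsg.Agent.Lib.CT.ColumnId.finsum_mem_eq_sum] at h3
  have h4 := congrArg (fun r : ℝ => (r : ℂ)) h3
  simp only [Complex.ofReal_sum] at h4
  rw [← Complex.ofReal_natCast, ← h4]
  refine Finset.sum_congr rfl fun χ _ => ?_
  split_ifs
  · rfl
  · simp

theorem theta_of_conj (g z : G) (hz : IsPPart p g z) (hc : IsConj z y₀) : theta M y₀ g = p := by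
  obtain ⟨c, hc⟩ := isConj_iff.mp hc
  obtain ⟨v, hzv, hcomm, _, hpv⟩ := hz
  have e : c * g * c⁻¹ = y₀ * (c * v * c⁻¹) := by
    rw [← hzv, ← hc]
    group
  rw [← theta_conj M y₀ g c, e]
  apply theta_self M hM P hP hy₀ hy₀1
  · rw [← hc]
    show c * z * c⁻¹ * (c * v * c⁻¹) = c * v * c⁻¹ * (c * z * c⁻¹)
    have := hcomm.eq
    calc c * z * c⁻¹ * (c * v * c⁻¹) = c * (z * v) * c⁻¹ := by group
      _ = c * (v * z) * c⁻¹ := by rw [this]
      _ = c * v * c⁻¹ * (c * z * c⁻¹) := by group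
  · have : orderOf (c * v * c⁻¹) = orderOf v :=
      orderOf_injective (MulAut.conj c).toMonoidHom (MulAut.conj c).injective v
    rwa [this]

theorem theta_dich (g : G) : theta M y₀ g = 0 ∨ theta M y₀ g = p := by
  have hp : p.Prime := Fact.out
  obtain ⟨z, hz⟩ := Cfsg.Agent.Lib.CT.SectionOrth.exists_isPPart p hp g
  by_cases hc : IsConj z y₀
  · exact Or.inr (theta_of_conj M hM P hP hy₀ hy₀1 g z hz hc)
  · exact Or.inl (theta_zero M hM P hP hy₀ hy₀1 g z hz hc)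

omit hM hP hy₀ hy₀1 in
open Classical in
/-- The indicator function of the section of `y₀`. -/
noncomputable def ind (M : Ideal AlgInt) (y₀ : G) (g : G) : AlgInt :=
  if theta M y₀ g = 0 then 0 else 1

theorem ind_coe (g : G) : ((ind M y₀ g : AlgInt) : ℂ) = (p : ℂ)⁻¹ * theta M y₀ g := by
  have hp : p.Prime := Fact.out
  have hpC : (p : ℂ) ≠ 0 := Nat.cast_ne_zero.mpr hp.ne_zero
  unfold ind
  rcases theta_dich M hM P hP hy₀ hy₀1 g with h | h
  · rw [if_pos h, h, mul_zero]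
    rfl
  · have hne : theta M y₀ g ≠ 0 := by rw [h]; exact hpC
    rw [if_neg hne, h, inv_mul_cancel₀ hpC]
    rfl

theorem ind_mem_span : (fun g => ((ind M y₀ g : AlgInt) : ℂ)) ∈ spanB (principalBlock M G) := by
  have e : (fun g => ((ind M y₀ g : AlgInt) : ℂ)) = (p : ℂ)⁻¹ • theta M y₀ := by
    funext g
    rw [ind_coe M hM P hP hy₀ hy₀1 g]
    rfl
  rw [e]
  exact Submodule.smul_mem _ _ (theta_mem_span M y₀)

omit hM hP hy₀ hy₀1 in
theorem ind_conj (M : Ideal AlgInt) (y₀ g h : G) : ind M y₀ (h * g * h⁻¹) = ind M y₀ g := by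
  unfold ind
  rw [theta_conj]

theorem ind_one : ind M y₀ 1 = 0 := by
  have hp : p.Prime := Fact.out
  have h1 : IsPPart p (1 : G) 1 :=
    Cfsg.Agent.Lib.CT.ColumnId.isPPart_self p hp 1 ⟨0, by rw [orderOf_one, pow_zero]⟩
  have h0 := theta_zero M hM P hP hy₀ hy₀1 1 1 h1 (fun hc => hy₀1 (isConj_one_right.mp hc))
  unfold ind
  rw [if_pos h0]

theorem ind_of_conj {y₁ : G} (hy₁ : y₁ ∈ (P : Subgroup G)) (hc : IsConj y₁ y₀) :
    ind M y₀ y₁ = 1 := by
  have hp : p.Prime := Fact.out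
  have hpC : (p : ℂ) ≠ 0 := Nat.cast_ne_zero.mpr hp.ne_zero
  have h1 : IsPPart p y₁ y₁ := Cfsg.Agent.Lib.CT.ColumnId.isPPart_self p hp y₁
    (Cfsg.Agent.Lib.CT.ColumnId.orderOf_coe_of_isPGroup P.2 ⟨y₁, hy₁⟩)
  have h0 := theta_of_conj M hM P hP hy₀ hy₀1 y₁ y₁ h1 hc
  unfold ind
  rw [if_neg (by rw [h0]; exact hpC)]

theorem ind_of_not_conj {y₁ : G} (hy₁ : y₁ ∈ (P : Subgroup G)) (hc : ¬ IsConj y₁ y₀) :
    ind M y₀ y₁ = 0 := by
  have hp : p.Prime := Fact.out
  have h1 : IsPPart p y₁ y₁ := Cfsg.Agent.Lib.CT.ColumnId.isPPart_self p hp y₁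
    (Cfsg.Agent.Lib.CT.ColumnId.orderOf_coe_of_isPGroup P.2 ⟨y₁, hy₁⟩)
  have h0 := theta_zero M hM P hP hy₀ hy₀1 y₁ y₁ h1 hc
  unfold ind
  rw [if_pos h0]

end Cfsg.Agent.Lib.Helper17.BrSec
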