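import Mathlib
import Cfsg.Agent.Lib.Helper17.BrCore
import Cfsg.Agent.Lib.Helper17.BrWit

/-!
# Trace functions of simple modules in a block

Trace functions of `k[G]`-modules: class functions, invariant under a central idempotent acting
as the identity, constant on the powers of an element of order `p`, and linearly independent for
pairwise non-isomorphic simple modules with scalar endomorphisms.  The main theorem produces
one such function for each weight.
-/

set_option autoImplicit false
set_option linter.unusedSectionVars false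
set_option linter.style.haveILetI false
set_option maxHeartbeats 1000000

namespace Cfsg.Agent.Lib.Helper17.BrTrace

open Cfsg.Agent.Lib.Helper17.BrAlg Cfsg.Agent.Lib.Helper17.BrGood Cfsg.Agent.Lib.Helper17.BrCore
  Cfsg.Agent.Lib.Helper17.BrWit

variable {k : Type*} [Field k] {G : Type*} [Group G] [Fintype G]

section single

variable {V : Type*} [AddCommGroup V] [Module (MonoidAlgebra k G) V] [Module k V]
  [IsScalarTower k (MonoidAlgebra k G) V]

theorem L_mul (a b : MonoidAlgebra k G) : L (S := V) (a * b) = L a * L b := by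
  ext v
  exact mul_smul a b v

theorem L_one : L (S := V) (1 : MonoidAlgebra k G) = 1 := by
  ext v
  exact one_smul _ v

theorem L_pow (a : MonoidAlgebra k G) (n : ℕ) : L (S := V) (a ^ n) = L a ^ n := by
  induction n with
  | zero => rw [pow_zero, pow_zero, L_one]
  | succ n ih => rw [pow_succ, pow_succ, L_mul, ih]

theorem L_add (a b : MonoidAlgebra k G) : L (S := V) (a + b) = L a + L b := by
  ext v
  exact add_smul a b v

theorem L_smul (r : k) (a : MonoidAlgebra k G) : L (S := V) (r • a) = r • L a := by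
  ext v
  exact smul_assoc r a v

theorem L_sum {ι : Type*} (s : Finset ι) (f : ι → MonoidAlgebra k G) :
    L (S := V) (∑ i ∈ s, f i) = ∑ i ∈ s, L (f i) := by
  ext v
  rw [LinearMap.sum_apply]
  exact Finset.sum_smul

variable (k V) in
/-- The trace function of a module. -/
noncomputable def trf (g : G) : k := LinearMap.trace k V (L (MonoidAlgebra.of k G g))

theorem trf_conj (g h : G) : trf k V (h * g * h⁻¹) = trf k V g := by
  unfold trf
  rw [map_mul, map_mul, L_mul, LinearMap.trace_mul_comm, ← L_mul, ← mul_assoc, ← map_mul,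
    inv_mul_cancel, map_one, one_mul]

theorem trf_blk {cb : G → k} (he : ∀ v : V, wsum cb • v = v) (g : G) :
    ∑ y, cb y * trf k V (y * g) = trf k V g := by
  unfold trf
  have e1 : L (S := V) (wsum cb * MonoidAlgebra.of k G g) = L (MonoidAlgebra.of k G g) := by
    ext v
    show (wsum cb * MonoidAlgebra.of k G g) • v = MonoidAlgebra.of k G g • v
    rw [mul_smul, he]
  have e2 : wsum cb * MonoidAlgebra.of k G g =
      ∑ y, cb y • MonoidAlgebra.of k G (y * g) := by
    unfold wsum
    rw [Finset.sum_mul]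
    exact Finset.sum_congr rfl fun y _ => by rw [smul_mul_assoc, map_mul]
  rw [← e1, e2, L_sum, map_sum]
  exact Finset.sum_congr rfl fun y _ => by rw [L_smul, map_smul, smul_eq_mul]

theorem trf_unip (p : ℕ) [Fact p.Prime] [CharP k p] {w : G} (hw : w ^ p = 1) :
    trf k V w = trf k V (1 : G) := by
  unfold trf
  have e : MonoidAlgebra.of k G w = uel k w + MonoidAlgebra.of k G 1 := by
    unfold uel
    rw [map_one, sub_add_cancel]
  have hnil : IsNilpotent (L (S := V) (uel k w)) :=
    ⟨p, by rw [← L_pow, uel_pow_p p hw]; ext v; exact zero_smul _ v⟩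
  have h0 : LinearMap.trace k V (L (uel k w)) = 0 :=
    (LinearMap.isNilpotent_trace_of_isNilpotent hnil).eq_zero
  rw [e, L_add, map_add, h0, zero_add]

end single

theorem trace_indep {ι : Type*} [Fintype ι] (V : ι → Type*) [∀ i, AddCommGroup (V i)]
    [∀ i, Module (MonoidAlgebra k G) (V i)] [∀ i, Module k (V i)]
    [∀ i, IsScalarTower k (MonoidAlgebra k G) (V i)]
    [∀ i, IsSimpleModule (MonoidAlgebra k G) (V i)] [∀ i, Module.Finite k (V i)]
    (hsc : ∀ i (d : V i →ₗ[MonoidAlgebra k G] V i), ∃ a : k, ∀ v, d v = a • v)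
    (hne : ∀ i j, i ≠ j → ∀ f : V i →ₗ[MonoidAlgebra k G] V j, f = 0)
    (a : ι → k) (ha : ∀ g : G, ∑ i, a i * trf k (V i) g = 0) : ∀ i, a i = 0 := by
  classical
  intro i₀
  haveI : Nontrivial (V i₀) := IsSimpleModule.nontrivial (MonoidAlgebra k G) (V i₀)
  obtain ⟨v₀, hv₀⟩ : ∃ v₀ : V i₀, v₀ ≠ 0 := exists_ne 0
  obtain ⟨ℓ₀, hℓ₀⟩ : ∃ ℓ₀ : V i₀ →ₗ[k] k, ℓ₀ v₀ = 1 := by
    obtain ⟨g, hg⟩ := LinearMap.exists_leftInverse_of_injective
      (LinearMap.toSpanSingleton k (V i₀) v₀) (LinearMap.ker_toSpanSingleton k hv₀)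
    refine ⟨g, ?_⟩
    have := LinearMap.congr_fun hg 1
    simpa using this
  let P₀ : V i₀ →ₗ[k] V i₀ := ℓ₀.smulRight v₀
  have htr : LinearMap.trace k (V i₀) P₀ = 1 := by
    rw [LinearMap.trace_smulRight, hℓ₀]
  have hdiag : ∀ (φ : Module.End (MonoidAlgebra k G) (Π i, V i)), ∃ c : k,
      ∀ m : Π i, V i, (φ m) i₀ = c • m i₀ := by
    intro φ
    obtain ⟨c, hc⟩ := hsc i₀ ((LinearMap.proj i₀) ∘ₗ φ ∘ₗ (LinearMap.single (MonoidAlgebra k G) V i₀))
    refine ⟨c, fun m => ?_⟩
    have hm : m = ∑ j, Pi.single j (m j) := (Finset.univ_sum_single m).symm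
    conv_lhs => rw [hm]
    rw [map_sum, Finset.sum_apply, Finset.sum_eq_single i₀]
    · exact hc (m i₀)
    · intro j _ hj
      have := hne j i₀ hj ((LinearMap.proj i₀) ∘ₗ φ ∘ₗ (LinearMap.single (MonoidAlgebra k G) V j))
      exact LinearMap.congr_fun this (m j)
    · intro h
      exact absurd (Finset.mem_univ _) h
  have hoff : ∀ (φ : Module.End (MonoidAlgebra k G) (Π i, V i)) (z : V i₀) (j : ι), j ≠ i₀ →
      (φ (Pi.single i₀ z)) j = 0 := by
    intro φ z j hj
    have := hne i₀ j (Ne.symm hj)
      ((LinearMap.proj j) ∘ₗ φ ∘ₗ (LinearMap.single (MonoidAlgebra k G) V i₀))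
    exact LinearMap.congr_fun this z
  let f : Module.End (Module.End (MonoidAlgebra k G) (Π i, V i)) (Π i, V i) :=
    { toFun := fun m => Pi.single i₀ (P₀ (m i₀))
      map_add' := fun m m' => by rw [Pi.add_apply, map_add, Pi.single_add]
      map_smul' := fun φ m => by
        obtain ⟨c, hc⟩ := hdiag φ
        show Pi.single i₀ (P₀ ((φ m) i₀)) = φ (Pi.single i₀ (P₀ (m i₀)))
        rw [hc, map_smul]
        funext j
        by_cases hj : j = i₀
        · subst hj
          rw [Pi.single_eq_same, hc, Pi.single_eq_same]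
        · rw [Pi.single_eq_of_ne hj, hoff φ _ j hj] }
  have hf : ∀ m : Π i, V i, f m = Pi.single i₀ (P₀ (m i₀)) := fun m => rfl
  obtain ⟨sfin, hsfin⟩ := (Module.Finite.fg_top : (⊤ : Submodule k (Π i, V i)).FG)
  obtain ⟨r, hr⟩ := jacobson_density f sfin
  have hr' : ∀ m : Π i, V i, f m = r • m := by
    intro m
    have hmem : m ∈ Submodule.span k (sfin : Set (Π i, V i)) := by
      rw [hsfin]
      trivial
    induction hmem using Submodule.span_induction with
    | mem m hm => exact hr m hm
    | zero => rw [map_zero, smul_zero]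
    | add m m' _ _ h1 h2 => rw [map_add, h1, h2, smul_add]
    | smul c m _ h1 =>
      rw [hf, Pi.smul_apply, map_smul, Pi.single_smul, ← hf, h1, smul_comm]
  have hr0 : ∀ z : V i₀, r • z = P₀ z := by
    intro z
    have := congrFun (hr' (Pi.single i₀ z)) i₀
    rw [hf, Pi.single_eq_same, Pi.single_eq_same, Pi.smul_apply, Pi.single_eq_same] at this
    exact this.symm
  have hrj : ∀ j, j ≠ i₀ → ∀ z : V j, r • z = 0 := by
    intro j hj z
    have := congrFun (hr' (Pi.single j z)) j
    rw [hf, Pi.single_eq_of_ne (Ne.symm hj), map_zero, Pi.single_zero, Pi.zero_apply,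
      Pi.smul_apply, Pi.single_eq_same] at this
    exact this.symm
  have hall : ∀ b : MonoidAlgebra k G,
      ∑ i, a i * LinearMap.trace k (V i) (L (S := V i) b) = 0 := by
    intro b
    induction b using MonoidAlgebra.induction_on with
    | of g => exact ha g
    | add b b' h1 h2 =>
      have e : ∀ i, a i * LinearMap.trace k (V i) (L (S := V i) (b + b')) =
          a i * LinearMap.trace k (V i) (L (S := V i) b) +
            a i * LinearMap.trace k (V i) (L (S := V i) b') := by
        intro i
        rw [L_add, map_add, mul_add]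
      rw [Finset.sum_congr rfl (fun i _ => e i), Finset.sum_add_distrib, h1, h2, add_zero]
    | smul c b h1 =>
      have e : ∀ i, a i * LinearMap.trace k (V i) (L (S := V i) (c • b)) =
          c * (a i * LinearMap.trace k (V i) (L (S := V i) b)) := by
        intro i
        rw [L_smul, map_smul, smul_eq_mul]
        ring
      rw [Finset.sum_congr rfl (fun i _ => e i), ← Finset.mul_sum, h1, mul_zero]
  have hfin := hall r
  rw [Finset.sum_eq_single i₀] at hfin
  · have e : L (S := V i₀) r = P₀ := by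
      ext z
      exact hr0 z
    rw [e, htr, mul_one] at hfin
    exact hfin
  · intro j _ hj
    have e : L (S := V j) r = 0 := by
      ext z
      exact hrj j hj z
    rw [e, map_zero, mul_zero]
  · intro h
    exact absurd (Finset.mem_univ _) h

/-- **Main theorem of the modular part.**  For pairwise distinguishable weights `lam i` there are
linearly independent class functions `τ i : G → k`, invariant under the idempotent, and constant
on `⟨x⟩`. -/
theorem exists_traces {p : ℕ} {x : G} {H : Subgroup G} {cb : G → k} {ι : Type*} [Fintype ι]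
    (hS : Setup k p x H) (hb : IsBlk cb) (lam : ι → G → k) (hl : ∀ i, IsWt x (lam i))
    (hdist : ∀ i j, i ≠ j → ∃ h ∈ H, lam i h ≠ lam j h) :
    ∃ τ : ι → G → k, (∀ i g h, τ i (h * g * h⁻¹) = τ i g) ∧
      (∀ i g, ∑ y, cb y * τ i (y * g) = τ i g) ∧
      (∀ i, ∀ w ∈ Subgroup.zpowers x, τ i w = τ i 1) ∧
      (∀ a : ι → k, (∀ g : G, ∑ i, a i * τ i g = 0) → ∀ i, a i = 0) := by
  classical
  haveI : Fact p.Prime := ⟨hS.prime⟩
  haveI := hS.charP
  have hex := fun i => exists_pair hS (hl i) hb
  choose N₂ N₁ hcov hgood heb using hex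
  haveI : ∀ i, IsSimpleModule (MonoidAlgebra k G) (↥(N₁ i) ⧸ (N₂ i).comap (N₁ i).subtype) :=
    fun i => (covBy_iff_quot_is_simple (hgood i).1).mp (hcov i)
  haveI : ∀ i, Module.Finite k (↥(N₁ i) ⧸ (N₂ i).comap (N₁ i).subtype) :=
    fun i => finite_quot (N₂ i) (N₁ i)
  have hgm : ∀ i, GoodMod p x H (lam i) (↥(N₁ i) ⧸ (N₂ i).comap (N₁ i).subtype) :=
    fun i => (hgood i).goodMod
  refine ⟨fun i => trf k (↥(N₁ i) ⧸ (N₂ i).comap (N₁ i).subtype), ?_, ?_, ?_, ?_⟩
  · intro i g h
    exact trf_conj g h
  · intro i g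
    exact trf_blk (fun v => smul_eq_of_quot (wsum cb) (fun b hb' => heb i b hb') v) g
  · intro i w hw
    obtain ⟨j, rfl⟩ := exists_pow_of_mem_zpowers hw
    exact trf_unip p (by rw [← pow_mul, mul_comm, pow_mul, hS.pow_eq_one, one_pow])
  · intro a ha
    exact trace_indep (fun i => ↥(N₁ i) ⧸ (N₂ i).comap (N₁ i).subtype)
      (fun i d => end_scalar hS (hl i) (hgm i) d)
      (fun i j hij f => hom_zero hS (hl i) (hgm i) (hgm j) (hdist i j hij) f) a ha

end Cfsg.Agent.Lib.Helper17.BrTrace
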