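import Mathlib
import Cfsg.Agent.Lib.Helper17.BrSec
import Cfsg.Agent.Lib.Helper17.BrTrace

/-!
# A lower bound for the number of characters in the principal block

For a Sylow `p`-subgroup `P` of order `p` with `e = |N_G(P) : C_G(P)|`, the principal `p`-block
contains at least `e + (p - 1) / e` irreducible characters.  The `e` comes from the traces of
`e` pairwise non-isomorphic simple modules in the principal block of the modular group
algebra, the `(p - 1) / e` from the indicator functions of the `p`-sections of the non-trivial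
elements of `P`.
-/

set_option autoImplicit false
set_option linter.unusedSectionVars false
set_option linter.style.haveILetI false
set_option maxHeartbeats 1000000

namespace Cfsg.Agent.Lib.Helper17.BrLower

open Cfsg Cfsg.Agent.Lib.Helper77.BlockIdem Cfsg.Agent.Lib.Helper77.LocalRing
  Cfsg.Agent.Lib.CT.ThirdMain
  Cfsg.Agent.Lib.Helper17.BrAlg Cfsg.Agent.Lib.Helper17.BrWit Cfsg.Agent.Lib.Helper17.BrGrp
  Cfsg.Agent.Lib.Helper17.BrBridge Cfsg.Agent.Lib.Helper17.BrSec
  Cfsg.Agent.Lib.Helper17.BrTrace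

universe u

section Exp

variable {G : Type u} [Group G] [Finite G]

/-- The exponent by which an element of the normalizer of `⟨x⟩` acts on `x`. -/
noncomputable def aexp (x g : G) : ℕ := by
  classical
  exact if h : g ∈ Nx x then (conj_eq_pow h).choose else 1

theorem aexp_spec {x g : G} (h : g ∈ Nx x) : g * x * g⁻¹ = x ^ aexp x g := by
  unfold aexp
  rw [dif_pos h]
  exact (conj_eq_pow h).choose_spec

theorem aexp_mul {x : G} {p : ℕ} (hx : orderOf x = p) {a b : G} (ha : a ∈ Nx x)
    (hb : b ∈ Nx x) : aexp x (a * b) ≡ aexp x a * aexp x b [MOD p] := by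
  have h1 := aexp_spec ha
  have h2 := aexp_spec hb
  have h3 := aexp_spec (mul_mem ha hb)
  have : x ^ aexp x (a * b) = x ^ (aexp x a * aexp x b) := by
    rw [← h3, pow_mul, ← h1, conj_pow, ← h2]
    group
  rw [← hx]
  exact pow_eq_pow_iff_modEq.mp this

theorem aexp_comm {x : G} {p : ℕ} (hx : orderOf x = p) {c : G} (hc : c * x = x * c) :
    aexp x c ≡ 1 [MOD p] := by
  have h1 := aexp_spec (cent_mem_Nx hc)
  have : x ^ aexp x c = x ^ 1 := by
    rw [← h1, hc, pow_one]
    group
  rw [← hx]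
  exact pow_eq_pow_iff_modEq.mp this

theorem aexp_comm_iff {x : G} {p : ℕ} (hx : orderOf x = p) {c : G} (hc : c ∈ Nx x) :
    aexp x c ≡ 1 [MOD p] ↔ c * x = x * c := by
  refine ⟨fun h => ?_, aexp_comm hx⟩
  have h1 := aexp_spec hc
  rw [← hx] at h
  have h2 := pow_eq_pow_iff_modEq.mpr h
  rw [pow_one] at h2
  rw [h2] at h1
  calc c * x = c * x * c⁻¹ * c := by group
    _ = x * c := by rw [h1]

theorem aexp_not_dvd {x : G} {p : ℕ} (hp : p.Prime) (hx : orderOf x = p) {c : G}
    (hc : c ∈ Nx x) : ¬ p ∣ aexp x c := by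
  intro h
  have h1 := aexp_spec hc
  rw [← hx] at h
  rw [orderOf_dvd_iff_pow_eq_one.mp h] at h1
  have hx1 : x = 1 := by
    have h2 : x = c⁻¹ * (c * x * c⁻¹) * c := by group
    rw [h2, h1]
    group
  rw [hx1, orderOf_one] at hx
  exact hp.one_lt.ne hx

variable (k : Type*) [Field k]

/-- The weight homomorphism of the normalizer into the units of a field of characteristic
`p`. -/
noncomputable def wtHom {x : G} {p : ℕ} (hp : p.Prime) (hx : orderOf x = p) [CharP k p] :
    ↥(Nx x) →* kˣ where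
  toFun n := Units.mk0 ((aexp x n.1 : ℕ) : k) (by
    rw [Ne, CharP.cast_eq_zero_iff k p]
    exact aexp_not_dvd hp hx n.2)
  map_one' := by
    apply Units.ext
    have h1 := aexp_comm hx (c := (1 : G)) (by simp)
    have h2 := (CharP.natCast_eq_natCast k p).mpr h1
    simpa using h2
  map_mul' a b := by
    apply Units.ext
    have h1 := aexp_mul hx a.2 b.2
    have h2 := (CharP.natCast_eq_natCast k p).mpr h1
    simpa using h2

theorem wtHom_val {x : G} {p : ℕ} (hp : p.Prime) (hx : orderOf x = p) [CharP k p]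
    (n : ↥(Nx x)) : ((wtHom k hp hx n : kˣ) : k) = ((aexp x n.1 : ℕ) : k) := rfl

theorem wtHom_ker {x : G} {p : ℕ} (hp : p.Prime) (hx : orderOf x = p) [CharP k p] :
    (wtHom k hp hx).ker =
      (Subgroup.centralizer ((Subgroup.zpowers x : Subgroup G) : Set G)).subgroupOf (Nx x) := by
  ext n
  rw [MonoidHom.mem_ker, Subgroup.mem_subgroupOf, Units.ext_iff, wtHom_val, Units.val_one]
  have h1 : (((aexp x n.1 : ℕ) : k) = 1) ↔ aexp x n.1 ≡ 1 [MOD p] := by
    rw [← CharP.natCast_eq_natCast k p, Nat.cast_one]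
  rw [h1, aexp_comm_iff hx n.2, Subgroup.mem_centralizer_iff]
  constructor
  · intro h w hw
    obtain ⟨j, rfl⟩ := Subgroup.mem_zpowers_iff.mp hw
    have hc : Commute x n.1 := h.symm
    exact (hc.zpow_left j).eq
  · intro h
    exact (h x (Subgroup.mem_zpowers x)).symm

theorem exists_wt_gen {x : G} {p : ℕ} (hp : p.Prime) (hx : orderOf x = p) [CharP k p] :
    ∃ n ∈ Nx x, orderOf (((aexp x n : ℕ) : k)) =
      ((Subgroup.centralizer ((Subgroup.zpowers x : Subgroup G) : Set G)).subgroupOf
        (Nx x)).index := by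
  classical
  set f := wtHom k hp hx with hf
  haveI : Finite f.range := by
    have h := Set.finite_range f
    rw [← MonoidHom.coe_range] at h
    exact h.to_subtype
  haveI : IsCyclic f.range := isCyclic_subgroup_units _
  obtain ⟨u, hu⟩ := IsCyclic.exists_generator (α := f.range)
  have ho := orderOf_eq_card_of_forall_mem_zpowers hu
  obtain ⟨n, hn⟩ := u.2
  refine ⟨n.1, n.2, ?_⟩
  rw [← wtHom_ker k hp hx, Subgroup.index_ker, ← ho, ← Subgroup.orderOf_coe, ← hn,
    ← orderOf_units, wtHom_val]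

end Exp

section Compl

variable {G : Type u} [Group G] [Finite G]

/-- A complement to a Sylow subgroup of prime order in its normalizer. -/
theorem exists_compl {p : ℕ} [Fact p.Prime] (P : Sylow p G) (hP : Nat.card P = p) :
    ∃ H : Subgroup G, H ≤ Subgroup.normalizer ((P : Subgroup G) : Set G) ∧
      ¬ p ∣ Nat.card H ∧
      ∀ n ∈ Subgroup.normalizer ((P : Subgroup G) : Set G),
        ∃ a ∈ (P : Subgroup G), ∃ h ∈ H, n = a * h := by
  classical
  have hp : p.Prime := Fact.out
  set N₀ := Subgroup.normalizer ((P : Subgroup G) : Set G) with hN₀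
  have hle : (P : Subgroup G) ≤ N₀ := Subgroup.le_normalizer
  set P' : Subgroup ↥N₀ := (P : Subgroup G).subgroupOf N₀ with hP'
  haveI : P'.Normal := Subgroup.normal_in_normalizer
  have hcP' : Nat.card P' = p := by
    rw [hP', Nat.card_congr (Subgroup.subgroupOfEquivOfLe hle).toEquiv, hP]
  have hidx : ¬ p ∣ P'.index := by
    intro hdvd
    have h1 : P'.index ∣ (P : Subgroup G).index :=
      Dvd.intro _ (Subgroup.relIndex_mul_index hle)
    exact P.not_dvd_index (hdvd.trans h1)
  have hcop : Nat.Coprime (Nat.card P') P'.index := by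
    rw [hcP']
    exact (Nat.Prime.coprime_iff_not_dvd hp).mpr hidx
  obtain ⟨H', hH'⟩ := Subgroup.exists_right_complement'_of_coprime hcop
  refine ⟨H'.map N₀.subtype, ?_, ?_, ?_⟩
  · rintro _ ⟨h, _, rfl⟩
    exact h.2
  · have h1 : Nat.card (H'.map N₀.subtype) = Nat.card H' :=
      Subgroup.card_map_of_injective (Subgroup.subtype_injective _)
    rw [h1, ← hH'.symm.index_eq_card]
    exact hidx
  · intro n hn
    obtain ⟨⟨a, h⟩, hah, -⟩ := (Subgroup.isComplement'_def.mp hH').existsUnique ⟨n, hn⟩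
    refine ⟨a.1.1, ?_, h.1.1, ⟨h.1, h.2, rfl⟩, ?_⟩
    · exact Subgroup.mem_subgroupOf.mp a.2
    · have h2 := congrArg Subtype.val hah
      simpa using h2.symm

end Compl

section Reps

variable {G : Type u} [Group G] [Fintype G]

/-- Representatives of the conjugacy classes of non-trivial elements of a Sylow subgroup of
prime order: there are at least `(p - 1) / e` of them. -/
theorem exists_reps {p : ℕ} [Fact p.Prime] (P : Sylow p G) (hP : Nat.card P = p) :
    ∃ (Q : Finset (ConjClasses G)) (y : ConjClasses G → G),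
      (∀ c ∈ Q, y c ∈ (P : Subgroup G) ∧ y c ≠ 1 ∧ ConjClasses.mk (y c) = c) ∧
      (p - 1) / (Subgroup.centralizer ((P : Subgroup G) : Set G)).relIndex
        (Subgroup.normalizer ((P : Subgroup G) : Set G)) ≤ Q.card := by
  classical
  set S : Finset G := Finset.univ.filter (fun y => y ∈ (P : Subgroup G) ∧ y ≠ 1) with hS
  set Q := S.image ConjClasses.mk with hQ
  have hex : ∀ c ∈ Q, ∃ y, (y ∈ (P : Subgroup G) ∧ y ≠ 1) ∧ ConjClasses.mk y = c := by
    intro c hc
    obtain ⟨y, hy, rfl⟩ := Finset.mem_image.mp hc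
    exact ⟨y, (Finset.mem_filter.mp hy).2, rfl⟩
  refine ⟨Q, fun c => if hc : c ∈ Q then (hex c hc).choose else 1, ?_, ?_⟩
  · intro c hc
    simp only [dif_pos hc]
    obtain ⟨⟨h1, h2⟩, h3⟩ := (hex c hc).choose_spec
    exact ⟨h1, h2, h3⟩
  · apply Nat.div_le_of_le_mul
    have hScard : S.card = p - 1 := by
      have h1 : S = (Finset.univ.filter (fun y => y ∈ (P : Subgroup G))).erase 1 := by
        ext y
        simp only [hS, Finset.mem_filter, Finset.mem_univ, true_and, Finset.mem_erase]
        tauto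
      rw [h1, Finset.card_erase_of_mem (by simp [one_mem])]
      congr 1
      have h2 : Nat.card (P : Subgroup G) =
          (Finset.univ.filter (fun y => y ∈ (P : Subgroup G))).card := by
        rw [Nat.card_eq_fintype_card, Fintype.card_subtype]
      rw [← h2, hP]
    rw [← hScard]
    apply Finset.card_le_mul_card_image
    intro c hc
    obtain ⟨y₀, hy₀, rfl⟩ := Finset.mem_image.mp hc
    obtain ⟨-, hy₀P, hy₀1⟩ := Finset.mem_filter.mp hy₀
    set N₀ := Subgroup.normalizer ((P : Subgroup G) : Set G) with hN₀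
    set C' := (Subgroup.centralizer ((P : Subgroup G) : Set G)).subgroupOf N₀ with hC'
    haveI : Fintype (↥N₀ ⧸ C') := Fintype.ofFinite _
    have hsub : S.filter (fun a => ConjClasses.mk a = ConjClasses.mk y₀) ⊆
        (Finset.univ : Finset (↥N₀ ⧸ C')).image
          (fun q => (q.out : G) * y₀ * (q.out : G)⁻¹) := by
      intro y hy
      obtain ⟨hyS, hyc⟩ := Finset.mem_filter.mp hy
      obtain ⟨-, hyP, hy1⟩ := Finset.mem_filter.mp hyS
      have hconj : IsConj y₀ y := (ConjClasses.mk_eq_mk_iff_isConj.mp hyc).symm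
      obtain ⟨g, hg⟩ := isConj_iff.mp hconj
      have hgN : g ∈ N₀ := mem_normalizer_of_conj_mem P hP hy₀P hy₀1 (by rw [hg]; exact hyP)
      obtain ⟨c, hc⟩ := QuotientGroup.mk_out_eq_mul C' (⟨g, hgN⟩ : ↥N₀)
      refine Finset.mem_image.mpr ⟨((⟨g, hgN⟩ : ↥N₀) : ↥N₀ ⧸ C'), Finset.mem_univ _, ?_⟩
      rw [hc]
      have hcc : (c : ↥N₀).1 ∈ Subgroup.centralizer ((P : Subgroup G) : Set G) :=
        Subgroup.mem_subgroupOf.mp c.2
      have hcomm : y₀ * (c : ↥N₀).1 = (c : ↥N₀).1 * y₀ :=
        Subgroup.mem_centralizer_iff.mp hcc y₀ hy₀P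
      show g * (c : ↥N₀).1 * y₀ * (g * (c : ↥N₀).1)⁻¹ = y
      rw [← hg, mul_assoc g, ← hcomm]
      group
    calc (S.filter (fun a => ConjClasses.mk a = ConjClasses.mk y₀)).card
        ≤ _ := Finset.card_le_card hsub
      _ ≤ (Finset.univ : Finset (↥N₀ ⧸ C')).card := Finset.card_image_le
      _ = C'.index := by
        rw [Finset.card_univ, ← Nat.card_eq_fintype_card, ← Subgroup.index_eq_card]

end Reps

section Main

variable {G : Type u} [Group G]

theorem lower_bound_aux [Fintype G] (p : ℕ) [Fact p.Prime] (M : Ideal AlgInt)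
    (hM : IsPModular p M) (P : Sylow p G) (hP : Nat.card P = p) :
    (Subgroup.centralizer ((P : Subgroup G) : Set G)).relIndex
        (Subgroup.normalizer ((P : Subgroup G) : Set G)) +
      (p - 1) / (Subgroup.centralizer ((P : Subgroup G) : Set G)).relIndex
        (Subgroup.normalizer ((P : Subgroup G) : Set G)) ≤
      Nat.card (principalBlock M G) := by
  classical
  have hp : p.Prime := Fact.out
  obtain ⟨x, hx, hx1⟩ := exists_gen P hP
  have hz : Subgroup.zpowers x = (P : Subgroup G) := zpowers_eq P hP hx hx1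
  have hord : orderOf x = p := orderOf_eq P hP hx hx1
  haveI hmax : M.IsMaximal := hM.2.1
  letI : Field (AlgInt ⧸ M) := Ideal.Quotient.field M
  let ρ : AlgInt →+* (AlgInt ⧸ M) := Ideal.Quotient.mk M
  have hρs : Function.Surjective ρ := Ideal.Quotient.mk_surjective
  have hker : ∀ a, ρ a = 0 ↔ a ∈ M := fun a => Ideal.Quotient.eq_zero_iff_mem
  haveI hchar : CharP (AlgInt ⧸ M) p := by
    have h0 : ((p : ℕ) : AlgInt ⧸ M) = 0 := by
      have h1 : ρ ((p : ℕ) : AlgInt) = 0 := (hker _).mpr hM.2.2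
      simpa using h1
    have hd : ringChar (AlgInt ⧸ M) ∣ p := ringChar.dvd h0
    have h1 : ringChar (AlgInt ⧸ M) ≠ 1 := CharP.ringChar_ne_one
    have h2 : ringChar (AlgInt ⧸ M) = p := by
      rcases (Nat.dvd_prime hp).mp hd with h | h
      · exact absurd h h1
      · exact h
    exact ringChar.of_eq h2
  have hMp : M.IsPrime := isPrime_of_isPModular hM
  obtain ⟨d, hd, e, he⟩ := exists_den M hMp (blockCoeff (principalBlock M G))
    (fun g => blockCoeff_memLocalRing p M hM (principalBlock M G)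
      (Cfsg.Agent.Lib.CT.ColumnId.isPBlock_principal M) g)
  have hb : IsBlk (fun g => (ρ d)⁻¹ * ρ (e g)) :=
    isBlk ρ M hker (principalBlock M G) d hd e he (triv_mem_principalBlock hMp)
  obtain ⟨H, hHN, hHp, hPH⟩ := exists_compl P hP
  have hNx : Nx x = Subgroup.normalizer ((P : Subgroup G) : Set G) := by
    show Subgroup.normalizer ((Subgroup.zpowers x : Subgroup G) : Set G) = _
    rw [hz]
  have hS : Setup (AlgInt ⧸ M) p x H := by
    refine ⟨hp, hchar, hord, ?_, ?_, ?_, ?_⟩
    · rw [hNx]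
      exact hHN
    · rw [Ne, CharP.cast_eq_zero_iff (AlgInt ⧸ M) p]
      exact hHp
    · intro n hn
      rw [hNx] at hn
      obtain ⟨a, ha, h, hh, rfl⟩ := hPH n hn
      rw [← hz] at ha
      obtain ⟨j, rfl⟩ := exists_pow_of_mem_zpowers ha
      exact ⟨j, h, hh, rfl⟩
    · intro g hg
      rw [hNx] at hg ⊢
      exact hTI P hP hx hx1 g hg
  obtain ⟨n₀, hn₀, hon₀⟩ := exists_wt_gen (AlgInt ⧸ M) hp hord
  have hidx : ((Subgroup.centralizer ((Subgroup.zpowers x : Subgroup G) : Set G)).subgroupOf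
        (Nx x)).index = (Subgroup.centralizer ((P : Subgroup G) : Set G)).relIndex
        (Subgroup.normalizer ((P : Subgroup G) : Set G)) := by
    show ((Subgroup.centralizer ((Subgroup.zpowers x : Subgroup G) : Set G)).subgroupOf
        (Subgroup.normalizer ((Subgroup.zpowers x : Subgroup G) : Set G))).index = _
    rw [hz]
    rfl
  rw [hidx] at hon₀
  obtain ⟨Q, y, hy, hQ⟩ := exists_reps P hP
  generalize (Subgroup.centralizer ((P : Subgroup G) : Set G)).relIndex
        (Subgroup.normalizer ((P : Subgroup G) : Set G)) = e₀ at hon₀ hQ ⊢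
  set lam : Fin e₀ → G → (AlgInt ⧸ M) :=
    fun i g => ((aexp x g : ℕ) : AlgInt ⧸ M) ^ (i : ℕ) with hlam
  have hl : ∀ i, IsWt x (lam i) := by
    intro i
    refine ⟨fun a ha b hb => ?_, fun c hc => ?_⟩
    · show ((aexp x (a * b) : ℕ) : AlgInt ⧸ M) ^ (i : ℕ) =
        ((aexp x a : ℕ) : AlgInt ⧸ M) ^ (i : ℕ) * ((aexp x b : ℕ) : AlgInt ⧸ M) ^ (i : ℕ)
      rw [← mul_pow]
      congr 1
      have h1 := (CharP.natCast_eq_natCast (AlgInt ⧸ M) p).mpr (aexp_mul hord ha hb)
      simpa using h1
    · show ((aexp x c : ℕ) : AlgInt ⧸ M) ^ (i : ℕ) = 1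
      have h1 := (CharP.natCast_eq_natCast (AlgInt ⧸ M) p).mpr (aexp_comm hord hc)
      rw [h1]
      simp
  have hdist : ∀ i j : Fin e₀, i ≠ j → ∃ h ∈ H, lam i h ≠ lam j h := by
    intro i j hij
    obtain ⟨jj, h, hh, hn⟩ := hS.hPH n₀ hn₀
    have hval : ((aexp x n₀ : ℕ) : AlgInt ⧸ M) = ((aexp x h : ℕ) : AlgInt ⧸ M) := by
      have h1 := aexp_mul hord (pow_mem_Nx x jj) (hS.hHN hh)
      have h2 := aexp_comm hord (c := x ^ jj) (by rw [← pow_succ, ← pow_succ'])
      rw [hn]
      have h3 := (CharP.natCast_eq_natCast (AlgInt ⧸ M) p).mpr h1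
      have h4 := (CharP.natCast_eq_natCast (AlgInt ⧸ M) p).mpr h2
      rw [h3, Nat.cast_mul, h4]
      simp
    refine ⟨h, hh, fun heq => hij ?_⟩
    have heq' : ((aexp x n₀ : ℕ) : AlgInt ⧸ M) ^ (i : ℕ) =
        ((aexp x n₀ : ℕ) : AlgInt ⧸ M) ^ (j : ℕ) := by
      rw [hval]
      exact heq
    have h5 := pow_injOn_Iio_orderOf (x := ((aexp x n₀ : ℕ) : AlgInt ⧸ M))
      (by rw [hon₀]; exact i.2) (by rw [hon₀]; exact j.2) heq'
    exact Fin.ext h5
  obtain ⟨τ, hτc, hτi, hτz, hτl⟩ := exists_traces hS hb lam hl hdist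
  have key := bridge ρ hρs M hker (principalBlock M G) d hd e he
    (ι := Fin e₀ ⊕ {c // c ∈ Q})
    (Sum.elim τ (fun q g => ρ (ind M (y q.1) g))) ?_ ?_ ?_
  · rw [Fintype.card_sum, Fintype.card_fin, Fintype.card_coe] at key
    exact le_trans (Nat.add_le_add_left hQ _) key
  · rintro (i | q) g h
    · exact hτc i g h
    · show ρ (ind M (y q.1) (h * g * h⁻¹)) = ρ (ind M (y q.1) g)
      rw [ind_conj]
  · rintro (i | q) g
    · exact hτi i g
    · exact inv_of_mem_span ρ M hker (principalBlock M G) d hd e he (ind M (y q.1))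
        (ind_mem_span M hM P hP (hy q.1 q.2).1 (hy q.1 q.2).2.1) g
  · intro a ha
    have hsplit : ∀ g, ∑ i, a (Sum.inl i) * τ i g +
        ∑ q : {c // c ∈ Q}, a (Sum.inr q) * ρ (ind M (y q.1) g) = 0 := by
      intro g
      have h1 := ha g
      rw [Fintype.sum_sum_type] at h1
      exact h1
    have h1 : ∑ i, a (Sum.inl i) * τ i 1 = 0 := by
      have h2 := hsplit 1
      have h3 : ∑ q : {c // c ∈ Q}, a (Sum.inr q) * ρ (ind M (y q.1) 1) = 0 := by
        apply Finset.sum_eq_zero
        intro q _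
        rw [ind_one M hM P hP (hy q.1 q.2).1 (hy q.1 q.2).2.1, map_zero, mul_zero]
      rw [h3, add_zero] at h2
      exact h2
    have hr : ∀ q : {c // c ∈ Q}, a (Sum.inr q) = 0 := by
      intro q
      have h2 := hsplit (y q.1)
      have hτ1 : ∑ i, a (Sum.inl i) * τ i (y q.1) = 0 := by
        rw [← h1]
        apply Finset.sum_congr rfl
        intro i _
        rw [hτz i (y q.1) (by rw [hz]; exact (hy q.1 q.2).1)]
      rw [hτ1, zero_add] at h2
      rw [Finset.sum_eq_single q] at h2
      · rw [ind_of_conj M hM P hP (hy q.1 q.2).1 (hy q.1 q.2).2.1 (hy q.1 q.2).1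
          (IsConj.refl _), map_one, mul_one] at h2
        exact h2
      · intro q' _ hne
        rw [ind_of_not_conj M hM P hP (hy q'.1 q'.2).1 (hy q'.1 q'.2).2.1 (hy q.1 q.2).1 ?_,
          map_zero, mul_zero]
        intro hc
        apply hne
        apply Subtype.ext
        rw [← (hy q'.1 q'.2).2.2, ← (hy q.1 q.2).2.2]
        exact (ConjClasses.mk_eq_mk_iff_isConj.mpr hc).symm
      · intro h
        exact absurd (Finset.mem_univ _) h
    have hl' : ∀ i, a (Sum.inl i) = 0 := by
      apply hτl (fun i => a (Sum.inl i))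
      intro g
      have h2 := hsplit g
      have h3 : ∑ q : {c // c ∈ Q}, a (Sum.inr q) * ρ (ind M (y q.1) g) = 0 := by
        apply Finset.sum_eq_zero
        intro q _
        rw [hr q, zero_mul]
      rw [h3, add_zero] at h2
      exact h2
    rintro (i | q)
    · exact hl' i
    · exact hr q

/-- **Lower bound**: for a Sylow `p`-subgroup of order `p` with inertial index `e`, the
principal block has at least `e + (p - 1) / e` irreducible characters. -/
theorem lower_bound [Finite G] (p : ℕ) [Fact p.Prime] (M : Ideal AlgInt)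
    (hM : IsPModular p M) (P : Sylow p G) (hP : Nat.card P = p) :
    (Subgroup.centralizer ((P : Subgroup G) : Set G)).relIndex
        (Subgroup.normalizer ((P : Subgroup G) : Set G)) +
      (p - 1) / (Subgroup.centralizer ((P : Subgroup G) : Set G)).relIndex
        (Subgroup.normalizer ((P : Subgroup G) : Set G)) ≤
      Nat.card (principalBlock M G) := by
  haveI : Fintype G := Fintype.ofFinite G
  exact lower_bound_aux p M hM P hP

end Main

end Cfsg.Agent.Lib.Helper17.BrLower
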