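import Mathlib
import Cfsg.Agent.Lib.Helper80.AbSylowPkg
import Cfsg.Agent.Lib.Helper17.BrFin
import Cfsg.Agent.Lib.Helper17.BrLower

/-!
# Brauer's theorem for a Sylow subgroup of prime order: the case `e < p - 1`

The coherent package of helper80 (which also exists for `e = 1`), combined with the lower
bound `k(B₀) ≥ e + (p - 1) / e`, determines the principal block.
-/

set_option autoImplicit false
set_option linter.unusedSectionVars false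
set_option linter.style.haveILetI false
set_option maxHeartbeats 1000000

namespace Cfsg.Agent.Lib.Helper17.BrPkg

open Cfsg Cfsg.Agent.Lib.CT.Wedderburn Cfsg.Agent.Lib.Helper80.AbSylowCh
  Cfsg.Agent.Lib.Helper80.AbSylowGT Cfsg.Agent.Lib.CT.ThirdMain
  Cfsg.Agent.Lib.Helper80.AbSylowMain Cfsg.Agent.Lib.Helper80.AbSylowPkg
  Cfsg.Agent.Lib.Helper17.BrGrp

open scoped ComplexConjugate

universe u
variable {G : Type u} [Group G]

/-- Existence of a package; the same proof as `exists_pkg` of helper80, which only uses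
`0 < m`. -/
theorem exists_pkg' [Finite G] (p : ℕ) [Fact p.Prime] (M : Ideal AlgInt) (hM : IsPModular p M)
    (P : Sylow p G) (hab : IsMulCommutative P) (m : ℕ) (hm1 : 0 < m)
    (hm2 : m + 1 < Nat.card ↥(P : Subgroup G))
    (hCN : (Subgroup.centralizer ((P : Subgroup G) : Set G)).relIndex
      (Subgroup.normalizer ((P : Subgroup G) : Set G)) = m)
    (hfrob : ∀ y : G, y ∈ (P : Subgroup G) → y ≠ 1 →
      Subgroup.centralizer ({y} : Set G) ⊓ Subgroup.normalizer ((P : Subgroup G) : Set G) =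
        Subgroup.centralizer ((P : Subgroup G) : Set G))
    [Fintype (IrrCharacter G)] [Fintype (↥(P : Subgroup G) →* ℂˣ)]
    [DecidableEq (IrrCharacter G)] :
    ∃ (v : (↥(P : Subgroup G) →* ℂˣ) → IrrCharacter G → ℤ) (δ : ℤ) (Γ : IrrCharacter G → ℤ)
      (γ : ℤ) (ζ : (↥(P : Subgroup G) →* ℂˣ) → IrrCharacter G), IsPkg p M P m v δ Γ γ ζ := by
  classical
  have hp : p.Prime := Fact.out
  have hMp := Cfsg.Agent.Lib.Helper77.LocalRing.isPrime_of_isPModular hM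
  have hPab : ∀ a ∈ (P : Subgroup G), ∀ b ∈ (P : Subgroup G), a * b = b * a := fun a ha b hb =>
    congrArg Subtype.val (hab.is_comm.comm (⟨a, ha⟩ : P) ⟨b, hb⟩)
  obtain ⟨v, hv0, hvG, hvR, hvV, hvT, hvE, hv1⟩ := data p M hM P hab hfrob
  rw [hCN] at hvG
  have hRrefl : ∀ ψ : ↥(P : Subgroup G) →* ℂˣ, Rel (P : Subgroup G) ψ ψ := fun ψ =>
    ⟨1, Subgroup.one_mem _, fun w w' h => by
      have : w' = w := Subtype.ext (by simpa using h)
      rw [this]⟩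
  have hnorm : ∀ ψ : ↥(P : Subgroup G) →* ℂˣ, ψ ≠ 1 → ∑ χ, v ψ χ * v ψ χ = (m : ℤ) + 1 :=
    fun ψ hψ => (hvG ψ ψ hψ hψ).1 (hRrefl ψ)
  have hReq : ∀ ψ ψ' : ↥(P : Subgroup G) →* ℂˣ, ψ ≠ 1 → ψ' ≠ 1 →
      (Rel (P : Subgroup G) ψ ψ' ↔ v ψ = v ψ') := by
    intro ψ ψ' hψ hψ'
    constructor
    · intro hR
      have h1 := (hvG ψ ψ' hψ hψ').1 hR
      have h2 := hnorm ψ hψ
      have h3 := hnorm ψ' hψ'
      have h4 : ∑ χ, (v ψ χ - v ψ' χ) ^ 2 = 0 := by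
        have e : ∀ χ, (v ψ χ - v ψ' χ) ^ 2 =
            v ψ χ * v ψ χ - 2 * (v ψ χ * v ψ' χ) + v ψ' χ * v ψ' χ := fun χ => by ring
        simp_rw [e]
        rw [Finset.sum_add_distrib, Finset.sum_sub_distrib, ← Finset.mul_sum, h1, h2, h3]
        ring
      funext χ
      have h5 := (Finset.sum_eq_zero_iff_of_nonneg
        (fun χ _ => sq_nonneg (v ψ χ - v ψ' χ))).mp h4 χ (Finset.mem_univ _)
      have h6 : v ψ χ - v ψ' χ = 0 := by simpa using h5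
      linarith
    · intro heq
      by_contra hR
      have h1 := (hvG ψ ψ' hψ hψ').2 hR
      have h2 := hnorm ψ hψ
      rw [← heq] at h1
      linarith
  have hRne : ∀ ψ ψ' : ↥(P : Subgroup G) →* ℂˣ, ψ ≠ 1 → Rel (P : Subgroup G) ψ ψ' → ψ' ≠ 1 := by
    rintro ψ ψ' hψ ⟨n, hn, h⟩ rfl
    apply hψ
    refine MonoidHom.ext fun w => ?_
    have := h w ⟨n * w * n⁻¹, (Subgroup.mem_normalizer_iff.mp hn _).mp w.2⟩ rfl
    rw [← this]
    rfl
  have hcardΨ : Fintype.card (↥(P : Subgroup G) →* ℂˣ) = Nat.card ↥(P : Subgroup G) := by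
    rw [← Nat.card_eq_fintype_card]
    exact Cfsg.Agent.S1507.card_hom_sub (P : Subgroup G) hPab
  have hcardne : (Finset.univ.filter (fun ψ : ↥(P : Subgroup G) →* ℂˣ => ψ ≠ 1)).card =
      Nat.card ↥(P : Subgroup G) - 1 := by
    rw [Finset.filter_ne', Finset.card_erase_of_mem (Finset.mem_univ _), Finset.card_univ,
      hcardΨ]
  have hclass : ∀ ψ : ↥(P : Subgroup G) →* ℂˣ, ψ ≠ 1 →
      Nat.card {ψ' : ↥(P : Subgroup G) →* ℂˣ // Rel (P : Subgroup G) ψ ψ'} = m := fun ψ hψ => by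
    rw [card_class p P hab hfrob ψ hψ, hCN]
  obtain ⟨ψ₀, hψ₀⟩ : ∃ ψ₀ : ↥(P : Subgroup G) →* ℂˣ, ψ₀ ≠ 1 := by
    by_contra hall
    have h0 : (Finset.univ.filter (fun ψ : ↥(P : Subgroup G) →* ℂˣ => ψ ≠ 1)) = ∅ := by
      rw [Finset.filter_eq_empty_iff]
      intro ψ _ hψ
      exact hall ⟨ψ, hψ⟩
    rw [h0, Finset.card_empty] at hcardne
    omega
  obtain ⟨ψ₁, hψ₁, hR01⟩ : ∃ ψ₁ : ↥(P : Subgroup G) →* ℂˣ,
      ψ₁ ≠ 1 ∧ ¬ Rel (P : Subgroup G) ψ₀ ψ₁ := by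
    by_contra hall
    have hsub : ∀ ψ : ↥(P : Subgroup G) →* ℂˣ, ψ ≠ 1 → Rel (P : Subgroup G) ψ₀ ψ := by
      intro ψ hψ
      by_contra h
      exact hall ⟨ψ, hψ, h⟩
    have h1 : (Finset.univ.filter (fun ψ : ↥(P : Subgroup G) →* ℂˣ => ψ ≠ 1)).card ≤
        (Finset.univ.filter
          (fun ψ : ↥(P : Subgroup G) →* ℂˣ => Rel (P : Subgroup G) ψ₀ ψ)).card :=
      Finset.card_le_card (fun ψ hψ => by
        rw [Finset.mem_filter] at hψ ⊢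
        exact ⟨Finset.mem_univ _, hsub ψ hψ.2⟩)
    rw [hcardne, ← Fintype.card_subtype, ← Nat.card_eq_fintype_card, hclass ψ₀ hψ₀] at h1
    omega
  have hw : ∀ χ : IrrCharacter G, (0 : ℤ) < (charDegree (χ : G → ℂ) : ℤ) := fun χ => by
    exact_mod_cast irr_charDegree_pos χ.2
  have hSnorm : ∀ x ∈ {x : IrrCharacter G → ℤ |
      ∃ ψ : ↥(P : Subgroup G) →* ℂˣ, ψ ≠ 1 ∧ v ψ = x}, ∑ χ, x χ ^ 2 = (m : ℤ) + 1 := by
    rintro x ⟨ψ, hψ, rfl⟩
    rw [← hnorm ψ hψ]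
    exact Finset.sum_congr rfl fun χ _ => sq (v ψ χ)
  have hSinner : ∀ x ∈ {x : IrrCharacter G → ℤ |
      ∃ ψ : ↥(P : Subgroup G) →* ℂˣ, ψ ≠ 1 ∧ v ψ = x},
      ∀ y ∈ {x : IrrCharacter G → ℤ | ∃ ψ : ↥(P : Subgroup G) →* ℂˣ, ψ ≠ 1 ∧ v ψ = x},
      x ≠ y → ∑ χ, x χ * y χ = (m : ℤ) := by
    rintro x ⟨ψ, hψ, rfl⟩ y ⟨ψ', hψ', rfl⟩ hne
    exact (hvG ψ ψ' hψ hψ').2 (fun hR => hne ((hReq ψ ψ' hψ hψ').mp hR))
  have hSwt : ∀ x ∈ {x : IrrCharacter G → ℤ |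
      ∃ ψ : ↥(P : Subgroup G) →* ℂˣ, ψ ≠ 1 ∧ v ψ = x},
      ∑ χ : IrrCharacter G, (charDegree (χ : G → ℂ) : ℤ) * x χ = 0 := by
    rintro x ⟨ψ, hψ, rfl⟩
    have h := hvR ψ 1 (by rw [orderOf_one]; exact fun h => hp.one_lt.ne' (Nat.dvd_one.mp h))
    have h' : ((∑ χ : IrrCharacter G, (charDegree (χ : G → ℂ) : ℤ) * v ψ χ : ℤ) : ℂ) = 0 := by
      rw [← h]
      push_cast
      refine Finset.sum_congr rfl fun χ _ => ?_
      rw [char_natCast_charDegree (isCharacter_of_irr χ.2)]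
      ring
    exact_mod_cast h'
  obtain ⟨δ, Γ, γ, ζ', hδ, hform, hΓζ, hΓsum⟩ :=
    Cfsg.Agent.Lib.Helper80.Coherence.coherence (m : ℤ)
      (fun χ : IrrCharacter G => (charDegree (χ : G → ℂ) : ℤ)) hw
      {x : IrrCharacter G → ℤ | ∃ ψ : ↥(P : Subgroup G) →* ℂˣ, ψ ≠ 1 ∧ v ψ = x}
      hSnorm hSinner hSwt (v ψ₀) (v ψ₁) ⟨ψ₀, hψ₀, rfl⟩ ⟨ψ₁, hψ₁, rfl⟩
      (fun h => hR01 ((hReq ψ₀ ψ₁ hψ₀ hψ₁).mpr h.symm))
  have hK1 : ∀ ψ : ↥(P : Subgroup G) →* ℂˣ, ψ ≠ 1 → ∀ χ,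
      v ψ χ = Γ χ + δ * (if χ = ζ' (v ψ) then 1 else 0) := by
    intro ψ hψ χ
    rw [hform (v ψ) ⟨ψ, hψ, rfl⟩ χ]
  refine ⟨v, δ, Γ, γ, fun ψ => ζ' (v ψ), ?_⟩
  refine
    { hv0 := hv0
      hvR := hvR
      hvV := hvV
      hvT := hvT
      hvE := hvE
      hv1 := hv1
      hδ := hδ
      hK1 := hK1
      hΓζ := fun ψ hψ => hΓζ (v ψ) ⟨ψ, hψ, rfl⟩
      hK2 := ?_
      hΓsum := hΓsum
      hRne := hRne
      hclass := hclass
      hcardΨ := hcardΨ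
      hPab := hPab
      hex := ⟨ψ₀, ψ₁, hψ₀, hψ₁, hR01⟩
      hMp := hMp
      hp := hp
      hm := by omega
      hm2 := hm2 }
  intro ψ ψ' hψ hψ'
  rw [hReq ψ ψ' hψ hψ']
  constructor
  · intro h
    funext χ
    rw [hK1 ψ hψ χ, hK1 ψ' hψ' χ, h]
  · intro h
    rw [h]

/-- An integer inequality: `t γ² + 2 δ γ ≤ 0` with `t ≥ 2`, `δ = ±1` forces equality, and
`γ = 0` or `t = 2`, `γ = -δ`. -/
theorem arith_gamma (T γ δ : ℤ) (hT : 2 ≤ T) (hδ : δ = 1 ∨ δ = -1)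
    (h : T * γ ^ 2 + 2 * δ * γ ≤ 0) :
    T * γ ^ 2 + 2 * δ * γ = 0 ∧ (γ = 0 ∨ (T = 2 ∧ γ = -δ)) := by
  have h1 : 0 ≤ γ * (γ + δ) := by
    rcases hδ with hd | hd <;> subst hd
    · rcases le_or_gt 0 γ with h0 | h0
      · exact mul_nonneg h0 (by linarith)
      · exact mul_nonneg_of_nonpos_of_nonpos (by linarith) (by linarith)
    · rcases le_or_gt γ 0 with h0 | h0
      · exact mul_nonneg_of_nonpos_of_nonpos h0 (by linarith)
      · exact mul_nonneg (by linarith) (by linarith)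
  have h2 : 0 ≤ (T - 2) * γ ^ 2 := mul_nonneg (by linarith) (sq_nonneg γ)
  have h3 : T * γ ^ 2 + 2 * δ * γ = (T - 2) * γ ^ 2 + 2 * (γ * (γ + δ)) := by ring
  have h4 : (T - 2) * γ ^ 2 = 0 := by linarith
  have h5 : γ * (γ + δ) = 0 := by linarith
  refine ⟨by rw [h3, h4, h5]; ring, ?_⟩
  rcases mul_eq_zero.mp h5 with h6 | h6
  · exact Or.inl h6
  · by_cases h7 : γ = 0
    · exact Or.inl h7
    · right
      rcases mul_eq_zero.mp h4 with h8 | h8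
      · exact ⟨by linarith, by linarith⟩
      · exact absurd (pow_eq_zero_iff (two_ne_zero)|>.mp h8) h7

theorem caseA [Fintype G] (p : ℕ) [Fact p.Prime] (M : Ideal AlgInt) (hM : IsPModular p M)
    (P : Sylow p G) (hP : Nat.card P = p) (e : ℕ)
    (he : (Subgroup.centralizer ((P : Subgroup G) : Set G)).relIndex
      (Subgroup.normalizer ((P : Subgroup G) : Set G)) = e)
    (he0 : 0 < e) (he2 : e + 1 < p) :
    ∃ X Y : Set (IrrCharacter G), principalBlock M G = X ∪ Y ∧ Disjoint X Y ∧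
      Nat.card X = e ∧ Nat.card Y = (p - 1) / e ∧
      ∃ (εX : IrrCharacter G → ℤ) (ε : ℤ),
        (∀ χ ∈ X, (εX χ = 1 ∨ εX χ = -1) ∧
          (charDegree (χ : G → ℂ) : ℤ) ≡ εX χ [ZMOD p] ∧
          ∀ x : G, x ∈ (P : Subgroup G) → x ≠ 1 →
            ∀ y : G, y ∈ Subgroup.centralizer ((P : Subgroup G) : Set G) → ¬ p ∣ orderOf y →
              (χ : G → ℂ) (x * y) = (εX χ : ℂ)) ∧
        (ε = 1 ∨ ε = -1) ∧
        (∀ θ ∈ Y, (charDegree (θ : G → ℂ) : ℤ) ≡ ε * (e : ℤ) [ZMOD p]) ∧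
        (∀ θ ∈ Y, ∀ θ' ∈ Y, ∀ g : G, ¬ p ∣ orderOf g → (θ : G → ℂ) g = (θ' : G → ℂ) g) ∧
        ∀ θ ∈ Y, ∀ g : G, ¬ p ∣ orderOf g →
          (ε : ℂ) * (θ : G → ℂ) g = ∑ᶠ χ ∈ X, (εX χ : ℂ) * (χ : G → ℂ) g := by
  classical
  have hp : p.Prime := Fact.out
  haveI := finite_irrCharacter G
  letI : Fintype (IrrCharacter G) := Fintype.ofFinite _
  have hab := isMulCommutative P hP
  have hPab : ∀ a ∈ (P : Subgroup G), ∀ b ∈ (P : Subgroup G), a * b = b * a := fun a ha b hb =>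
    congrArg Subtype.val (hab.is_comm.comm (⟨a, ha⟩ : P) ⟨b, hb⟩)
  haveI := finite_hom (P : Subgroup G) hPab
  letI : Fintype (↥(P : Subgroup G) →* ℂˣ) := Fintype.ofFinite _
  have hPc : Nat.card ↥(P : Subgroup G) = p := hP
  obtain ⟨v, δ, Γ, γ, ζ, h⟩ := exists_pkg' p M hM P hab e he0 (by rw [hPc]; exact he2) he
    (hfrob P hP)
  obtain ⟨X, hXdef⟩ : ∃ X, X = principalBlock M G \ Yset ζ := ⟨_, rfl⟩
  obtain ⟨Y, hYdef⟩ : ∃ Y, Y = Yset ζ := ⟨_, rfl⟩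
  have hBXY : principalBlock M G = X ∪ Y := by
    rw [hXdef, hYdef]
    exact (Set.sdiff_union_of_subset h.Y_sub).symm
  have hdisj : Disjoint X Y := by
    rw [hXdef, hYdef]
    exact Set.disjoint_sdiff_left
  have hcY : p - 1 = Nat.card Y * e := by
    have h1 := h.card_Y
    rw [hPc, ← hYdef] at h1
    exact h1
  have hYcard : Nat.card Y = (p - 1) / e := by
    rw [hcY, Nat.mul_div_cancel _ he0]
  have ht2 : 2 ≤ Nat.card Y := by
    rw [hYdef]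
    exact h.two_le_card_Y
  have hlow := BrLower.lower_bound p M hM P hP
  rw [he] at hlow
  have hBcard : Nat.card (principalBlock M G) = Nat.card X + Nat.card Y := by
    rw [Nat.card_coe_set_eq, Nat.card_coe_set_eq, Nat.card_coe_set_eq, hBXY,
      Set.ncard_union_eq hdisj (Set.toFinite _) (Set.toFinite _)]
  have hXge : e ≤ Nat.card X := by omega
  have hsq := h.sq
  have hΓsum := h.hΓsum
  rw [← hXdef, ← hYdef, Cfsg.Agent.Lib.CT.ColumnId.finsum_mem_eq_sum] at hsq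
  have hc : (Nat.card X : ℤ) = ∑ χ : IrrCharacter G, if χ ∈ X then (1 : ℤ) else 0 := by
    rw [Finset.sum_boole, Nat.card_eq_fintype_card, Fintype.card_subtype]
  have hΓne : ∀ χ ∈ X, Γ χ ≠ 0 := fun χ hχ => h.Γ_ne_zero χ (hXdef ▸ hχ)
  have hterm : ∀ χ : IrrCharacter G,
      (if χ ∈ X then (1 : ℤ) else 0) ≤ (if χ ∈ X then Γ χ ^ 2 else 0) := by
    intro χ
    by_cases hχ : χ ∈ X
    · rw [if_pos hχ, if_pos hχ]
      exact Int.le_of_sub_one_lt (by simpa using sq_pos_of_ne_zero (hΓne χ hχ))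
    · rw [if_neg hχ, if_neg hχ]
  have hXsum_ge : (Nat.card X : ℤ) ≤ ∑ χ : IrrCharacter G, if χ ∈ X then Γ χ ^ 2 else 0 := by
    rw [hc]
    exact Finset.sum_le_sum fun χ _ => hterm χ
  have hXgeZ : (e : ℤ) ≤ (Nat.card X : ℤ) := by exact_mod_cast hXge
  have hT : (2 : ℤ) ≤ (Nat.card Y : ℤ) := by exact_mod_cast ht2
  have hle : (Nat.card Y : ℤ) * γ ^ 2 + 2 * δ * γ ≤ 0 := by linarith
  obtain ⟨hE0, hγ⟩ := arith_gamma (Nat.card Y : ℤ) γ δ hT h.hδ hle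
  have hSX : ∑ χ : IrrCharacter G, (if χ ∈ X then Γ χ ^ 2 else 0) = (e : ℤ) := by linarith
  have hXcardZ : (Nat.card X : ℤ) = (e : ℤ) := by linarith
  have hXcard : Nat.card X = e := by exact_mod_cast hXcardZ
  have hΓsq : ∀ χ ∈ X, Γ χ ^ 2 = 1 := by
    intro χ hχ
    have h0 : ∑ χ : IrrCharacter G,
        ((if χ ∈ X then Γ χ ^ 2 else 0) - (if χ ∈ X then (1 : ℤ) else 0)) = 0 := by
      rw [Finset.sum_sub_distrib, hSX, ← hc, hXcardZ, sub_self]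
    have h1 := (Finset.sum_eq_zero_iff_of_nonneg
      (fun χ _ => sub_nonneg.mpr (hterm χ))).mp h0 χ (Finset.mem_univ _)
    rw [if_pos hχ, if_pos hχ] at h1
    linarith
  have hΓpm : ∀ χ ∈ X, -Γ χ = 1 ∨ -Γ χ = -1 := by
    intro χ hχ
    have h1 := hΓsq χ hχ
    have h2 : (Γ χ - 1) * (Γ χ + 1) = 0 := by linear_combination h1
    rcases mul_eq_zero.mp h2 with h3 | h3
    · right
      linarith
    · left
      linarith
  have hε : (Nat.card Y : ℤ) * γ + δ = 1 ∨ (Nat.card Y : ℤ) * γ + δ = -1 := by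
    rcases hγ with h0 | ⟨h2, h3⟩
    · rw [h0, mul_zero, zero_add]
      exact h.hδ
    · rw [h2, h3]
      rcases h.hδ with hd | hd <;> rw [hd] <;> norm_num
  refine BrFin.finish M P hP e X Y hBXY hdisj hXcard hYcard (fun χ => -Γ χ)
    ((Nat.card Y : ℤ) * γ + δ) hΓpm ?_ hε ?_ ?_
  · intro χ hχ z y hz hy hy1
    exact h.value_X χ (hXdef ▸ hχ) z y hz hy hy1
  · intro θ hθ θ' hθ' g hg
    exact h.agree θ (hYdef ▸ hθ) θ' (hYdef ▸ hθ') g hg
  · intro θ hθ g hg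
    have hreg := h.reg_X θ (hYdef ▸ hθ) g hg
    rw [← hXdef, ← hYdef, Cfsg.Agent.Lib.CT.ColumnId.finsum_mem_eq_sum] at hreg
    rw [Cfsg.Agent.Lib.CT.ColumnId.finsum_mem_eq_sum]
    have hneg : ∑ χ : IrrCharacter G,
        (if χ ∈ X then ((-Γ χ : ℤ) : ℂ) * (χ : G → ℂ) g else 0) =
        -∑ χ : IrrCharacter G, (if χ ∈ X then (Γ χ : ℂ) * (χ : G → ℂ) g else 0) := by
      rw [← Finset.sum_neg_distrib]
      refine Finset.sum_congr rfl fun χ _ => ?_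
      by_cases hχ : χ ∈ X
      · rw [if_pos hχ, if_pos hχ]
        push_cast
        ring
      · rw [if_neg hχ, if_neg hχ, neg_zero]
    rw [hneg]
    push_cast
    linear_combination hreg

end Cfsg.Agent.Lib.Helper17.BrPkg
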