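import Mathlib
import Cfsg.Agent.Lib.Helper17.BrPkg

/-!
# Brauer's theorem for a Sylow subgroup of prime order

The case `e = p - 1` (a single column) and the assembly of the theorem.
-/

set_option autoImplicit false
set_option linter.unusedSectionVars false
set_option linter.style.haveILetI false
set_option maxHeartbeats 1000000

namespace Cfsg.Agent.Lib.Helper17.BrTop

open Cfsg Cfsg.Agent.Lib.CT.Wedderburn Cfsg.Agent.Lib.Helper80.AbSylowCh
  Cfsg.Agent.Lib.Helper80.AbSylowGT Cfsg.Agent.Lib.CT.ThirdMain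
  Cfsg.Agent.Lib.Helper80.AbSylowMain Cfsg.Agent.Lib.Helper80.AbSylowPkg
  Cfsg.Agent.Lib.Helper17.BrGrp

open scoped ComplexConjugate

universe u
variable {G : Type u} [Group G]

section Rel

variable [Finite G] {p : ℕ} [Fact p.Prime] (P : Sylow p G) (hP : Nat.card P = p)

theorem rel_refl (ψ : ↥(P : Subgroup G) →* ℂˣ) : Rel (P : Subgroup G) ψ ψ :=
  ⟨1, Subgroup.one_mem _, fun w w' h => by
    have : w' = w := Subtype.ext (by simpa using h)
    rw [this]⟩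

theorem rel_ne (ψ ψ' : ↥(P : Subgroup G) →* ℂˣ) (hψ : ψ ≠ 1)
    (hR : Rel (P : Subgroup G) ψ ψ') : ψ' ≠ 1 := by
  obtain ⟨n, hn, h⟩ := hR
  rintro rfl
  apply hψ
  refine MonoidHom.ext fun w => ?_
  have := h w ⟨n * w * n⁻¹, (Subgroup.mem_normalizer_iff.mp hn _).mp w.2⟩ rfl
  rw [← this]
  rfl

include hP

theorem card_ne_one [Fintype (↥(P : Subgroup G) →* ℂˣ)]
    [DecidableEq (↥(P : Subgroup G) →* ℂˣ)] :
    (Finset.univ.filter (fun ψ : ↥(P : Subgroup G) →* ℂˣ => ψ ≠ 1)).card = p - 1 := by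
  have hab := isMulCommutative P hP
  have hPab : ∀ a ∈ (P : Subgroup G), ∀ b ∈ (P : Subgroup G), a * b = b * a := fun a ha b hb =>
    congrArg Subtype.val (hab.is_comm.comm (⟨a, ha⟩ : P) ⟨b, hb⟩)
  have hPc : Nat.card ↥(P : Subgroup G) = p := hP
  have hcardΨ : Fintype.card (↥(P : Subgroup G) →* ℂˣ) = Nat.card ↥(P : Subgroup G) := by
    rw [← Nat.card_eq_fintype_card]
    exact Cfsg.Agent.S1507.card_hom_sub (P : Subgroup G) hPab
  rw [Finset.filter_ne', Finset.card_erase_of_mem (Finset.mem_univ _), Finset.card_univ,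
    hcardΨ, hPc]

theorem exists_ne_one : ∃ ψ₀ : ↥(P : Subgroup G) →* ℂˣ, ψ₀ ≠ 1 := by
  classical
  have hp : p.Prime := Fact.out
  have hab := isMulCommutative P hP
  have hPab : ∀ a ∈ (P : Subgroup G), ∀ b ∈ (P : Subgroup G), a * b = b * a := fun a ha b hb =>
    congrArg Subtype.val (hab.is_comm.comm (⟨a, ha⟩ : P) ⟨b, hb⟩)
  haveI := finite_hom (P : Subgroup G) hPab
  letI : Fintype (↥(P : Subgroup G) →* ℂˣ) := Fintype.ofFinite _
  by_contra hall
  have h0 : (Finset.univ.filter (fun ψ : ↥(P : Subgroup G) →* ℂˣ => ψ ≠ 1)) = ∅ := by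
    rw [Finset.filter_eq_empty_iff]
    intro ψ _ hψ
    exact hall ⟨ψ, hψ⟩
  have h1 := card_ne_one P hP
  rw [h0, Finset.card_empty] at h1
  have := hp.two_le
  omega

/-- The class of a non-trivial character has `e` elements, all non-trivial. -/
theorem class_sub [Fintype (↥(P : Subgroup G) →* ℂˣ)] (e : ℕ)
    (he : (Subgroup.centralizer ((P : Subgroup G) : Set G)).relIndex
      (Subgroup.normalizer ((P : Subgroup G) : Set G)) = e)
    (ψ : ↥(P : Subgroup G) →* ℂˣ) (hψ : ψ ≠ 1)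
    [DecidablePred (fun ψ' : ↥(P : Subgroup G) →* ℂˣ => Rel (P : Subgroup G) ψ ψ')]
    [DecidableEq (↥(P : Subgroup G) →* ℂˣ)] :
    (Finset.univ.filter (fun ψ' : ↥(P : Subgroup G) →* ℂˣ => Rel (P : Subgroup G) ψ ψ')) ⊆
      (Finset.univ.filter (fun ψ' : ↥(P : Subgroup G) →* ℂˣ => ψ' ≠ 1)) ∧
    (Finset.univ.filter
      (fun ψ' : ↥(P : Subgroup G) →* ℂˣ => Rel (P : Subgroup G) ψ ψ')).card = e := by
  have hab := isMulCommutative P hP
  refine ⟨?_, ?_⟩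
  · intro ψ'' h''
    rw [Finset.mem_filter] at h'' ⊢
    exact ⟨Finset.mem_univ _, rel_ne P ψ ψ'' hψ h''.2⟩
  · rw [← Fintype.card_subtype, ← Nat.card_eq_fintype_card,
      card_class p P hab (hfrob P hP) ψ hψ, he]

/-- The inertial index satisfies `0 < e ≤ p - 1`. -/
theorem e_bounds (e : ℕ)
    (he : (Subgroup.centralizer ((P : Subgroup G) : Set G)).relIndex
      (Subgroup.normalizer ((P : Subgroup G) : Set G)) = e) : 0 < e ∧ e + 1 ≤ p := by
  classical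
  have hp : p.Prime := Fact.out
  have hab := isMulCommutative P hP
  have hPab : ∀ a ∈ (P : Subgroup G), ∀ b ∈ (P : Subgroup G), a * b = b * a := fun a ha b hb =>
    congrArg Subtype.val (hab.is_comm.comm (⟨a, ha⟩ : P) ⟨b, hb⟩)
  haveI := finite_hom (P : Subgroup G) hPab
  letI : Fintype (↥(P : Subgroup G) →* ℂˣ) := Fintype.ofFinite _
  obtain ⟨ψ₀, hψ₀⟩ := exists_ne_one P hP
  obtain ⟨hsub, hcard⟩ := class_sub P hP e he ψ₀ hψ₀
  have h1 := Finset.card_le_card hsub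
  rw [hcard, card_ne_one P hP] at h1
  have h2 : 0 < (Finset.univ.filter
      (fun ψ' : ↥(P : Subgroup G) →* ℂˣ => Rel (P : Subgroup G) ψ₀ ψ')).card :=
    Finset.card_pos.mpr ⟨ψ₀, Finset.mem_filter.mpr ⟨Finset.mem_univ _, rel_refl P ψ₀⟩⟩
  rw [hcard] at h2
  have := hp.two_le
  exact ⟨h2, by omega⟩

end Rel

theorem caseB [Fintype G] (p : ℕ) [Fact p.Prime] (M : Ideal AlgInt) (hM : IsPModular p M)
    (P : Sylow p G) (hP : Nat.card P = p) (e : ℕ)
    (he : (Subgroup.centralizer ((P : Subgroup G) : Set G)).relIndex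
      (Subgroup.normalizer ((P : Subgroup G) : Set G)) = e)
    (he1 : e + 1 = p) :
    ∃ X Y : Set (IrrCharacter G), principalBlock M G = X ∪ Y ∧ Disjoint X Y ∧
      Nat.card X = e ∧ Nat.card Y = (p - 1) / e ∧
      ∃ (εX : IrrCharacter G → ℤ) (ε : ℤ),
        (∀ χ ∈ X, (εX χ = 1 ∨ εX χ = -1) ∧
          (charDegree (χ : G → ℂ) : ℤ) ≡ εX χ [ZMOD p] ∧
          ∀ x : G, x ∈ (P : Subgroup G) → x ≠ 1 →
            ∀ y : G, y ∈ Subgroup.centralizer ((P : Subgroup G) : Set G) → ¬ p ∣ orderOf y →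
              (χ : G → ℂ) (x * y) = (εX χ : ℂ)) ∧
        (ε = 1 ∨ ε = -1) ∧
        (∀ θ ∈ Y, (charDegree (θ : G → ℂ) : ℤ) ≡ ε * (e : ℤ) [ZMOD p]) ∧
        (∀ θ ∈ Y, ∀ θ' ∈ Y, ∀ g : G, ¬ p ∣ orderOf g → (θ : G → ℂ) g = (θ' : G → ℂ) g) ∧
        ∀ θ ∈ Y, ∀ g : G, ¬ p ∣ orderOf g →
          (ε : ℂ) * (θ : G → ℂ) g = ∑ᶠ χ ∈ X, (εX χ : ℂ) * (χ : G → ℂ) g := by
  classical
  have hp : p.Prime := Fact.out
  have hMp := Cfsg.Agent.Lib.Helper77.LocalRing.isPrime_of_isPModular hM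
  haveI := finite_irrCharacter G
  letI : Fintype (IrrCharacter G) := Fintype.ofFinite _
  have hab := isMulCommutative P hP
  have hPab : ∀ a ∈ (P : Subgroup G), ∀ b ∈ (P : Subgroup G), a * b = b * a := fun a ha b hb =>
    congrArg Subtype.val (hab.is_comm.comm (⟨a, ha⟩ : P) ⟨b, hb⟩)
  haveI := finite_hom (P : Subgroup G) hPab
  letI : Fintype (↥(P : Subgroup G) →* ℂˣ) := Fintype.ofFinite _
  have hPc : Nat.card ↥(P : Subgroup G) = p := hP
  have he0 : 0 < e := (e_bounds P hP e he).1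
  obtain ⟨v, hv0, hvG, hvR, hvV, hvT, hvE, hv1⟩ := data p M hM P hab (hfrob P hP)
  rw [he] at hvG
  -- all non-trivial characters of `P` are related
  have hall : ∀ ψ ψ' : ↥(P : Subgroup G) →* ℂˣ, ψ ≠ 1 → ψ' ≠ 1 →
      Rel (P : Subgroup G) ψ ψ' := by
    intro ψ ψ' hψ hψ'
    obtain ⟨hsub, hcard⟩ := class_sub P hP e he ψ hψ
    have hle : (Finset.univ.filter (fun ψ' : ↥(P : Subgroup G) →* ℂˣ => ψ' ≠ 1)).card ≤
        (Finset.univ.filter
          (fun ψ' : ↥(P : Subgroup G) →* ℂˣ => Rel (P : Subgroup G) ψ ψ')).card := by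
      rw [hcard, card_ne_one P hP]
      omega
    have heq := Finset.eq_of_subset_of_card_le hsub hle
    have hmem : ψ' ∈ Finset.univ.filter (fun ψ' : ↥(P : Subgroup G) →* ℂˣ => ψ' ≠ 1) :=
      Finset.mem_filter.mpr ⟨Finset.mem_univ _, hψ'⟩
    rw [← heq] at hmem
    exact (Finset.mem_filter.mp hmem).2
  have hnorm : ∀ ψ : ↥(P : Subgroup G) →* ℂˣ, ψ ≠ 1 → ∑ χ, v ψ χ * v ψ χ = (e : ℤ) + 1 :=
    fun ψ hψ => (hvG ψ ψ hψ hψ).1 (rel_refl P ψ)
  have hveq : ∀ ψ ψ' : ↥(P : Subgroup G) →* ℂˣ, ψ ≠ 1 → ψ' ≠ 1 → v ψ = v ψ' := by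
    intro ψ ψ' hψ hψ'
    have h1 := (hvG ψ ψ' hψ hψ').1 (hall ψ ψ' hψ hψ')
    have h2 := hnorm ψ hψ
    have h3 := hnorm ψ' hψ'
    have h4 : ∑ χ, (v ψ χ - v ψ' χ) ^ 2 = 0 := by
      have e' : ∀ χ, (v ψ χ - v ψ' χ) ^ 2 =
          v ψ χ * v ψ χ - 2 * (v ψ χ * v ψ' χ) + v ψ' χ * v ψ' χ := fun χ => by ring
      simp_rw [e']
      rw [Finset.sum_add_distrib, Finset.sum_sub_distrib, ← Finset.mul_sum, h1, h2, h3]
      ring
    funext χ
    have h5 := (Finset.sum_eq_zero_iff_of_nonneg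
      (fun χ _ => sq_nonneg (v ψ χ - v ψ' χ))).mp h4 χ (Finset.mem_univ _)
    have h6 : v ψ χ - v ψ' χ = 0 := by simpa using h5
    linarith
  obtain ⟨ψ₀, hψ₀⟩ := exists_ne_one P hP
  obtain ⟨w, hwdef⟩ : ∃ w, w = v ψ₀ := ⟨_, rfl⟩
  have hwv : ∀ ψ : ↥(P : Subgroup G) →* ℂˣ, ψ ≠ 1 → v ψ = w := fun ψ hψ => by
    rw [hwdef]
    exact hveq ψ ψ₀ hψ hψ₀
  have hw0 : ∀ χ, χ ∉ principalBlock M G → w χ = 0 := fun χ hχ => by
    rw [hwdef]
    exact hv0 ψ₀ χ hχ
  have hwT : w (triv G) = -1 := by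
    rw [hwdef]
    exact hvT ψ₀ hψ₀
  have hwne : ∀ χ ∈ principalBlock M G, w χ ≠ 0 := by
    intro χ hχ h0
    have hall0 : ∀ ψ, v ψ χ = 0 := by
      intro ψ
      by_cases hψ : ψ = 1
      · rw [hψ]
        exact hv1 χ
      · rw [hwv ψ hψ]
        exact h0
    have htr := hvE χ hχ hall0
    rw [htr, hwT] at h0
    norm_num at h0
  have hwsum : ∑ χ, w χ ^ 2 = (p : ℤ) := by
    have h1 := hnorm ψ₀ hψ₀
    rw [← hwdef] at h1
    rw [← he1]
    push_cast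
    rw [← h1]
    exact Finset.sum_congr rfl fun χ _ => sq _
  have hlow := BrLower.lower_bound p M hM P hP
  rw [he] at hlow
  have hdiv : (p - 1) / e = 1 := by
    rw [← he1, Nat.add_sub_cancel]
    exact Nat.div_self he0
  rw [hdiv] at hlow
  have hc : (Nat.card (principalBlock M G) : ℤ) =
      ∑ χ : IrrCharacter G, if χ ∈ principalBlock M G then (1 : ℤ) else 0 := by
    rw [Finset.sum_boole, Nat.card_eq_fintype_card, Fintype.card_subtype]
  have hterm : ∀ χ : IrrCharacter G,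
      (if χ ∈ principalBlock M G then (1 : ℤ) else 0) ≤ w χ ^ 2 := by
    intro χ
    by_cases hχ : χ ∈ principalBlock M G
    · rw [if_pos hχ]
      exact Int.le_of_sub_one_lt (by simpa using sq_pos_of_ne_zero (hwne χ hχ))
    · rw [if_neg hχ]
      exact sq_nonneg _
  have hBle : (Nat.card (principalBlock M G) : ℤ) ≤ (p : ℤ) := by
    rw [hc, ← hwsum]
    exact Finset.sum_le_sum fun χ _ => hterm χ
  have hBcard : Nat.card (principalBlock M G) = p := by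
    have h1 : Nat.card (principalBlock M G) ≤ p := by exact_mod_cast hBle
    omega
  have hwsq : ∀ χ ∈ principalBlock M G, w χ ^ 2 = 1 := by
    intro χ hχ
    have h0 : ∑ χ : IrrCharacter G,
        (w χ ^ 2 - (if χ ∈ principalBlock M G then (1 : ℤ) else 0)) = 0 := by
      rw [Finset.sum_sub_distrib, hwsum, ← hc, hBcard, sub_self]
    have h1 := (Finset.sum_eq_zero_iff_of_nonneg
      (fun χ _ => sub_nonneg.mpr (hterm χ))).mp h0 χ (Finset.mem_univ _)
    rw [if_pos hχ] at h1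
    linarith
  have htriv : triv G ∈ principalBlock M G := triv_mem_principalBlock hMp
  obtain ⟨X, hXdef⟩ : ∃ X, X = principalBlock M G \ {triv G} := ⟨_, rfl⟩
  obtain ⟨Y, hYdef⟩ : ∃ Y : Set (IrrCharacter G), Y = {triv G} := ⟨_, rfl⟩
  have hBXY : principalBlock M G = X ∪ Y := by
    rw [hXdef, hYdef]
    exact (Set.sdiff_union_of_subset (Set.singleton_subset_iff.mpr htriv)).symm
  have hdisj : Disjoint X Y := by
    rw [hXdef, hYdef]
    exact Set.disjoint_sdiff_left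
  have hYc : Nat.card Y = 1 := by
    rw [hYdef, Nat.card_coe_set_eq, Set.ncard_singleton]
  have hBcard2 : Nat.card (principalBlock M G) = Nat.card X + Nat.card Y := by
    rw [Nat.card_coe_set_eq, Nat.card_coe_set_eq, Nat.card_coe_set_eq, hBXY,
      Set.ncard_union_eq hdisj (Set.toFinite _) (Set.toFinite _)]
  have hXcard : Nat.card X = e := by omega
  have hYcard : Nat.card Y = (p - 1) / e := by rw [hdiv, hYc]
  have hXsub : ∀ χ ∈ X, χ ∈ principalBlock M G := fun χ hχ => by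
    rw [hXdef] at hχ
    exact hχ.1
  have hpm : ∀ χ ∈ X, -w χ = 1 ∨ -w χ = -1 := by
    intro χ hχ
    have h1 := hwsq χ (hXsub χ hχ)
    have h2 : (w χ - 1) * (w χ + 1) = 0 := by linear_combination h1
    rcases mul_eq_zero.mp h2 with h3 | h3
    · right
      linarith
    · left
      linarith
  refine BrFin.finish M P hP e X Y hBXY hdisj hXcard hYcard (fun χ => -w χ) (-1) hpm ?_
    (Or.inr rfl) ?_ ?_
  · intro χ hχ z y hz hy hy1
    rw [hvV χ (hXsub χ hχ) z y hz hy hy1]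
    have hy1' : (⟨y, hy⟩ : ↥(P : Subgroup G)) ≠ 1 := fun h' => hy1 (congrArg Subtype.val h')
    have hsumΨ : ∑ ψ : ↥(P : Subgroup G) →* ℂˣ, ((ψ ⟨y, hy⟩ : ℂˣ) : ℂ) = 0 := by
      rw [Cfsg.Agent.Lib.Helper25.CyclicTI.sum_hom_sub (P : Subgroup G) hPab, if_neg hy1']
    have e' : ∀ ψ : ↥(P : Subgroup G) →* ℂˣ, (v ψ χ : ℂ) * ((ψ ⟨y, hy⟩ : ℂˣ) : ℂ) =
        (w χ : ℂ) * ((ψ ⟨y, hy⟩ : ℂˣ) : ℂ) - (if ψ = 1 then (w χ : ℂ) else 0) := by
      intro ψ
      by_cases hψ : ψ = 1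
      · subst hψ
        rw [hv1 χ]
        simp
      · rw [hwv ψ hψ, if_neg hψ, sub_zero]
    simp_rw [e']
    rw [Finset.sum_sub_distrib, ← Finset.mul_sum, hsumΨ,
      Finset.sum_ite_eq' Finset.univ (1 : ↥(P : Subgroup G) →* ℂˣ) (fun _ => (w χ : ℂ)),
      if_pos (Finset.mem_univ _)]
    push_cast
    ring
  · intro θ hθ θ' hθ' g _
    rw [hYdef] at hθ hθ'
    rw [Set.mem_singleton_iff.mp hθ, Set.mem_singleton_iff.mp hθ']
  · intro θ hθ g hg
    rw [hYdef] at hθ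
    rw [Set.mem_singleton_iff.mp hθ]
    have hR := hvR ψ₀ g hg
    rw [← hwdef] at hR
    rw [sum_split (principalBlock M G) X Y hBXY hdisj
      (fun χ => (w χ : ℂ) * (χ : G → ℂ) g)
      (fun χ hχ => by rw [hw0 χ hχ]; simp)] at hR
    have hYsum : ∑ χ : IrrCharacter G,
        (if χ ∈ Y then (w χ : ℂ) * (χ : G → ℂ) g else 0) = -1 := by
      have e' : ∀ χ : IrrCharacter G, (if χ ∈ Y then (w χ : ℂ) * (χ : G → ℂ) g else 0) =
          (if χ = triv G then (w χ : ℂ) * (χ : G → ℂ) g else 0) := by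
        intro χ
        by_cases hχ : χ = triv G
        · rw [if_pos hχ, if_pos (by rw [hYdef]; exact Set.mem_singleton_iff.mpr hχ)]
        · rw [if_neg hχ, if_neg (by rw [hYdef]; exact fun h => hχ (Set.mem_singleton_iff.mp h))]
      simp_rw [e']
      rw [Finset.sum_ite_eq' Finset.univ (triv G) (fun χ => (w χ : ℂ) * (χ : G → ℂ) g),
        if_pos (Finset.mem_univ _), hwT, coe_triv]
      push_cast
      ring
    rw [hYsum, Cfsg.Agent.Lib.CT.ColumnId.finsum_mem_eq_sum] at hR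
    rw [Cfsg.Agent.Lib.CT.ColumnId.finsum_mem_eq_sum]
    have hneg : ∑ χ : IrrCharacter G,
        (if χ ∈ X then ((-w χ : ℤ) : ℂ) * (χ : G → ℂ) g else 0) =
        -∑ χ : IrrCharacter G, (if χ ∈ X then (w χ : ℂ) * (χ : G → ℂ) g else 0) := by
      rw [← Finset.sum_neg_distrib]
      refine Finset.sum_congr rfl fun χ _ => ?_
      by_cases hχ : χ ∈ X
      · rw [if_pos hχ, if_pos hχ]
        push_cast
        ring
      · rw [if_neg hχ, if_neg hχ, neg_zero]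
    rw [hneg, coe_triv]
    push_cast
    linear_combination hR

/-- **Brauer's theorem** for a Sylow `p`-subgroup of order `p`: the structure of the
principal block. -/
theorem main [Fintype G] (p : ℕ) [Fact p.Prime] (M : Ideal AlgInt) (hM : IsPModular p M)
    (P : Sylow p G) (hP : Nat.card P = p) (e : ℕ)
    (he : (Subgroup.centralizer ((P : Subgroup G) : Set G)).relIndex
      (Subgroup.normalizer ((P : Subgroup G) : Set G)) = e) :
    ∃ X Y : Set (IrrCharacter G), principalBlock M G = X ∪ Y ∧ Disjoint X Y ∧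
      Nat.card X = e ∧ Nat.card Y = (p - 1) / e ∧
      ∃ (εX : IrrCharacter G → ℤ) (ε : ℤ),
        (∀ χ ∈ X, (εX χ = 1 ∨ εX χ = -1) ∧
          (charDegree (χ : G → ℂ) : ℤ) ≡ εX χ [ZMOD p] ∧
          ∀ x : G, x ∈ (P : Subgroup G) → x ≠ 1 →
            ∀ y : G, y ∈ Subgroup.centralizer ((P : Subgroup G) : Set G) → ¬ p ∣ orderOf y →
              (χ : G → ℂ) (x * y) = (εX χ : ℂ)) ∧
        (ε = 1 ∨ ε = -1) ∧
        (∀ θ ∈ Y, (charDegree (θ : G → ℂ) : ℤ) ≡ ε * (e : ℤ) [ZMOD p]) ∧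
        (∀ θ ∈ Y, ∀ θ' ∈ Y, ∀ g : G, ¬ p ∣ orderOf g → (θ : G → ℂ) g = (θ' : G → ℂ) g) ∧
        ∀ θ ∈ Y, ∀ g : G, ¬ p ∣ orderOf g →
          (ε : ℂ) * (θ : G → ℂ) g = ∑ᶠ χ ∈ X, (εX χ : ℂ) * (χ : G → ℂ) g := by
  obtain ⟨he0, hle⟩ := e_bounds P hP e he
  rcases Nat.lt_or_ge (e + 1) p with h | h
  · exact BrPkg.caseA p M hM P hP e he he0 h
  · exact caseB p M hM P hP e he (le_antisymm hle h)

end Cfsg.Agent.Lib.Helper17.BrTop
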