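import Mathlib
import Cfsg.Agent.Lib.Helper17.Embed

set_option autoImplicit false

namespace Cfsg.Agent.Lib.Helper17.Commuting

open Subgroup MulAction

variable {G X : Type*} [Group G] [MulAction G X]

/-- If `h` is a `p`-element commuting with `g`, then the number of fixed points of `g` is
congruent mod `p` to the number of common fixed points of `g` and `h`. -/
theorem card_fixedBy_modEq_of_commute [Finite X] {p n : ℕ} [Fact p.Prime] (g h : G)
    (hc : Commute g h) (hh : h ^ (p ^ n) = 1) :
    Nat.card (fixedBy X g) ≡ Nat.card {x : X // g • x = x ∧ h • x = x} [MOD p] := by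
  classical
  have : Fintype (fixedBy X g) := Fintype.ofFinite _
  let f : Function.End (fixedBy X g) := fun x => ⟨h • x.1, by
    have hx := x.2
    rw [mem_fixedBy] at hx ⊢
    rw [← mul_smul, hc.eq, mul_smul, hx]⟩
  have hfpow : ∀ k : ℕ, ∀ x : fixedBy X g, ((f ^ k) x).1 = h ^ k • x.1 := by
    intro k
    induction k with
    | zero =>
      intro x
      rw [pow_zero, pow_zero, one_smul]
      rfl
    | succ k ih =>
      intro x
      rw [pow_succ']
      show h • ((f ^ k) x).1 = _
      rw [ih x, ← mul_smul, ← pow_succ']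
  have hf : f ^ p ^ n = 1 := by
    funext x
    apply Subtype.ext
    rw [hfpow, hh, one_smul]
    rfl
  have h1 := Equiv.Perm.card_fixedPoints_modEq (f := f) hf
  rw [← Nat.card_eq_fintype_card, ← Nat.card_eq_fintype_card] at h1
  have e : Function.fixedPoints f ≃ {x : X // g • x = x ∧ h • x = x} :=
    { toFun := fun x => ⟨x.1.1, x.1.2, congrArg Subtype.val x.2⟩
      invFun := fun x => ⟨⟨x.1, x.2.1⟩, Subtype.ext x.2.2⟩
      left_inv := fun x => rfl
      right_inv := fun x => rfl }
  rw [← Nat.card_congr e]
  exact h1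

/-- The number of fixed points of a `p`-element is congruent to the size of the set. -/
theorem card_modEq_card_fixedBy [Finite X] {p n : ℕ} [Fact p.Prime] (h : G)
    (hh : h ^ (p ^ n) = 1) : Nat.card X ≡ Nat.card (fixedBy X h) [MOD p] := by
  have h1 := card_fixedBy_modEq_of_commute (X := X) (1 : G) h (Commute.one_left h) hh
  have e1 : fixedBy X (1 : G) ≃ X :=
    { toFun := fun x => x.1
      invFun := fun x => ⟨x, by simp⟩
      left_inv := fun x => rfl
      right_inv := fun x => rfl }
  have e2 : {x : X // (1 : G) • x = x ∧ h • x = x} ≃ fixedBy X h :=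
    { toFun := fun x => ⟨x.1, x.2.2⟩
      invFun := fun x => ⟨x.1, by simp, x.2⟩
      left_inv := fun x => rfl
      right_inv := fun x => rfl }
  rw [Nat.card_congr e1, Nat.card_congr e2] at h1
  exact h1

theorem card_common_le_left [Finite X] (g h : G) :
    Nat.card {x : X // g • x = x ∧ h • x = x} ≤ Nat.card (fixedBy X g) :=
  Nat.card_le_card_of_injective (fun x => (⟨x.1, x.2.1⟩ : fixedBy X g))
    (fun a b hab => Subtype.ext (congrArg (fun y : fixedBy X g => y.1) hab))

theorem card_common_comm (g h : G) :
    Nat.card {x : X // g • x = x ∧ h • x = x} = Nat.card {x : X // h • x = x ∧ g • x = x} :=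
  Nat.card_congr
    { toFun := fun x => ⟨x.1, x.2.2, x.2.1⟩
      invFun := fun x => ⟨x.1, x.2.2, x.2.1⟩
      left_inv := fun x => rfl
      right_inv := fun x => rfl }

/-- A nonidentity element of a simple group moves some coset of a proper subgroup. -/
theorem card_fixedBy_lt_index {G : Type*} [Group G] [Finite G] [IsSimpleGroup G]
    (H : Subgroup G) (hH : H ≠ ⊤) (g : G) (hg : g ≠ 1) :
    Nat.card (fixedBy (G ⧸ H) g) < H.index := by
  have hle : Nat.card (fixedBy (G ⧸ H) g) ≤ Nat.card (G ⧸ H) :=
    Nat.card_le_card_of_injective Subtype.val Subtype.val_injective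
  refine lt_of_le_of_ne hle ?_
  intro heq
  apply hg
  have hinj := Embed.toPermHom_injective_of_simple H hH
  apply hinj
  rw [map_one]
  ext q
  have huniv : fixedBy (G ⧸ H) g = Set.univ := by
    apply Set.eq_of_subset_of_ncard_le (Set.subset_univ _)
    rw [Set.ncard_univ, ← Nat.card_coe_set_eq, heq]
    exact le_of_eq rfl
  have hq : q ∈ fixedBy (G ⧸ H) g := by rw [huniv]; trivial
  simpa using hq

end Cfsg.Agent.Lib.Helper17.Commuting
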