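import Mathlib
import Cfsg.Agent.Lib.Helper17.FixedPoints
import Cfsg.Agent.Lib.Helper17.SylowConj
import Cfsg.Agent.Lib.Helper17.Count
import Cfsg.Agent.Lib.Helper17.Commuting

/-!
Permutation groups of prime degree `p`: a nontrivial Sylow `p`-subgroup has order `p`, is
self-centralizing and regular; if its normalizer has order `2p` and it is not normal then the
group is perfect.
-/

set_option autoImplicit false
set_option linter.style.haveILetI false

namespace Cfsg.Agent.Lib.Helper17.PrimeDegD

open Subgroup MulAction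

variable {α : Type*} [Fintype α] [DecidableEq α] {p : ℕ} [Fact p.Prime]

/-- Only the identity fixes all points. -/
theorem eq_one_of_forall_smul (G : Subgroup (Equiv.Perm α)) (g : G) (h : ∀ a : α, g • a = a) :
    g = 1 := by
  apply Subtype.ext
  apply Equiv.ext
  intro a
  exact h a

theorem eq_of_forall_smul (G : Subgroup (Equiv.Perm α)) (g h : G)
    (H : ∀ a : α, g • a = h • a) : g = h := by
  apply Subtype.ext
  apply Equiv.ext
  intro a
  exact H a

theorem card_fixedBy_le (G : Subgroup (Equiv.Perm α)) (g : G) :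
    Nat.card (fixedBy α g) ≤ Fintype.card α := by
  rw [← Nat.card_eq_fintype_card]
  exact Nat.card_le_card_of_injective Subtype.val Subtype.val_injective

theorem eq_one_of_card_fixedBy (G : Subgroup (Equiv.Perm α)) (g : G)
    (h : Nat.card (fixedBy α g) = Fintype.card α) : g = 1 := by
  apply eq_one_of_forall_smul
  have hbij : Function.Bijective (Subtype.val : fixedBy α g → α) :=
    Function.Injective.bijective_of_nat_card_le Subtype.val_injective
      (by rw [h, Nat.card_eq_fintype_card])
  intro a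
  obtain ⟨x, hx⟩ := hbij.2 a
  rw [← hx]
  exact x.2

theorem card_fixedBy_one (G : Subgroup (Equiv.Perm α)) :
    Nat.card (fixedBy α (1 : G)) = Fintype.card α := by
  rw [← Nat.card_eq_fintype_card]
  exact Nat.card_congr (Equiv.subtypeUnivEquiv (fun x => by simp [MulAction.mem_fixedBy]))

/-- Elements of order `p` have no fixed points. -/
theorem card_fixedBy_eq_zero (hα : Fintype.card α = p) (G : Subgroup (Equiv.Perm α)) (g : G)
    (hg : orderOf g = p) : Nat.card (fixedBy α g) = 0 := by
  have hp : p.Prime := Fact.out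
  have h1 : Nat.card α ≡ Nat.card (fixedBy α g) [MOD p] :=
    Cfsg.Agent.Lib.Helper17.Commuting.card_modEq_card_fixedBy (X := α) (n := 1) g
      (by rw [pow_one, ← hg]; exact pow_orderOf_eq_one g)
  rw [Nat.card_eq_fintype_card, hα] at h1
  have h2 : p ∣ Nat.card (fixedBy α g) := by
    have h3 : Nat.card (fixedBy α g) ≡ 0 [MOD p] := h1.symm.trans (by simp [Nat.ModEq])
    exact (Nat.modEq_zero_iff_dvd).mp h3
  have h3 := card_fixedBy_le G g
  rw [hα] at h3
  obtain ⟨k, hk⟩ := h2
  rcases Nat.eq_zero_or_pos k with h0 | h0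
  · rw [hk, h0, mul_zero]
  · exfalso
    have h4 : Nat.card (fixedBy α g) = p := by
      have : p ≤ p * k := Nat.le_mul_of_pos_right p h0
      omega
    have h5 := eq_one_of_card_fixedBy G g (by rw [h4, hα])
    rw [h5, orderOf_one] at hg
    exact hp.one_lt.ne hg

/-- An element of order `p` is regular. -/
theorem exists_pow_smul_eq (hα : Fintype.card α = p) (G : Subgroup (Equiv.Perm α)) (y : G)
    (hy : orderOf y = p) (a b : α) : ∃ k : ℕ, y ^ k • a = b := by
  have hp : p.Prime := Fact.out
  have key : ∀ i j : ℕ, i < p → j < p → i ≤ j → y ^ i • a = y ^ j • a → i = j := by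
    intro i j hi hj hij h
    by_contra hne
    have hd : 0 < j - i := by omega
    have hcop : (orderOf y).Coprime (j - i) := by
      rw [hy]
      exact (Nat.Prime.coprime_iff_not_dvd hp).mpr (Nat.not_dvd_of_pos_of_lt hd (by omega))
    have ho : orderOf (y ^ (j - i)) = p := by rw [hcop.orderOf_pow, hy]
    have h0 := card_fixedBy_eq_zero hα G _ ho
    have hfix : y ^ i • a ∈ fixedBy α (y ^ (j - i)) := by
      rw [mem_fixedBy, ← mul_smul, ← pow_add, Nat.sub_add_cancel hij]
      exact h.symm
    haveI : Nonempty (fixedBy α (y ^ (j - i))) := ⟨⟨_, hfix⟩⟩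
    have := Nat.card_pos (α := fixedBy α (y ^ (j - i)))
    omega
  have hinj : Function.Injective (fun k : Fin p => y ^ (k : ℕ) • a) := by
    intro i j h
    apply Fin.ext
    rcases le_total (i : ℕ) (j : ℕ) with hij | hij
    · exact key i j i.2 j.2 hij h
    · exact (key j i j.2 i.2 hij h.symm).symm
  have hbij : Function.Bijective (fun k : Fin p => y ^ (k : ℕ) • a) := by
    rw [Fintype.bijective_iff_injective_and_card]
    exact ⟨hinj, by rw [Fintype.card_fin, hα]⟩
  obtain ⟨k, hk⟩ := hbij.2 b
  exact ⟨k, hk⟩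

theorem isPretransitive (hα : Fintype.card α = p) (G : Subgroup (Equiv.Perm α)) (y : G)
    (hy : orderOf y = p) : IsPretransitive G α := by
  constructor
  intro a b
  obtain ⟨k, hk⟩ := exists_pow_smul_eq hα G y hy a b
  exact ⟨y ^ k, hk⟩

/-- A nontrivial Sylow `p`-subgroup has order `p`. -/
theorem card_sylow_eq_prime (hα : Fintype.card α = p) (G : Subgroup (Equiv.Perm α))
    (P : Sylow p G) (hP : (P : Subgroup G) ≠ ⊥) : Nat.card (P : Subgroup G) = p := by
  have hp : p.Prime := Fact.out
  obtain ⟨k, hk⟩ := (IsPGroup.iff_card).mp P.isPGroup'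
  have hdvd : Nat.card (P : Subgroup G) ∣ p.factorial := by
    have h1 : Nat.card (P : Subgroup G) ∣ Nat.card G := Subgroup.card_subgroup_dvd_card _
    have h2 : Nat.card G ∣ Nat.card (Equiv.Perm α) := Subgroup.card_subgroup_dvd_card G
    rw [Nat.card_perm, Nat.card_eq_fintype_card (α := α), hα] at h2
    exact h1.trans h2
  rw [hk] at hdvd
  have hk1 : k ≤ 1 := by
    by_contra h
    have h2 : p ^ 2 ∣ p.factorial := (pow_dvd_pow p (by omega : 2 ≤ k)).trans hdvd
    have h3 : p.factorial = p * (p - 1).factorial := by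
      obtain ⟨q, rfl⟩ : ∃ q, p = q + 1 := ⟨p - 1, by have := hp.pos; omega⟩
      rw [Nat.factorial_succ, Nat.add_sub_cancel]
    rw [h3, pow_two] at h2
    have h4 : p ∣ (p - 1).factorial := Nat.dvd_of_mul_dvd_mul_left hp.pos h2
    have h5 := (hp.dvd_factorial).mp h4
    have := hp.pos
    omega
  have hk0 : k ≠ 0 := by
    intro h0
    rw [h0, pow_zero] at hk
    exact hP ((Subgroup.card_eq_one).mp hk)
  have : k = 1 := by omega
  rw [hk, this, pow_one]

theorem exists_ne_one {H : Type*} [Group H] (Q : Subgroup H)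
    (hQ : Nat.card Q = p) : ∃ y ∈ Q, y ≠ 1 := by
  have hp : p.Prime := Fact.out
  by_contra hne
  push Not at hne
  have : Q = ⊥ := (Subgroup.eq_bot_iff_forall _).mpr hne
  rw [this, Subgroup.card_bot] at hQ
  exact hp.one_lt.ne hQ

/-- A Sylow `p`-subgroup of order `p` is self-centralizing. -/
theorem centralizer_le (hα : Fintype.card α = p) (G : Subgroup (Equiv.Perm α)) (P : Sylow p G)
    (hP : Nat.card (P : Subgroup G) = p) :
    centralizer ((P : Subgroup G) : Set G) ≤ (P : Subgroup G) := by
  have hp : p.Prime := Fact.out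
  intro c hc
  obtain ⟨y, hyP, hy1⟩ := exists_ne_one (p := p) (P : Subgroup G) hP
  obtain ⟨hyo, hyz⟩ := FixedPoints.zpowers_eq_of_mem P hP y hyP hy1
  have hne : Nonempty α := by
    rw [← Fintype.card_pos_iff, hα]; exact hp.pos
  obtain ⟨a₀⟩ := hne
  obtain ⟨k, hk⟩ := exists_pow_smul_eq hα G y hyo a₀ (c • a₀)
  have hcy : y * c = c * y := (mem_centralizer_iff.mp hc) y hyP
  have hcomm : ∀ j : ℕ, c * y ^ j = y ^ j * c := by
    intro j
    exact ((Commute.pow_right (show Commute c y from hcy.symm) j)).eq
  have hck : c = y ^ k := by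
    apply eq_of_forall_smul
    intro b
    obtain ⟨j, hj⟩ := exists_pow_smul_eq hα G y hyo a₀ b
    rw [← hj, ← mul_smul, hcomm j, mul_smul, ← hk, ← mul_smul, ← mul_smul, ← pow_add, ← pow_add,
      add_comm]
  rw [hck]
  exact (P : Subgroup G).pow_mem hyP k

/-- The number of Sylow subgroups. -/
theorem card_sylow_mul (G : Subgroup (Equiv.Perm α)) (P : Sylow p G)
    (hN : Nat.card (normalizer ((P : Subgroup G) : Set G)) = 2 * p) :
    Nat.card (Sylow p G) * (2 * p) = Nat.card G := by
  rw [Sylow.card_eq_index_normalizer P, ← hN, mul_comm]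
  exact Subgroup.card_mul_index _

/-- A proper normal subgroup containing `P` forces `P` to be normal. -/
theorem normal_of_le_normal (hα : Fintype.card α = p) (G : Subgroup (Equiv.Perm α))
    (P : Sylow p G) (hP : Nat.card (P : Subgroup G) = p)
    (hN : Nat.card (normalizer ((P : Subgroup G) : Set G)) = 2 * p)
    (K : Subgroup G) [hKn : K.Normal] (hPK : (P : Subgroup G) ≤ K) (hK : K ≠ ⊤) :
    (P : Subgroup G).Normal := by
  classical
  have hp : p.Prime := Fact.out
  haveI : Fintype G := Fintype.ofFinite G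
  suffices h : Nat.card K ≤ p by
    have : (P : Subgroup G) = K := Subgroup.eq_of_le_of_card_ge hPK (by rw [hP]; exact h)
    rw [this]; exact hKn
  obtain ⟨y, hyP, hy1⟩ := exists_ne_one (p := p) (P : Subgroup G) hP
  obtain ⟨hyo, hyz⟩ := FixedPoints.zpowers_eq_of_mem P hP y hyP hy1
  have hne : Nonempty α := by
    rw [← Fintype.card_pos_iff, hα]; exact hp.pos
  obtain ⟨a₀⟩ := hne
  obtain ⟨E, hE⟩ : ∃ E : Finset G, ∀ g, g ∈ E ↔ orderOf g = p :=
    ⟨Finset.univ.filter (fun g => orderOf g = p), fun g => by simp⟩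
  obtain ⟨KF, hKF⟩ : ∃ KF : Finset G, ∀ g, g ∈ KF ↔ g ∈ K :=
    ⟨Finset.univ.filter (fun g => g ∈ K), fun g => by simp⟩
  obtain ⟨B, hB⟩ : ∃ B : α → Finset G, ∀ b g, g ∈ B b ↔ (g ∈ K ∧ g • b = b) :=
    ⟨fun b => Finset.univ.filter (fun g => g ∈ K ∧ g • b = b), fun b g => by simp⟩
  have hKFcard : KF.card = Nat.card K := by
    haveI : Fintype K := Fintype.ofFinite K
    rw [Nat.card_eq_fintype_card]
    exact (Fintype.card_of_subtype KF hKF).symm
  have hEsub : E ⊆ KF := by
    intro g hg
    rw [hE] at hg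
    rw [hKF]
    obtain ⟨Y, hY⟩ := FixedPoints.exists_sylow_eq_zpowers P hP g hg
    obtain ⟨x, hx⟩ := MulAction.exists_smul_eq G P Y
    have hgY : g ∈ (Y : Subgroup G) := by rw [hY]; exact mem_zpowers g
    rw [← hx, SylowConj.mem_smul_sylow_iff] at hgY
    have h1 := hKn.conj_mem _ (hPK hgY) x
    simpa [mul_assoc] using h1
  have hEcard : E.card = Nat.card (Sylow p G) * (p - 1) := by
    rw [← Count.card_orderOf_eq_prime (fun Q => (FixedPoints.card_sylow_eq P Q).trans hP)]
    haveI : Fintype {g : G // orderOf g = p} := Fintype.ofFinite _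
    rw [Nat.card_eq_fintype_card]
    exact (Fintype.card_of_subtype E hE).symm
  have hnp := card_sylow_mul G P hN
  have hidx : 2 * Nat.card K ≤ Nat.card G := by
    rw [← Subgroup.card_mul_index K]
    have h1 : K.index ≠ 1 := fun h => hK (Subgroup.index_eq_one.mp h)
    have h0 : K.index ≠ 0 := Subgroup.index_ne_zero_of_finite
    have : 2 ≤ K.index := by omega
    calc 2 * Nat.card K = Nat.card K * 2 := mul_comm _ _
      _ ≤ Nat.card K * K.index := Nat.mul_le_mul_left _ this
  have hBcard : ∀ b, p * (B b).card = Nat.card K := by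
    intro b
    have h1 : Nat.card (orbit K b) * Nat.card (stabilizer K b) = Nat.card K := by
      rw [← Nat.card_prod]
      exact Nat.card_congr (MulAction.orbitProdStabilizerEquivGroup K b)
    have h2 : Nat.card (orbit K b) = p := by
      have : orbit K b = Set.univ := by
        ext c
        simp only [Set.mem_univ, iff_true]
        obtain ⟨k, hk⟩ := exists_pow_smul_eq hα G y hyo b c
        exact ⟨⟨y ^ k, K.pow_mem (hPK hyP) k⟩, hk⟩
      rw [this, Nat.card_congr (Equiv.Set.univ α), Nat.card_eq_fintype_card, hα]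
    have h3 : Nat.card (stabilizer K b) = (B b).card := by
      have e : stabilizer K b ≃ {g : G // g ∈ K ∧ g • b = b} :=
        { toFun := fun k => ⟨k.1.1, k.1.2, k.2⟩
          invFun := fun g => ⟨⟨g.1, g.2.1⟩, g.2.2⟩
          left_inv := fun k => rfl
          right_inv := fun g => rfl }
      haveI : Fintype {g : G // g ∈ K ∧ g • b = b} := Fintype.ofFinite _
      rw [Nat.card_congr e, Nat.card_eq_fintype_card]
      exact Fintype.card_of_subtype (B b) (hB b)
    rw [← h1, h2, h3]
  have hdisj : ∀ b, Disjoint E (B b) := by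
    intro b
    rw [Finset.disjoint_left]
    intro g hgE hgB
    rw [hE] at hgE
    rw [hB] at hgB
    have h0 := card_fixedBy_eq_zero hα G g hgE
    haveI : Nonempty (fixedBy α g) := ⟨⟨b, hgB.2⟩⟩
    have := Nat.card_pos (α := fixedBy α g)
    omega
  have hBsub : ∀ b, B b ⊆ KF := by
    intro b g hg
    rw [hB] at hg
    rw [hKF]
    exact hg.1
  have hunion : ∀ b, E ∪ B b = KF := by
    intro b
    apply Finset.eq_of_subset_of_card_le (Finset.union_subset hEsub (hBsub b))
    rw [Finset.card_union_of_disjoint (hdisj b), hKFcard, hEcard]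
    have h1 := hBcard b
    have h2 : (B b).card ≤ Nat.card (Sylow p G) := by
      have h3 : (2 * p) * (B b).card ≤ (2 * p) * Nat.card (Sylow p G) := by
        calc (2 * p) * (B b).card = 2 * (p * (B b).card) := by ring
          _ = 2 * Nat.card K := by rw [h1]
          _ ≤ Nat.card G := hidx
          _ = (2 * p) * Nat.card (Sylow p G) := by rw [← hnp, mul_comm]
      exact Nat.le_of_mul_le_mul_left h3 (by have := hp.pos; omega)
    rw [← h1]
    have h4 : (B b).card * (p - 1) ≤ Nat.card (Sylow p G) * (p - 1) := Nat.mul_le_mul_right _ h2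
    have h5 : p * (B b).card = (B b).card * (p - 1) + (B b).card := by
      obtain ⟨q, rfl⟩ : ∃ q, p = q + 1 := ⟨p - 1, by have := hp.pos; omega⟩
      rw [Nat.add_sub_cancel]; ring
    omega
  have hone : ∀ g ∈ K, ∀ a : α, g • a = a → g = 1 := by
    intro g hgK a hga
    apply eq_one_of_forall_smul
    intro b
    have hgB : g ∈ B a := (hB a g).mpr ⟨hgK, hga⟩
    have hgE : g ∉ E := fun h => Finset.disjoint_left.mp (hdisj a) h hgB
    have hgKF : g ∈ KF := hBsub a hgB
    rw [← hunion b, Finset.mem_union] at hgKF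
    rcases hgKF with h | h
    · exact absurd h hgE
    · exact ((hB b g).mp h).2
  have hB1 : (B a₀).card ≤ 1 := by
    apply Finset.card_le_one.mpr
    intro g hg h hh
    rw [hB] at hg hh
    rw [hone g hg.1 a₀ hg.2, hone h hh.1 a₀ hh.2]
  have := hBcard a₀
  calc Nat.card K = p * (B a₀).card := this.symm
    _ ≤ p * 1 := Nat.mul_le_mul_left _ hB1
    _ = p := mul_one p

/-- If `P` is not normal then the group is perfect. -/
theorem commutator_eq_top (hα : Fintype.card α = p) (G : Subgroup (Equiv.Perm α))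
    (P : Sylow p G) (hP : Nat.card (P : Subgroup G) = p)
    (hN : Nat.card (normalizer ((P : Subgroup G) : Set G)) = 2 * p)
    (hnn : ¬ (P : Subgroup G).Normal) : _root_.commutator G = ⊤ := by
  have hp : p.Prime := Fact.out
  by_contra hK
  apply hnn
  obtain ⟨t, htN, htP⟩ : ∃ t ∈ normalizer ((P : Subgroup G) : Set G), t ∉ (P : Subgroup G) := by
    by_contra hne
    push Not at hne
    have hle : normalizer ((P : Subgroup G) : Set G) ≤ (P : Subgroup G) := hne
    have := Subgroup.card_le_of_le hle
    rw [hN, hP] at this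
    have := hp.pos
    omega
  have htC : t ∉ centralizer ((P : Subgroup G) : Set G) :=
    fun h => htP (centralizer_le hα G P hP h)
  rw [mem_centralizer_iff] at htC
  push Not at htC
  obtain ⟨y, hyP, hyt⟩ := htC
  have hcP : t * y * t⁻¹ * y⁻¹ ∈ (P : Subgroup G) :=
    (P : Subgroup G).mul_mem ((mem_normalizer_iff.mp htN y).mp hyP)
      ((P : Subgroup G).inv_mem hyP)
  have hc1 : t * y * t⁻¹ * y⁻¹ ≠ 1 := by
    intro h
    apply hyt
    have : t * y = y * t := by
      have h2 := congrArg (fun z => z * y * t) h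
      simpa [mul_assoc] using h2
    exact this.symm
  have hcK : t * y * t⁻¹ * y⁻¹ ∈ _root_.commutator G := by
    rw [commutator_def]
    exact Subgroup.commutator_mem_commutator (Subgroup.mem_top t) (Subgroup.mem_top y)
  have hPK : (P : Subgroup G) ≤ _root_.commutator G := by
    rw [← (FixedPoints.zpowers_eq_of_mem P hP _ hcP hc1).2, zpowers_le]
    exact hcK
  exact normal_of_le_normal hα G P hP hN (_root_.commutator G) hPK hK

/-- The fixed-point-free elements are numerous. -/
theorem zero_count (hα : Fintype.card α = p) (G : Subgroup (Equiv.Perm α))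
    (P : Sylow p G) (hP : Nat.card (P : Subgroup G) = p)
    (hN : Nat.card (normalizer ((P : Subgroup G) : Set G)) = 2 * p)
    (Z : Finset G) (hZ : ∀ g : G, Nat.card (fixedBy α g) = 0 → g ∈ Z) :
    (p - 1) * Nat.card G ≤ 2 * p * Z.card := by
  classical
  haveI : Fintype G := Fintype.ofFinite G
  obtain ⟨E, hE⟩ : ∃ E : Finset G, ∀ g, g ∈ E ↔ orderOf g = p :=
    ⟨Finset.univ.filter (fun g => orderOf g = p), fun g => by simp⟩
  have hEcard : E.card = Nat.card (Sylow p G) * (p - 1) := by
    rw [← Count.card_orderOf_eq_prime (fun Q => (FixedPoints.card_sylow_eq P Q).trans hP)]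
    haveI : Fintype {g : G // orderOf g = p} := Fintype.ofFinite _
    rw [Nat.card_eq_fintype_card]
    exact (Fintype.card_of_subtype E hE).symm
  have hsub : E ⊆ Z := by
    intro g hg
    rw [hE] at hg
    exact hZ g (card_fixedBy_eq_zero hα G g hg)
  have hle := Finset.card_le_card hsub
  have hnp := card_sylow_mul G P hN
  calc (p - 1) * Nat.card G = (p - 1) * (Nat.card (Sylow p G) * (2 * p)) := by rw [hnp]
    _ = 2 * p * (Nat.card (Sylow p G) * (p - 1)) := by ring
    _ = 2 * p * E.card := by rw [hEcard]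
    _ ≤ 2 * p * Z.card := Nat.mul_le_mul_left _ hle

end Cfsg.Agent.Lib.Helper17.PrimeDegD
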