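import Mathlib
import Cfsg.Agent.Lib.Helper17.Commuting
import Cfsg.Agent.Lib.Helper17.PrimeDegD

/-!
Transitive permutation groups of degree `p + 1` and order `(p + 1) p d` with `d < p`:
an element of order `p` fixes one point and is regular on the others, the group is doubly
transitive, only the identity fixes three points, and the two point stabilizers have order `d`.
-/

set_option autoImplicit false
set_option linter.style.haveILetI false

namespace Cfsg.Agent.Lib.Helper17.PPlusOneA

open Subgroup MulAction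

/-- A group of order `p d`, `d < p`, has at most one subgroup of order `p`. -/
theorem subgroup_unique {K : Type*} [Group K] [Finite K] {p d : ℕ} (hp : p.Prime)
    (hK : Nat.card K = p * d) (hd : d < p) (hd0 : 0 < d) (Q₁ Q₂ : Subgroup K)
    (h₁ : Nat.card Q₁ = p) (h₂ : Nat.card Q₂ = p) : Q₁ = Q₂ := by
  haveI : Fact p.Prime := ⟨hp⟩
  have hfac : (Nat.card K).factorization p = 1 := by
    rw [hK, Nat.factorization_mul hp.ne_zero hd0.ne']
    simp [hp.factorization_self,
      Nat.factorization_eq_zero_of_not_dvd (Nat.not_dvd_of_pos_of_lt hd0 hd)]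
  let S₁ : Sylow p K := Sylow.ofCard Q₁ (by rw [h₁, hfac, pow_one])
  let S₂ : Sylow p K := Sylow.ofCard Q₂ (by rw [h₂, hfac, pow_one])
  have hn1 : Nat.card (Sylow p K) ≡ 1 [MOD p] := card_sylow_modEq_one p K
  have hn2 : Nat.card (Sylow p K) ∣ (S₁ : Subgroup K).index := Sylow.card_dvd_index S₁
  have hidx : (S₁ : Subgroup K).index = d := by
    have h3 := (S₁ : Subgroup K).card_mul_index
    rw [hK] at h3
    have h4 : Nat.card (S₁ : Subgroup K) = p := h₁
    rw [h4] at h3
    exact Nat.eq_of_mul_eq_mul_left hp.pos h3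
  rw [hidx] at hn2
  have hle := Nat.le_of_dvd hd0 hn2
  have hn : Nat.card (Sylow p K) = 1 := by
    unfold Nat.ModEq at hn1
    rw [Nat.mod_eq_of_lt (by omega), Nat.mod_eq_of_lt hp.one_lt] at hn1
    exact hn1
  have hsub : Subsingleton (Sylow p K) := (Nat.card_eq_one_iff_unique.mp hn).1
  have h5 := hsub.elim S₁ S₂
  have h6 : (S₁ : Subgroup K) = (S₂ : Subgroup K) := congrArg _ h5
  exact h6

variable {α : Type*} [Fintype α] [DecidableEq α]

/-- The hypotheses. -/
structure Setup (G : Subgroup (Equiv.Perm α)) (p d : ℕ) : Prop where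
  hp : p.Prime
  hα : Fintype.card α = p + 1
  htrans : MulAction.IsPretransitive G α
  hG : Nat.card G = (p + 1) * p * d
  hd : d < p

namespace Setup

variable {G : Subgroup (Equiv.Perm α)} {p d : ℕ} (S : Setup G p d)
include S

theorem d_pos : 0 < d := by
  rcases Nat.eq_zero_or_pos d with h | h
  · have := S.hG
    rw [h, mul_zero] at this
    exact absurd this Nat.card_pos.ne'
  · exact h

theorem exists_orderOf : ∃ y : G, orderOf y = p := by
  haveI : Fact p.Prime := ⟨S.hp⟩
  exact exists_prime_orderOf_dvd_card' p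
    (by rw [S.hG]; exact Dvd.dvd.mul_right (Dvd.intro_left (p + 1) rfl) d)

theorem card_stabilizer (a : α) : Nat.card (stabilizer G a) = p * d := by
  haveI := S.htrans
  have h1 : Nat.card (orbit G a) * Nat.card (stabilizer G a) = Nat.card G := by
    rw [← Nat.card_prod]
    exact Nat.card_congr (MulAction.orbitProdStabilizerEquivGroup G a)
  have h2 : Nat.card (orbit G a) = p + 1 := by
    rw [MulAction.orbit_eq_univ G a, Nat.card_congr (Equiv.Set.univ α), Nat.card_eq_fintype_card,
      S.hα]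
  rw [h2, S.hG, mul_assoc] at h1
  exact Nat.eq_of_mul_eq_mul_left (Nat.succ_pos p) h1

/-- An element of order `p` has exactly one fixed point. -/
theorem card_fixedBy (z : G) (hz : orderOf z = p) : Nat.card (fixedBy α z) = 1 := by
  haveI : Fact p.Prime := ⟨S.hp⟩
  have hp := S.hp
  have h1 : Nat.card α ≡ Nat.card (fixedBy α z) [MOD p] :=
    Commuting.card_modEq_card_fixedBy (X := α) (n := 1) z
      (by rw [pow_one, ← hz]; exact pow_orderOf_eq_one z)
  rw [Nat.card_eq_fintype_card, S.hα] at h1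
  have h3 := PrimeDegD.card_fixedBy_le G z
  rw [S.hα] at h3
  have hne : Nat.card (fixedBy α z) ≠ p + 1 := by
    intro h
    have h5 := PrimeDegD.eq_one_of_card_fixedBy G z (by rw [h, S.hα])
    rw [h5, orderOf_one] at hz
    exact hp.one_lt.ne hz
  have h4 : Nat.card (fixedBy α z) % p = 1 := by
    have h6 := h1.symm
    unfold Nat.ModEq at h6
    rw [h6, Nat.add_mod_left, Nat.mod_eq_of_lt hp.one_lt]
  have h5 := Nat.div_add_mod (Nat.card (fixedBy α z)) p
  rw [h4] at h5
  rcases Nat.eq_zero_or_pos (Nat.card (fixedBy α z) / p) with h0 | h0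
  · rw [h0, mul_zero] at h5; omega
  · exfalso
    have : p ≤ p * (Nat.card (fixedBy α z) / p) := Nat.le_mul_of_pos_right p h0
    omega

theorem exists_fixed (y : G) (hy : orderOf y = p) :
    ∃ a : α, y • a = a ∧ ∀ x : α, y • x = x → x = a := by
  have h1 := S.card_fixedBy y hy
  obtain ⟨hsub, ⟨a⟩⟩ := Nat.card_eq_one_iff_unique.mp h1
  refine ⟨a.1, a.2, fun x hx => ?_⟩
  exact congrArg Subtype.val (hsub.elim ⟨x, hx⟩ a)

theorem orderOf_pow (y : G) (hy : orderOf y = p) (k : ℕ) (hk : ¬ p ∣ k) :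
    orderOf (y ^ k) = p := by
  have hcop : (orderOf y).Coprime k := by
    rw [hy]
    exact (Nat.Prime.coprime_iff_not_dvd S.hp).mpr hk
  rw [hcop.orderOf_pow, hy]

theorem pow_smul_fixed (y : G) (a : α) (ha : y • a = a) (k : ℕ) : y ^ k • a = a := by
  have h1 : y ∈ stabilizer G a := ha
  exact (stabilizer G a).pow_mem h1 k

/-- If a power `y ^ k` fixes a point other than `a`, then `p ∣ k`. -/
theorem dvd_of_pow_smul (y : G) (hy : orderOf y = p) (a : α) (ha : y • a = a) (b : α)
    (hb : b ≠ a) (k : ℕ) (h : y ^ k • b = b) : p ∣ k := by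
  by_contra hk
  have ho := S.orderOf_pow y hy k hk
  obtain ⟨a', ha', huniq⟩ := S.exists_fixed (y ^ k) ho
  have h1 := huniq a (pow_smul_fixed S y a ha k)
  have h2 := huniq b h
  exact hb (h2.trans h1.symm)

theorem pow_eq_one_of_dvd (y : G) (hy : orderOf y = p) (k : ℕ) (hk : p ∣ k) : y ^ k = 1 := by
  rw [← hy] at hk
  exact orderOf_dvd_iff_pow_eq_one.mp hk

theorem modEq_of_pow_smul (y : G) (hy : orderOf y = p) (a : α) (ha : y • a = a) (b : α)
    (hb : b ≠ a) (i j : ℕ) (h : y ^ i • b = y ^ j • b) : i ≡ j [MOD p] := by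
  have key : ∀ i j : ℕ, i ≤ j → y ^ i • b = y ^ j • b → i ≡ j [MOD p] := by
    intro i j hij h
    have h1 : y ^ (j - i) • b = b := by
      have h2 : y ^ j = y ^ i * y ^ (j - i) := by rw [← pow_add, Nat.add_sub_cancel' hij]
      rw [h2, mul_smul] at h
      exact (MulAction.injective (y ^ i) h).symm
    have h3 := S.dvd_of_pow_smul y hy a ha b hb _ h1
    exact ((Nat.modEq_iff_dvd' hij).mpr h3)
  rcases le_total i j with hij | hij
  · exact key i j hij h
  · exact (key j i hij h.symm).symm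

/-- An element of order `p` is regular off its fixed point. -/
theorem exists_pow (y : G) (hy : orderOf y = p) (a : α) (ha : y • a = a) (b c : α)
    (hb : b ≠ a) (hc : c ≠ a) : ∃ k : ℕ, y ^ k • b = c := by
  have hne : ∀ k : ℕ, y ^ k • b ≠ a := by
    intro k h
    rw [← pow_smul_fixed S y a ha k] at h
    exact hb (MulAction.injective (y ^ k) h)
  have hinj : Function.Injective (fun k : Fin p => (⟨y ^ (k : ℕ) • b, hne k⟩ : {x : α // x ≠ a})) := by
    intro i j h
    have h1 : y ^ (i : ℕ) • b = y ^ (j : ℕ) • b := congrArg Subtype.val h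
    have h2 := S.modEq_of_pow_smul y hy a ha b hb _ _ h1
    apply Fin.ext
    unfold Nat.ModEq at h2
    rwa [Nat.mod_eq_of_lt i.2, Nat.mod_eq_of_lt j.2] at h2
  have hcard : Fintype.card {x : α // x ≠ a} = p := by
    rw [Fintype.card_of_subtype (Finset.univ.erase a) (fun x => by simp),
      Finset.card_erase_of_mem (Finset.mem_univ a), Finset.card_univ, S.hα]
    simp
  have hbij : Function.Bijective
      (fun k : Fin p => (⟨y ^ (k : ℕ) • b, hne k⟩ : {x : α // x ≠ a})) := by
    rw [Fintype.bijective_iff_injective_and_card]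
    exact ⟨hinj, by rw [Fintype.card_fin, hcard]⟩
  obtain ⟨k, hk⟩ := hbij.2 ⟨c, hc⟩
  exact ⟨k, congrArg Subtype.val hk⟩

/-- Double transitivity. -/
theorem two_transitive (x₁ x₂ z₁ z₂ : α) (hx : x₁ ≠ x₂) (hz : z₁ ≠ z₂) :
    ∃ g : G, g • x₁ = z₁ ∧ g • x₂ = z₂ := by
  obtain ⟨y, hy⟩ := S.exists_orderOf
  obtain ⟨a, ha, -⟩ := S.exists_fixed y hy
  haveI := S.htrans
  obtain ⟨t₁, ht₁⟩ := MulAction.exists_smul_eq G x₁ a
  obtain ⟨t₂, ht₂⟩ := MulAction.exists_smul_eq G z₁ a
  have h1 : t₁ • x₂ ≠ a := by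
    rw [← ht₁]
    intro h
    exact hx (MulAction.injective t₁ h).symm
  have h2 : t₂ • z₂ ≠ a := by
    rw [← ht₂]
    intro h
    exact hz (MulAction.injective t₂ h).symm
  obtain ⟨k, hk⟩ := S.exists_pow y hy a ha _ _ h1 h2
  refine ⟨t₂⁻¹ * y ^ k * t₁, ?_, ?_⟩
  · rw [mul_smul, mul_smul, ht₁, pow_smul_fixed S y a ha k, ← ht₂, inv_smul_smul]
  · rw [mul_smul, mul_smul, hk, inv_smul_smul]

/-- The centralizer of an element of order `p`. -/
theorem centralizer_pow (y : G) (hy : orderOf y = p) (a : α) (ha : y • a = a) (c : G)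
    (hc : c * y = y * c) : ∃ k : ℕ, c = y ^ k := by
  obtain ⟨a', ha', huniq⟩ := S.exists_fixed y hy
  have haa : a = a' := huniq a ha
  have hca : c • a = a := by
    have h1 : y • (c • a) = c • a := by rw [← mul_smul, ← hc, mul_smul, ha]
    rw [huniq _ h1, haa]
  have hcard : 1 < Fintype.card α := by
    rw [S.hα]
    have := S.hp.pos
    omega
  obtain ⟨b, hb⟩ := Fintype.exists_ne_of_one_lt_card hcard a
  have hcb : c • b ≠ a := by
    intro h
    rw [← hca] at h
    exact hb (MulAction.injective c h)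
  obtain ⟨k, hk⟩ := S.exists_pow y hy a ha b (c • b) hb hcb
  have hcomm : ∀ j : ℕ, c * y ^ j = y ^ j * c := fun j =>
    (Commute.pow_right (show Commute c y from hc) j).eq
  refine ⟨k, ?_⟩
  apply PrimeDegD.eq_of_forall_smul
  intro x
  by_cases hx : x = a
  · rw [hx, hca, pow_smul_fixed S y a ha k]
  · obtain ⟨j, hj⟩ := S.exists_pow y hy a ha b x hb hx
    rw [← hj, ← mul_smul, hcomm j, mul_smul, ← hk, ← mul_smul, ← mul_smul, ← pow_add, ← pow_add,
      add_comm]

/-- The stabilizer of the fixed point normalizes. -/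
theorem conj_eq_pow (y : G) (hy : orderOf y = p) (a : α) (ha : y • a = a) (g : G)
    (hg : g • a = a) : ∃ m : ℕ, g * y * g⁻¹ = y ^ m := by
  have hK : Nat.card (stabilizer G a) = p * d := S.card_stabilizer a
  have hz : g * y * g⁻¹ ∈ stabilizer G a := by
    rw [mem_stabilizer_iff, mul_smul, mul_smul]
    have h1 : g⁻¹ • a = a := by
      rw [inv_smul_eq_iff, hg]
    rw [h1, ha, hg]
  have ho : orderOf (g * y * g⁻¹) = p := by
    have h1 := orderOf_injective (MulAut.conj g).toMonoidHom (MulAut.conj g).injective y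
    rw [← hy, ← h1]
    rfl
  have h1 : Nat.card (zpowers (⟨y, ha⟩ : stabilizer G a)) = p := by
    rw [Nat.card_zpowers, ← hy]
    exact (Subgroup.orderOf_coe (⟨y, ha⟩ : stabilizer G a)).symm
  have h2 : Nat.card (zpowers (⟨g * y * g⁻¹, hz⟩ : stabilizer G a)) = p := by
    rw [Nat.card_zpowers, ← ho]
    exact (Subgroup.orderOf_coe (⟨g * y * g⁻¹, hz⟩ : stabilizer G a)).symm
  have h3 := subgroup_unique S.hp hK S.hd S.d_pos _ _ h1 h2
  have h4 : (⟨g * y * g⁻¹, hz⟩ : stabilizer G a) ∈ zpowers (⟨y, ha⟩ : stabilizer G a) := by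
    rw [h3]
    exact mem_zpowers _
  haveI : Finite (stabilizer G a) := inferInstance
  obtain ⟨m, hm⟩ := (mem_powers_iff_mem_zpowers.mpr h4)
  refine ⟨m, ?_⟩
  have h5 := congrArg (fun u : stabilizer G a => (u : G)) hm
  simp only [Subgroup.coe_pow] at h5
  exact h5.symm

/-- Only the identity fixes three points. -/
theorem eq_one_of_three (g : G) (x₁ x₂ x₃ : α) (h12 : x₁ ≠ x₂) (h13 : x₁ ≠ x₃) (h23 : x₂ ≠ x₃)
    (h1 : g • x₁ = x₁) (h2 : g • x₂ = x₂) (h3 : g • x₃ = x₃) : g = 1 := by
  obtain ⟨y, hy⟩ := S.exists_orderOf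
  obtain ⟨a, ha, -⟩ := S.exists_fixed y hy
  haveI := S.htrans
  obtain ⟨t, ht⟩ := MulAction.exists_smul_eq G x₁ a
  obtain ⟨g₁, hg₁⟩ : ∃ g₁ : G, g₁ = t * g * t⁻¹ := ⟨_, rfl⟩
  have hga : g₁ • a = a := by rw [hg₁, mul_smul, mul_smul, ← ht, inv_smul_smul, h1]
  have hb : t • x₂ ≠ a := by
    rw [← ht]
    intro h
    exact h12 (MulAction.injective t h).symm
  have hc : t • x₃ ≠ a := by
    rw [← ht]
    intro h
    exact h13 (MulAction.injective t h).symm
  have hgb : g₁ • (t • x₂) = t • x₂ := by rw [hg₁, mul_smul, mul_smul, inv_smul_smul, h2]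
  have hgc : g₁ • (t • x₃) = t • x₃ := by rw [hg₁, mul_smul, mul_smul, inv_smul_smul, h3]
  have hbc : t • x₂ ≠ t • x₃ := fun h => h23 (MulAction.injective t h)
  obtain ⟨m, hm⟩ := S.conj_eq_pow y hy a ha g₁ hga
  obtain ⟨k, hk⟩ := S.exists_pow y hy a ha (t • x₂) (t • x₃) hb hc
  have h5 : g₁ * y ^ k = y ^ (m * k) * g₁ := by
    have h6 : g₁ * y ^ k * g₁⁻¹ = (g₁ * y * g₁⁻¹) ^ k := conj_pow.symm
    rw [hm, ← pow_mul] at h6
    rw [← h6]
    group
  have h6 : y ^ (m * k) • (t • x₂) = y ^ k • (t • x₂) := by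
    calc y ^ (m * k) • (t • x₂) = y ^ (m * k) • (g₁ • (t • x₂)) := by rw [hgb]
      _ = (g₁ * y ^ k) • (t • x₂) := by rw [h5, mul_smul]
      _ = g₁ • (t • x₃) := by rw [mul_smul, hk]
      _ = t • x₃ := hgc
      _ = y ^ k • (t • x₂) := hk.symm
  have h7 : m * k ≡ k [MOD p] := S.modEq_of_pow_smul y hy a ha _ hb _ _ h6
  have hpk : ¬ p ∣ k := by
    intro hdiv
    rw [S.pow_eq_one_of_dvd y hy k hdiv, one_smul] at hk
    exact hbc hk
  have h8 : m ≡ 1 [MOD p] := by
    have h9 : m * k ≡ 1 * k [MOD p] := by rwa [one_mul]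
    exact Nat.ModEq.cancel_right_of_coprime ((Nat.Prime.coprime_iff_not_dvd S.hp).mpr hpk) h9
  have h9 : y ^ m = y := by
    have h10 := (pow_eq_pow_iff_modEq (x := y) (n := m) (m := 1)).mpr (by rw [hy]; exact h8)
    rwa [pow_one] at h10
  have hcomm : g₁ * y = y * g₁ := by
    rw [h9] at hm
    have h10 := congrArg (· * g₁) hm
    simpa using h10
  obtain ⟨j, hj⟩ := S.centralizer_pow y hy a ha g₁ hcomm
  have hpj : p ∣ j := S.dvd_of_pow_smul y hy a ha (t • x₂) hb j (by rw [← hj]; exact hgb)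
  have hg1 : g₁ = 1 := by rw [hj]; exact S.pow_eq_one_of_dvd y hy j hpj
  have h10 : g = t⁻¹ * g₁ * t := by rw [hg₁]; group
  rw [h10, hg1]
  group

/-- The order of a two point stabilizer. -/
theorem card_two_stabilizer (a b : α) (hab : a ≠ b) :
    Nat.card (stabilizer G a ⊓ stabilizer G b : Subgroup G) = d := by
  have hK : Nat.card (stabilizer G a) = p * d := S.card_stabilizer a
  have h1 : Nat.card (orbit (stabilizer G a) b) * Nat.card (stabilizer (stabilizer G a) b)
      = Nat.card (stabilizer G a) := by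
    rw [← Nat.card_prod]
    exact Nat.card_congr (MulAction.orbitProdStabilizerEquivGroup (stabilizer G a) b)
  have h2 : Nat.card (orbit (stabilizer G a) b) = p := by
    have h3 : orbit (stabilizer G a) b = {x : α | x ≠ a} := by
      ext c
      constructor
      · rintro ⟨k, rfl⟩
        intro h
        have h4 : (k : G) • b = (k : G) • a := by
          have h5 : (k : G) • a = a := k.2
          rw [h5]
          exact h
        exact hab (MulAction.injective (k : G) h4).symm
      · intro hc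
        obtain ⟨y, hy⟩ := S.exists_orderOf
        obtain ⟨a', ha', -⟩ := S.exists_fixed y hy
        haveI := S.htrans
        obtain ⟨t, ht⟩ := MulAction.exists_smul_eq G a' a
        -- the conjugate of `y` fixing `a`
        have hya : (t * y * t⁻¹) • a = a := by
          rw [mul_smul, mul_smul, ← ht, inv_smul_smul, ha']
        have ho : orderOf (t * y * t⁻¹) = p := by
          have h1 := orderOf_injective (MulAut.conj t).toMonoidHom (MulAut.conj t).injective y
          rw [← hy, ← h1]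
          rfl
        obtain ⟨k, hk⟩ := S.exists_pow _ ho a hya b c hab.symm hc
        exact ⟨⟨(t * y * t⁻¹) ^ k, pow_smul_fixed S _ a hya k⟩, hk⟩
    rw [h3]
    have hcard : Fintype.card {x : α // x ≠ a} = p := by
      rw [Fintype.card_of_subtype (Finset.univ.erase a) (fun x => by simp),
        Finset.card_erase_of_mem (Finset.mem_univ a), Finset.card_univ, S.hα]
      simp
    rw [← hcard, ← Nat.card_eq_fintype_card]
    rfl
  have h3 : Nat.card (stabilizer (stabilizer G a) b)
      = Nat.card (stabilizer G a ⊓ stabilizer G b : Subgroup G) := by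
    apply Nat.card_congr
    exact
      { toFun := fun k => ⟨k.1.1, k.1.2, k.2⟩
        invFun := fun g => ⟨⟨g.1, g.2.1⟩, g.2.2⟩
        left_inv := fun k => rfl
        right_inv := fun g => rfl }
  rw [h2, h3, hK] at h1
  exact Nat.eq_of_mul_eq_mul_left S.hp.pos h1

end Setup

end Cfsg.Agent.Lib.Helper17.PPlusOneA
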