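import Mathlib
import Cfsg.Prelude.Def_Perm

/-!
Algebra for the regular normal subgroup case of the degree `p + 1` theorem: a commutative
near-field is a field, a group of permutations of a field containing the translations,
normalizing them, and whose point stabilizer of `0` is "semilinear on a generator" lies in the
semi-affine group, and the ring automorphisms of a field of order `r ^ n` number `n`.
-/

set_option autoImplicit false
set_option linter.style.haveILetI false

namespace Cfsg.Agent.Lib.Helper17.PPlusOneC1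

section NF

variable {α : Type*}

theorem nf_zero_mul [nf : Cfsg.NearField α] (a : α) : (0 : α) * a = 0 := by
  have h := nf.right_distrib 0 0 a
  rw [add_zero] at h
  have h2 : (0 : α) * a + 0 = 0 * a + 0 * a := by rw [add_zero]; exact h
  exact (add_left_cancel h2).symm

theorem nf_left_distrib [nf : Cfsg.NearField α] (hcomm : ∀ a b : α, a * b = b * a)
    (a b c : α) : a * (b + c) = a * b + a * c := by
  rw [hcomm a (b + c), nf.right_distrib, hcomm b a, hcomm c a]

theorem nf_add_comm [nf : Cfsg.NearField α] (hcomm : ∀ a b : α, a * b = b * a)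
    (a b : α) : a + b = b + a := by
  have h1 : ((1 : α) + 1) * (a + b) = (a + b) + (a + b) := by
    rw [nf.right_distrib, one_mul]
  have h2 : ((1 : α) + 1) * (a + b) = (a + a) + (b + b) := by
    rw [nf_left_distrib hcomm, nf.right_distrib, nf.right_distrib, one_mul, one_mul]
  rw [h1] at h2
  have h3 : a + (b + a) + b = a + (a + b) + b := by
    have e1 : a + (b + a) + b = (a + b) + (a + b) := by simp only [add_assoc]
    have e2 : a + (a + b) + b = (a + a) + (b + b) := by simp only [add_assoc]
    rw [e1, e2, h2]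
  exact (add_left_cancel (add_right_cancel h3)).symm

/-- A commutative near-field is a field. -/
noncomputable def fieldOfNearField [nf : Cfsg.NearField α] (hcomm : ∀ a b : α, a * b = b * a) :
    Field α :=
  letI R : CommRing α :=
    { nf with
      add_comm := nf_add_comm hcomm
      left_distrib := nf_left_distrib hcomm
      right_distrib := nf.right_distrib
      zero_mul := nf_zero_mul
      mul_zero := nf.mul_zero
      mul_comm := hcomm }
  IsField.toField (R := α)
    ⟨⟨0, 1, nf.zero_ne_one⟩, hcomm, fun {a} ha => (nf.exists_inv a ha).imp fun _ hb => hb.1⟩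

end NF

section Semi

variable {α : Type*} [Field α]

theorem semilinear_of (g : Equiv.Perm α)
    (hadd : ∀ x y : α, g (x + y) = g x + g y)
    (hmul : ∀ c : α, c ≠ 0 → ∃ c' : α, ∀ x : α, g (x * c) = g x * c') :
    ∃ (u : αˣ) (φ : α ≃+* α), ∀ x : α, g x = u * φ x := by
  have h0 : g 0 = 0 := by
    have h := hadd 0 0
    rw [add_zero] at h
    have h2 : g 0 + 0 = g 0 + g 0 := by rw [add_zero]; exact h
    exact (add_left_cancel h2).symm
  have hu : g 1 ≠ 0 := by
    intro h
    rw [← h0] at h
    exact one_ne_zero (g.injective h)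
  have hmul' : ∀ x c : α, (g 1)⁻¹ * g (x * c) = (g 1)⁻¹ * g x * ((g 1)⁻¹ * g c) := by
    intro x c
    by_cases hc : c = 0
    · rw [hc, mul_zero, h0, mul_zero, mul_zero]
    · obtain ⟨c', hc'⟩ := hmul c hc
      have h1 := hc' 1
      rw [one_mul] at h1
      rw [hc' x, h1]
      field_simp
  refine ⟨Units.mk0 (g 1) hu,
    { toFun := fun x => (g 1)⁻¹ * g x
      invFun := fun x => g.symm (g 1 * x)
      left_inv := fun x => by
        change g.symm (g 1 * ((g 1)⁻¹ * g x)) = x
        rw [← mul_assoc, mul_inv_cancel₀ hu, one_mul, Equiv.symm_apply_apply]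
      right_inv := fun x => by
        change (g 1)⁻¹ * g (g.symm (g 1 * x)) = x
        rw [Equiv.apply_symm_apply, ← mul_assoc, inv_mul_cancel₀ hu, one_mul]
      map_mul' := fun x c => hmul' x c
      map_add' := fun x c => by
        change (g 1)⁻¹ * g (x + c) = (g 1)⁻¹ * g x + (g 1)⁻¹ * g c
        rw [hadd, mul_add] }, fun x => ?_⟩
  simp only [Units.val_mk0, RingEquiv.coe_mk, Equiv.coe_fn_mk]
  rw [← mul_assoc, mul_inv_cancel₀ hu, one_mul]

theorem le_semiaffine (G : Subgroup (Equiv.Perm α))
    (h1 : ∀ b : α, Equiv.addRight b ∈ G)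
    (h2 : ∀ g ∈ G, ∀ b : α, ∃ b' : α, g * Equiv.addRight b * g⁻¹ = Equiv.addRight b')
    (h3 : ∀ g ∈ G, g 0 = 0 → ∀ c : α, c ≠ 0 → ∃ c' : α, ∀ x : α, g (x * c) = g x * c') :
    G ≤ Cfsg.semiaffineGroup α := by
  intro g hg
  have hg0 : Equiv.addRight (-(g 0)) * g ∈ G := G.mul_mem (h1 _) hg
  obtain ⟨g₀, hg₀⟩ : ∃ g₀ : Equiv.Perm α, g₀ = Equiv.addRight (-(g 0)) * g := ⟨_, rfl⟩
  rw [← hg₀] at hg0
  have hval : ∀ x : α, g₀ x = g x + -(g 0) := by
    intro x
    rw [hg₀]
    rfl
  have h00 : g₀ 0 = 0 := by rw [hval, add_neg_cancel]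
  have hadd : ∀ x b : α, g₀ (x + b) = g₀ x + g₀ b := by
    intro x b
    obtain ⟨b', hb'⟩ := h2 g₀ hg0 b
    have key : ∀ z : α, g₀ (z + b) = g₀ z + b' := by
      intro z
      have h := congrArg (fun σ : Equiv.Perm α => σ (g₀ z)) hb'
      simp only [Equiv.Perm.mul_apply, Equiv.coe_addRight] at h
      have h' : g₀⁻¹ (g₀ z) = z := by simp
      rw [h'] at h
      exact h
    have hb0 := key 0
    rw [zero_add, h00, zero_add] at hb0
    rw [key x, hb0]
  obtain ⟨u, φ, hφ⟩ := semilinear_of g₀ hadd (h3 g₀ hg0 h00)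
  refine ⟨u, g 0, φ, fun x => ?_⟩
  rw [← hφ x, hval, neg_add_cancel_right]

end Semi

theorem semiaffine_transport {α K : Type*} [Ring α] [Ring K] (ψ : α ≃+* K)
    (g : Equiv.Perm α) (hg : g ∈ Cfsg.semiaffineGroup α) :
    ψ.toEquiv.symm.trans (g.trans ψ.toEquiv) ∈ Cfsg.semiaffineGroup K := by
  obtain ⟨a, b, φ, h⟩ := hg
  refine ⟨Units.map (ψ : α →* K) a, ψ b, ψ.symm.trans (φ.trans ψ), fun x => ?_⟩
  simp [h]

/-- A finite field of order `r ^ n` has exactly `n` ring automorphisms. -/
theorem card_ringAut {F : Type*} [Field F] [Fintype F] (r n : ℕ) [hr : Fact r.Prime]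
    (h : Fintype.card F = r ^ n) : Nat.card (F ≃+* F) = n := by
  haveI : CharP F r := by
    obtain ⟨c, hc⟩ := CharP.exists F
    haveI := hc
    obtain ⟨m, hcp, hm⟩ := FiniteField.card F c
    have h1 : c = r := by
      rw [h] at hm
      have h2 : c ∣ r ^ n := by
        rw [hm]
        exact dvd_pow_self c m.ne_zero
      exact (Nat.prime_dvd_prime_iff_eq hcp hr.out).mp (hcp.dvd_of_dvd_pow h2)
    rw [← h1]
    exact hc
  letI : Algebra (ZMod r) F := ZMod.algebra F r
  have hfin : Module.finrank (ZMod r) F = n := by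
    have h1 := Module.card_eq_pow_finrank (K := ZMod r) (V := F)
    rw [h, ZMod.card] at h1
    exact (Nat.pow_right_injective hr.out.two_le h1).symm
  have hgal : Nat.card (F ≃ₐ[ZMod r] F) = Module.finrank (ZMod r) F :=
    IsGalois.card_aut_eq_finrank (ZMod r) F
  rw [← hfin, ← hgal]
  refine Nat.card_congr
    { toFun := fun φ => AlgEquiv.ofRingEquiv (f := φ) (fun x => ?_)
      invFun := fun φ => φ.toRingEquiv
      left_inv := fun φ => by ext x; rfl
      right_inv := fun φ => by ext x; rfl }
  have h1 : (φ : F →+* F).comp (algebraMap (ZMod r) F) = algebraMap (ZMod r) F :=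
    Subsingleton.elim _ _
  exact congrArg (fun f : ZMod r →+* F => f x) h1

/-- A group acting faithfully by ring automorphisms on a field of order `r ^ n` has order
dividing `n`. -/
theorem card_dvd_of_ringAut {F : Type*} [Field F] [Fintype F] (r n : ℕ) [hr : Fact r.Prime]
    (h : Fintype.card F = r ^ n) {Γ : Type*} [Group Γ]
    (ρ : Γ →* Equiv.Perm F) (hρ : Function.Injective ρ)
    (hadd : ∀ γ : Γ, ∀ x y : F, ρ γ (x + y) = ρ γ x + ρ γ y)
    (hmul : ∀ γ : Γ, ∀ x y : F, ρ γ (x * y) = ρ γ x * ρ γ y) : Nat.card Γ ∣ n := by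
  let f : Γ →* RingAut F :=
    { toFun := fun γ => { toEquiv := ρ γ, map_mul' := hmul γ, map_add' := hadd γ }
      map_one' := by
        ext x
        simp
      map_mul' := fun γ δ => by
        ext x
        simp }
  have hf : Function.Injective f := by
    intro γ δ hγδ
    apply hρ
    ext x
    have := congrArg (fun φ : RingAut F => φ x) hγδ
    exact this
  have h1 := Subgroup.card_dvd_of_injective f hf
  have h2 : Nat.card (RingAut F) = n := card_ringAut r n h
  rw [h2] at h1
  exact h1

end Cfsg.Agent.Lib.Helper17.PPlusOneC1
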