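import Mathlib
import Cfsg.Agent.Lib.Helper17.PPlusOneA
import Cfsg.Agent.Lib.Helper17.PPlusOneC1
import Cfsg.Agent.S0683

/-!
The regular normal subgroup case of the degree `p + 1` theorem: the group generated by a
regular normal subgroup and an element of order `p` is sharply doubly transitive, hence the
affine group of a near-field, which is commutative because the point stabilizers are cyclic;
the whole group then consists of semi-affine maps of the resulting field.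
-/

set_option autoImplicit false
set_option linter.style.haveILetI false

namespace Cfsg.Agent.Lib.Helper17.PPlusOneC2

open Subgroup MulAction
open Cfsg.Agent.Lib.Helper17.PPlusOneA
open Cfsg.Agent.Lib.Helper17.PPlusOneC1

variable {α : Type*} [Fintype α] [DecidableEq α] {G : Subgroup (Equiv.Perm α)} {p d : ℕ}

theorem exists_field (S : Setup G p d) (N : Subgroup G) [hN : N.Normal]
    (hNtr : MulAction.IsPretransitive N α) (hNst : ∀ a : α, stabilizer N a = ⊥) :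
    ∃ (_ : Field α) (H : Subgroup G), N ≤ H ∧
      (∀ σ : Equiv.Perm α, σ ∈ H.map G.subtype ↔
        ∃ a b : α, a ≠ 0 ∧ ∀ x : α, σ x = x * a + b) ∧
      (∀ z : α, ∃ y : G, y ∈ H ∧ orderOf y = p ∧ y • z = z ∧
        ∀ g ∈ H, g • z = z → ∃ j : ℕ, g = y ^ j) := by
  obtain ⟨y, hy⟩ := S.exists_orderOf
  obtain ⟨a₀, ha₀, huniq⟩ := S.exists_fixed y hy
  obtain ⟨H, hH⟩ : ∃ H : Subgroup G, H = N ⊔ Subgroup.zpowers y := ⟨_, rfl⟩
  have hNH : N ≤ H := hH ▸ le_sup_left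
  have hyH : y ∈ H := by
    rw [hH]
    exact (le_sup_right : zpowers y ≤ N ⊔ zpowers y) (mem_zpowers y)
  have hdecomp : ∀ g ∈ H, ∃ n ∈ N, ∃ k : ℕ, g = n * y ^ k := by
    intro g hg
    rw [hH] at hg
    have h1 : g ∈ ((N ⊔ zpowers y : Subgroup G) : Set G) := hg
    rw [Subgroup.normal_mul N (zpowers y)] at h1
    obtain ⟨n, hn, b, hb, hnb⟩ := Set.mem_mul.mp h1
    have hb' : b ∈ Submonoid.powers y := mem_powers_iff_mem_zpowers.mpr hb
    obtain ⟨k, hk⟩ := (Submonoid.mem_powers_iff b y).mp hb'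
    exact ⟨n, hn, k, by rw [hk, hnb]⟩
  have hNreg : ∀ n ∈ N, ∀ a : α, n • a = a → n = 1 := by
    intro n hn a h
    have h1 : (⟨n, hn⟩ : N) ∈ stabilizer N a := by
      rw [mem_stabilizer_iff]
      exact h
    rw [hNst a] at h1
    exact congrArg Subtype.val (Subgroup.mem_bot.mp h1)
  have hNtrans : ∀ a b : α, ∃ n ∈ N, n • a = b := by
    intro a b
    obtain ⟨n, hn⟩ := MulAction.exists_smul_eq N a b
    exact ⟨n.1, n.2, hn⟩
  have claimA : ∀ g ∈ H, g • a₀ = a₀ → ∃ j : ℕ, g = y ^ j := by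
    intro g hg hga
    obtain ⟨n, hn, k, hk⟩ := hdecomp g hg
    have h1 : n • a₀ = a₀ := by
      rw [hk, mul_smul, S.pow_smul_fixed y a₀ ha₀ k] at hga
      exact hga
    have h2 := hNreg n hn a₀ h1
    exact ⟨k, by rw [hk, h2, one_mul]⟩
  have claimB : ∀ g ∈ H, ∀ u v : α, u ≠ v → g • u = u → g • v = v → g = 1 := by
    intro g hg u v huv hu hv
    obtain ⟨m, hm, hmu⟩ := hNtrans u a₀
    have hmH : m ∈ H := hNH hm
    have hminv : m⁻¹ • a₀ = u := by rw [inv_smul_eq_iff, hmu]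
    have hg' : m * g * m⁻¹ ∈ H := H.mul_mem (H.mul_mem hmH hg) (H.inv_mem hmH)
    have hfix : (m * g * m⁻¹) • a₀ = a₀ := by
      rw [mul_smul, mul_smul, hminv, hu, hmu]
    obtain ⟨j, hj⟩ := claimA _ hg' hfix
    have hne : m • v ≠ a₀ := by
      intro h
      rw [← hmu] at h
      exact huv (MulAction.injective m h).symm
    have hfix2 : y ^ j • (m • v) = m • v := by
      rw [← hj, mul_smul, mul_smul, inv_smul_smul, hv]
    have hdvd := S.dvd_of_pow_smul y hy a₀ ha₀ (m • v) hne j hfix2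
    have h1 := S.pow_eq_one_of_dvd y hy j hdvd
    rw [h1] at hj
    have h2 : g = m⁻¹ * (m * g * m⁻¹) * m := by group
    rw [h2, hj]
    group
  have hH2 : ∀ a b c e : α, a ≠ b → c ≠ e → ∃ g ∈ H, g • a = c ∧ g • b = e := by
    intro a b c e hab hce
    obtain ⟨n₁, hn₁, h1⟩ := hNtrans a a₀
    obtain ⟨n₂, hn₂, h2⟩ := hNtrans c a₀
    have hb : n₁ • b ≠ a₀ := by
      intro h
      rw [← h1] at h
      exact hab (MulAction.injective n₁ h).symm
    have he : n₂ • e ≠ a₀ := by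
      intro h
      rw [← h2] at h
      exact hce (MulAction.injective n₂ h).symm
    obtain ⟨k, hk⟩ := S.exists_pow y hy a₀ ha₀ (n₁ • b) (n₂ • e) hb he
    refine ⟨n₂⁻¹ * y ^ k * n₁, H.mul_mem (H.mul_mem (H.inv_mem (hNH hn₂)) (H.pow_mem hyH k))
      (hNH hn₁), ?_, ?_⟩
    · rw [mul_smul, mul_smul, h1, S.pow_smul_fixed y a₀ ha₀ k, inv_smul_eq_iff, h2]
    · rw [mul_smul, mul_smul, hk, inv_smul_smul]
  -- the cyclic point stabilizers
  have hcyc : ∀ z : α, ∃ yz : G, yz ∈ H ∧ orderOf yz = p ∧ yz • z = z ∧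
      ∀ g ∈ H, g • z = z → ∃ j : ℕ, g = yz ^ j := by
    intro z
    obtain ⟨m, hm, hmz⟩ := hNtrans a₀ z
    have hmH : m ∈ H := hNH hm
    have hminv : m⁻¹ • z = a₀ := by rw [inv_smul_eq_iff, hmz]
    refine ⟨m * y * m⁻¹, H.mul_mem (H.mul_mem hmH hyH) (H.inv_mem hmH), ?_, ?_, ?_⟩
    · have h1 := orderOf_injective (MulAut.conj m).toMonoidHom (MulAut.conj m).injective y
      rw [hy] at h1
      exact h1
    · rw [mul_smul, mul_smul, hminv, ha₀, hmz]
    · intro g hg hgz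
      have hg' : m⁻¹ * g * m ∈ H := H.mul_mem (H.mul_mem (H.inv_mem hmH) hg) hmH
      have hfix : (m⁻¹ * g * m) • a₀ = a₀ := by
        rw [mul_smul, mul_smul, hmz, hgz, hminv]
      obtain ⟨j, hj⟩ := claimA _ hg' hfix
      refine ⟨j, ?_⟩
      rw [conj_pow, ← hj]
      group
  have hcomm : ∀ z : α, ∀ g₁ ∈ H, ∀ g₂ ∈ H, g₁ • z = z → g₂ • z = z → g₁ * g₂ = g₂ * g₁ := by
    intro z g₁ hg₁ g₂ hg₂ h1 h2
    obtain ⟨yz, -, -, -, hyz⟩ := hcyc z
    obtain ⟨j₁, hj₁⟩ := hyz g₁ hg₁ h1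
    obtain ⟨j₂, hj₂⟩ := hyz g₂ hg₂ h2
    rw [hj₁, hj₂, ← pow_add, ← pow_add, add_comm]
  -- the near-field
  have hcard : 1 < Fintype.card α := by
    rw [S.hα]
    have := S.hp.two_le
    omega
  obtain ⟨e₀, he₀⟩ := Fintype.exists_ne_of_one_lt_card hcard a₀
  have hmapH : ∀ σ : Equiv.Perm α, σ ∈ H.map G.subtype ↔ ∃ g ∈ H, (g : Equiv.Perm α) = σ := by
    intro σ
    rw [Subgroup.mem_map]
    rfl
  have hmapN : ∀ σ : Equiv.Perm α, σ ∈ N.map G.subtype ↔ ∃ g ∈ N, (g : Equiv.Perm α) = σ := by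
    intro σ
    rw [Subgroup.mem_map]
    rfl
  obtain ⟨nf, hmem⟩ := Cfsg.Agent.S0683.nearfield_of (H.map G.subtype) (N.map G.subtype)
    (Subgroup.map_mono hNH)
    (by
      intro h hh n hn
      obtain ⟨h₀, hh₀, rfl⟩ := (hmapH h).mp hh
      obtain ⟨n₀, hn₀, rfl⟩ := (hmapN n).mp hn
      exact (hmapN _).mpr ⟨h₀ * n₀ * h₀⁻¹, hN.conj_mem n₀ hn₀ h₀, rfl⟩)
    (by
      intro a b
      obtain ⟨n, hn, h⟩ := hNtrans a b
      exact ⟨(n : Equiv.Perm α), (hmapN _).mpr ⟨n, hn, rfl⟩, h⟩)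
    (by
      intro n hn a ha
      obtain ⟨n₀, hn₀, rfl⟩ := (hmapN n).mp hn
      have := hNreg n₀ hn₀ a ha
      rw [this]
      rfl)
    (by
      intro a b c e hab hce
      obtain ⟨g, hg, h1, h2⟩ := hH2 a b c e hab hce
      exact ⟨(g : Equiv.Perm α), (hmapH _).mpr ⟨g, hg, rfl⟩, h1, h2⟩)
    (by
      intro g hg a b hab ha hb
      obtain ⟨g₀, hg₀, rfl⟩ := (hmapH g).mp hg
      have := claimB g₀ hg₀ a b hab ha hb
      rw [this]
      rfl)
    a₀ e₀ he₀.symm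
  -- commutativity of the multiplication
  have hmulmap : ∀ c : α, c ≠ 0 → ∃ g ∈ H, ∀ x : α, g • x = x * c := by
    intro c hc
    obtain ⟨g, hg, h1, h2⟩ := hH2 0 1 0 c nf.zero_ne_one (Ne.symm hc)
    obtain ⟨a, b, ha, hab⟩ := (hmem (g : Equiv.Perm α)).mp ((hmapH _).mpr ⟨g, hg, rfl⟩)
    have hb : b = 0 := by
      have h3 := hab 0
      rw [nf_zero_mul, zero_add] at h3
      rw [← h3]
      exact h1
    have ha' : a = c := by
      have h3 := hab 1
      rw [one_mul, hb, add_zero] at h3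
      rw [← h3]
      exact h2
    refine ⟨g, hg, fun x => ?_⟩
    have h3 := hab x
    rw [hb, add_zero, ha'] at h3
    exact h3
  have hmulcomm : ∀ a b : α, a * b = b * a := by
    intro a b
    by_cases ha : a = 0
    · rw [ha, nf_zero_mul, nf.mul_zero]
    by_cases hb : b = 0
    · rw [hb, nf_zero_mul, nf.mul_zero]
    obtain ⟨ga, hga, hga'⟩ := hmulmap a ha
    obtain ⟨gb, hgb, hgb'⟩ := hmulmap b hb
    have h1 : ga • (0 : α) = 0 := by rw [hga', nf_zero_mul]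
    have h2 : gb • (0 : α) = 0 := by rw [hgb', nf_zero_mul]
    have h3 := hcomm 0 ga hga gb hgb h1 h2
    have h4 : (ga * gb) • (1 : α) = (gb * ga) • (1 : α) := by rw [h3]
    rw [mul_smul, mul_smul, hga', hgb', hga', hgb', one_mul, one_mul] at h4
    exact h4.symm
  exact ⟨fieldOfNearField hmulcomm, H, hNH, hmem, hcyc⟩

end Cfsg.Agent.Lib.Helper17.PPlusOneC2
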