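import Mathlib
import Cfsg.Agent.Lib.Helper17.PPlusOneA
import Cfsg.Agent.Lib.Helper17.PPlusOneC1
import Cfsg.Agent.Lib.Helper17.PPlusOneC2

/-!
The regular normal subgroup case of the degree `p + 1` theorem, conclusion: the group is a
group of semi-affine maps of the field with `2 ^ q` elements.
-/

set_option autoImplicit false
set_option linter.style.haveILetI false

namespace Cfsg.Agent.Lib.Helper17.PPlusOneC3

open Subgroup MulAction
open Cfsg.Agent.Lib.Helper17.PPlusOneA
open Cfsg.Agent.Lib.Helper17.PPlusOneC1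
open Cfsg.Agent.Lib.Helper17.PPlusOneC2

variable {α : Type*} [Fintype α] [DecidableEq α] {G : Subgroup (Equiv.Perm α)} {p d : ℕ}

theorem le_semiaffine_of_field [Field α] (S : Setup G p d) (N : Subgroup G) [hN : N.Normal]
    (hNtr : MulAction.IsPretransitive N α) (hNst : ∀ a : α, stabilizer N a = ⊥)
    (H : Subgroup G) (hNH : N ≤ H)
    (hmem : ∀ σ : Equiv.Perm α, σ ∈ H.map G.subtype ↔
        ∃ a b : α, a ≠ 0 ∧ ∀ x : α, σ x = x * a + b)
    (hcyc : ∀ z : α, ∃ y : G, y ∈ H ∧ orderOf y = p ∧ y • z = z ∧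
        ∀ g ∈ H, g • z = z → ∃ j : ℕ, g = y ^ j) :
    G ≤ Cfsg.semiaffineGroup α := by
  have hmapH : ∀ σ : Equiv.Perm α, σ ∈ H.map G.subtype ↔ ∃ g ∈ H, (g : Equiv.Perm α) = σ := by
    intro σ
    rw [Subgroup.mem_map]
    rfl
  have hNreg : ∀ n ∈ N, ∀ a : α, n • a = a → n = 1 := by
    intro n hn a h
    have h1 : (⟨n, hn⟩ : N) ∈ stabilizer N a := by
      rw [mem_stabilizer_iff]
      exact h
    rw [hNst a] at h1
    exact congrArg Subtype.val (Subgroup.mem_bot.mp h1)
  have hNtrans : ∀ a b : α, ∃ n ∈ N, n • a = b := by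
    intro a b
    obtain ⟨n, hn⟩ := MulAction.exists_smul_eq N a b
    exact ⟨n.1, n.2, hn⟩
  -- elements of `N` are translations
  have hT : ∀ n ∈ N, ∃ b : α, (n : Equiv.Perm α) = Equiv.addRight b := by
    intro n hn
    obtain ⟨a, b, ha, hab⟩ := (hmem (n : Equiv.Perm α)).mp ((hmapH _).mpr ⟨n, hNH hn, rfl⟩)
    have ha1 : a = 1 := by
      by_contra hne
      have h1a : (1 : α) - a ≠ 0 := sub_ne_zero.mpr (Ne.symm hne)
      have hfix : n • (b / (1 - a)) = b / (1 - a) := by
        change (n : Equiv.Perm α) (b / (1 - a)) = b / (1 - a)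
        rw [hab]
        field_simp
        ring
      have h1 := hNreg n hn _ hfix
      have h2 : ∀ x : α, x = x * a + b := by
        intro x
        rw [← hab x, h1]
        rfl
      have hb : b = 0 := by
        have := h2 0
        rw [zero_mul, zero_add] at this
        exact this.symm
      have := h2 1
      rw [one_mul, hb, add_zero] at this
      exact hne this.symm
    refine ⟨b, Equiv.ext fun x => ?_⟩
    rw [hab x, ha1, mul_one]
    rfl
  have hT' : ∀ b : α, ∃ n ∈ N, (n : Equiv.Perm α) = Equiv.addRight b := by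
    intro b
    obtain ⟨n, hn, hnb⟩ := hNtrans 0 b
    obtain ⟨b', hb'⟩ := hT n hn
    have h1 : (n : Equiv.Perm α) 0 = b := hnb
    simp only [hb', Equiv.coe_addRight, zero_add] at h1
    exact ⟨n, hn, by rw [hb', h1]⟩
  refine le_semiaffine G ?_ ?_ ?_
  · intro b
    obtain ⟨n, -, hnb⟩ := hT' b
    rw [← hnb]
    exact n.2
  · intro g hg b
    obtain ⟨n, hn, hnb⟩ := hT' b
    obtain ⟨b', hb'⟩ := hT ((⟨g, hg⟩ : G) * n * (⟨g, hg⟩ : G)⁻¹) (hN.conj_mem n hn _)
    refine ⟨b', ?_⟩
    rw [← hb', ← hnb]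
    rfl
  · intro g hg hg0 c hc
    obtain ⟨y₀, hy₀H, hy₀, hy₀0, hy₀cyc⟩ := hcyc 0
    obtain ⟨c₀, b₀, hc₀, hy₀x⟩ := (hmem (y₀ : Equiv.Perm α)).mp ((hmapH _).mpr ⟨y₀, hy₀H, rfl⟩)
    have hb₀ : b₀ = 0 := by
      have h1 := hy₀x 0
      rw [zero_mul, zero_add] at h1
      rw [← h1]
      exact hy₀0
    have hy₀x' : ∀ x : α, y₀ • x = x * c₀ := by
      intro x
      have h1 := hy₀x x
      rw [hb₀, add_zero] at h1
      exact h1
    have hpow : ∀ (j : ℕ) (x : α), (y₀ ^ j) • x = x * c₀ ^ j := by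
      intro j
      induction j with
      | zero => intro x; rw [pow_zero, pow_zero, one_smul, mul_one]
      | succ j ih =>
        intro x
        rw [pow_succ, mul_smul, hy₀x', ih, pow_succ', mul_assoc]
    obtain ⟨m, hm⟩ := S.conj_eq_pow y₀ hy₀ 0 hy₀0 ⟨g, hg⟩ hg0
    have hm' : (⟨g, hg⟩ : G) * y₀ = y₀ ^ m * ⟨g, hg⟩ := by
      rw [← hm]
      group
    have hstep : ∀ x : α, g (x * c₀) = g x * c₀ ^ m := by
      intro x
      have h1 : ((⟨g, hg⟩ : G) * y₀) • x = (y₀ ^ m * ⟨g, hg⟩) • x := by rw [hm']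
      rw [mul_smul, mul_smul, hy₀x', hpow] at h1
      exact h1
    have hstep' : ∀ (j : ℕ) (x : α), g (x * c₀ ^ j) = g x * (c₀ ^ m) ^ j := by
      intro j
      induction j with
      | zero => intro x; rw [pow_zero, pow_zero, mul_one, mul_one]
      | succ j ih =>
        intro x
        rw [pow_succ, ← mul_assoc, hstep, ih, pow_succ, mul_assoc]
    -- every nonzero `c` is a power of `c₀`
    have hσ : Equiv.mulRight₀ c hc ∈ H.map G.subtype :=
      (hmem _).mpr ⟨c, 0, hc, fun x => by simp⟩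
    obtain ⟨h, hh, hhσ⟩ := (hmapH _).mp hσ
    have hh0 : h • (0 : α) = 0 := by
      change (h : Equiv.Perm α) 0 = 0
      rw [hhσ]
      simp
    obtain ⟨j, hj⟩ := hy₀cyc h hh hh0
    have hcj : c = c₀ ^ j := by
      have h1 : h • (1 : α) = c := by
        change (h : Equiv.Perm α) 1 = c
        rw [hhσ]
        simp
      rw [hj, hpow, one_mul] at h1
      exact h1.symm
    refine ⟨(c₀ ^ m) ^ j, fun x => ?_⟩
    rw [hcj]
    exact hstep' j x

theorem regular_case (S : Setup G p d) (hp2 : p ≠ 2) (N : Subgroup G) [hN : N.Normal]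
    (hNtr : MulAction.IsPretransitive N α) (hNst : ∀ a : α, stabilizer N a = ⊥) :
    ∃ q : ℕ, q.Prime ∧ p + 1 = 2 ^ q ∧ (d = 1 ∨ d = q) ∧ ∃ e : α ≃ GaloisField 2 q,
      ∀ g : G, (e.symm.trans (((g : Equiv.Perm α)).trans e)) ∈
        Cfsg.semiaffineGroup (GaloisField 2 q) := by
  obtain ⟨fld, H, hNH, hmem, hcyc⟩ := exists_field S N hNtr hNst
  have hle := le_semiaffine_of_field S N hNtr hNst H hNH hmem hcyc
  obtain ⟨r, -, n, hr, hcard⟩ := FiniteField.card' α
  have hcard' := hcard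
  rw [S.hα] at hcard
  have hpodd : Odd p := S.hp.odd_of_ne_two hp2
  have hr2 : r = 2 := by
    have h2 : 2 ∣ r ^ (n : ℕ) := by
      rw [← hcard]
      obtain ⟨k, hk⟩ := hpodd
      omega
    exact ((Nat.prime_dvd_prime_iff_eq Nat.prime_two hr).mp
      (Nat.prime_two.dvd_of_dvd_pow h2)).symm
  subst hr2
  have hn1 : (n : ℕ) ≠ 1 := by
    intro h
    rw [h] at hcard
    have := S.hp.two_le
    omega
  have hpp : (2 ^ (n : ℕ) - 1).Prime := by
    rw [← hcard, Nat.add_sub_cancel]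
    exact S.hp
  have hq : (n : ℕ).Prime := (Nat.prime_of_pow_sub_one_prime hn1 hpp).2
  letI : Fintype (GaloisField 2 (n : ℕ)) := Fintype.ofFinite _
  have hGF : Fintype.card (GaloisField 2 (n : ℕ)) = 2 ^ (n : ℕ) := by
    rw [← Nat.card_eq_fintype_card]
    exact GaloisField.card 2 (n : ℕ) n.ne_zero
  have ψ : α ≃+* GaloisField 2 (n : ℕ) :=
    FiniteField.ringEquivOfCardEq (by rw [hGF, hcard'])
  refine ⟨(n : ℕ), hq, hcard, ?_, ψ.toEquiv, fun g => semiaffine_transport ψ _ (hle g.2)⟩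
  -- the order of the two point stabilizer divides `q`
  have hd := S.card_two_stabilizer (0 : α) 1 zero_ne_one
  have hdvd : Nat.card (stabilizer G (0 : α) ⊓ stabilizer G (1 : α) : Subgroup G) ∣ (n : ℕ) := by
    refine card_dvd_of_ringAut 2 (n : ℕ) hcard'
      (G.subtype.comp (Subgroup.subtype _)) ?_ ?_ ?_
    · exact (Subgroup.subtype_injective G).comp (Subgroup.subtype_injective _)
    all_goals
      intro γ
      obtain ⟨u, b, φ, hφ⟩ := hle γ.1.2
      have h0 : (γ.1 : Equiv.Perm α) 0 = 0 := γ.2.1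
      have h1 : (γ.1 : Equiv.Perm α) 1 = 1 := γ.2.2
      have hb : b = 0 := by
        rw [hφ, map_zero, mul_zero, zero_add] at h0
        exact h0
      have hu : (u : α) = 1 := by
        rw [hφ, map_one, mul_one, hb, add_zero] at h1
        exact h1
      have hval : ∀ x : α, (γ.1 : Equiv.Perm α) x = φ x := by
        intro x
        rw [hφ, hu, hb, one_mul, add_zero]
      intro x y
      have e1 : ∀ z : α, ((G.subtype.comp (Subgroup.subtype
          (stabilizer G (0 : α) ⊓ stabilizer G (1 : α)))) γ) z = φ z := hval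
      rw [e1, e1, e1]
      first | exact map_add φ x y | exact map_mul φ x y
  rw [hd] at hdvd
  exact (Nat.dvd_prime hq).mp hdvd

end Cfsg.Agent.Lib.Helper17.PPlusOneC3
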