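import Mathlib

set_option autoImplicit false

namespace Cfsg.Agent.Lib.Helper17.Classes

open Subgroup MulAction

variable {G : Type*} [Group G]

theorem orderOf_conj_eq (c s : G) : orderOf (c * s * c⁻¹) = orderOf s := by
  have := MulEquiv.orderOf_eq (MulAut.conj c) s
  rwa [MulAut.conj_apply] at this

theorem orderOf_eq_of_isConj {s g : G} (h : IsConj s g) : orderOf g = orderOf s := by
  obtain ⟨c, rfl⟩ := isConj_iff.mp h
  exact orderOf_conj_eq c s

/-- The class equation for one class. -/
theorem card_conj_mul_card_centralizer [Finite G] (g : G) :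
    Nat.card {h : G // IsConj g h} * Nat.card (centralizer ({g} : Set G)) = Nat.card G := by
  have h1 := (stabilizer (ConjAct G) g).card_mul_index
  rw [index_stabilizer, ← Subgroup.nat_card_centralizer_nat_card_stabilizer] at h1
  have h2 : Nat.card (ConjAct G) = Nat.card G := rfl
  rw [h2] at h1
  rw [← h1, mul_comm]
  congr 1
  rw [← Nat.card_coe_set_eq]
  apply Nat.card_congr
  exact Equiv.subtypeEquivRight (fun h => by
    rw [ConjAct.mem_orbit_conjAct, isConj_comm])

theorem centralizer_singleton_eq (y : G) :
    centralizer ({y} : Set G) = centralizer ((zpowers y : Subgroup G) : Set G) := by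
  ext g
  rw [mem_centralizer_iff, mem_centralizer_iff]
  constructor
  · intro h z hz
    obtain ⟨k, rfl⟩ := mem_zpowers_iff.mp hz
    have : Commute y g := h y rfl
    exact (this.zpow_left k).eq
  · intro h z hz
    rw [Set.mem_singleton_iff] at hz
    subst hz
    exact h z (mem_zpowers z)

theorem mem_centralizer_self (g : G) : g ∈ centralizer ({g} : Set G) := by
  rw [mem_centralizer_iff]
  intro h hh
  rw [Set.mem_singleton_iff] at hh
  rw [hh]

/-- If the class of `s` is at least as large as the set of elements of order `n = orderOf s`,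
then every element of order `n` is conjugate to `s`. -/
theorem isConj_of_card_le [Finite G] (n : ℕ) (s t : G) (hs : orderOf s = n) (ht : orderOf t = n)
    (hcard : Nat.card {g : G // orderOf g = n} ≤ Nat.card {h : G // IsConj s h}) :
    IsConj s t := by
  have hsub : {g : G | IsConj s g} ⊆ {g : G | orderOf g = n} := by
    intro g hg
    exact (orderOf_eq_of_isConj hg).trans hs
  have heq := Set.eq_of_subset_of_ncard_le hsub hcard (Set.toFinite _)
  have : t ∈ {g : G | orderOf g = n} := ht
  rw [← heq] at this
  exact this

theorem card_le_of_isConj [Finite G] (n : ℕ) (s : G) (hs : orderOf s = n) :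
    Nat.card {h : G // IsConj s h} ≤ Nat.card {g : G // orderOf g = n} :=
  Nat.card_le_card_of_injective
    (fun h => (⟨h.1, (orderOf_eq_of_isConj h.2).trans hs⟩ : {g : G // orderOf g = n}))
    (fun a b hab => Subtype.ext (congrArg (fun x : {g : G // orderOf g = n} => x.1) hab))

end Cfsg.Agent.Lib.Helper17.Classes
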