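import Mathlib

set_option autoImplicit false

namespace Cfsg.Agent.Lib.Helper17.Orbits

open Subgroup MulAction

/-- If all orbits have size divisible by `d`, so does the set. -/
theorem dvd_card_of_forall_dvd_card_orbit {H X : Type*} [Group H] [MulAction H X] [Finite X]
    (d : ℕ) (h : ∀ x : X, d ∣ Nat.card (orbit H x)) : d ∣ Nat.card X := by
  classical
  have : Fintype (orbitRel.Quotient H X) := Fintype.ofFinite _
  rw [Nat.card_congr (selfEquivSigmaOrbits H X), Nat.card_sigma]
  apply Finset.dvd_sum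
  intro ω _
  exact h _

/-- If `x₀` is a fixed point and all other orbits have size divisible by `d`, then
the size of the set is congruent to one modulo `d`. -/
theorem card_modEq_one_of_orbits {H X : Type*} [Group H] [MulAction H X] [Finite X]
    (d : ℕ) (x₀ : X) (h0 : ∀ g : H, g • x₀ = x₀)
    (h : ∀ x : X, x ≠ x₀ → d ∣ Nat.card (orbit H x)) : Nat.card X ≡ 1 [MOD d] := by
  classical
  have : Fintype (orbitRel.Quotient H X) := Fintype.ofFinite _
  rw [Nat.card_congr (selfEquivSigmaOrbits H X), Nat.card_sigma]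
  have horb0 : orbit H x₀ = {x₀} := by
    ext y
    simp only [mem_orbit_iff, Set.mem_singleton_iff]
    constructor
    · rintro ⟨g, rfl⟩
      exact h0 g
    · rintro rfl
      exact ⟨1, one_smul _ _⟩
  let ω₀ : orbitRel.Quotient H X := Quotient.mk'' x₀
  rw [← Finset.add_sum_erase Finset.univ _ (Finset.mem_univ ω₀)]
  have h1 : Nat.card (orbit H (Quotient.out ω₀)) = 1 := by
    have hmem : Quotient.out ω₀ ∈ orbit H x₀ := by
      have h2 : Quotient.mk'' (Quotient.out ω₀) = (Quotient.mk'' x₀ : orbitRel.Quotient H X) :=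
        Quotient.out_eq' ω₀
      exact (orbitRel_apply).mp (Quotient.exact' h2)
    rw [horb0, Set.mem_singleton_iff] at hmem
    rw [hmem, horb0]
    simp
  rw [h1]
  have h2 : d ∣ ∑ ω ∈ Finset.univ.erase ω₀, Nat.card (orbit H (Quotient.out ω)) := by
    apply Finset.dvd_sum
    intro ω hω
    apply h
    intro hx
    apply (Finset.mem_erase.mp hω).1
    have h3 : Quotient.mk'' (Quotient.out ω) = ω := Quotient.out_eq' ω
    rw [← h3, hx]
  obtain ⟨c, hc⟩ := h2
  rw [hc, Nat.ModEq]
  simp

/-- The orbit of a Sylow subgroup `Q` under conjugation by `P`. -/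
theorem card_orbit_sylow {G : Type*} [Group G] [Finite G] {p : ℕ} [Fact p.Prime]
    (P Q : Sylow p G) :
    Nat.card (orbit (P : Subgroup G) Q) = ((Q : Subgroup G).subgroupOf (P : Subgroup G)).index := by
  have h1 := index_stabilizer (P : Subgroup G) Q
  rw [← Nat.card_coe_set_eq] at h1
  rw [← h1]
  congr 1
  have h2 : (P : Subgroup G) ⊓ normalizer ((Q : Subgroup G) : Set G)
      = (P : Subgroup G) ⊓ (Q : Subgroup G) := P.isPGroup'.inf_normalizer_sylow Q
  rw [← Subgroup.subgroupOf_inj.mpr
    (show (normalizer ((Q : Subgroup G) : Set G)) ⊓ (P : Subgroup G) = (Q : Subgroup G) ⊓ P by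
      rw [inf_comm, h2, inf_comm])]
  ext g
  rw [mem_stabilizer_iff, Subgroup.mem_subgroupOf]
  exact Sylow.smul_eq_iff_mem_normalizer

end Cfsg.Agent.Lib.Helper17.Orbits
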