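import Mathlib
import Cfsg.Agent.Lib.Helper17.Embed
import Cfsg.Agent.Lib.Helper17.FixedPoints

set_option autoImplicit false

namespace Cfsg.Agent.Lib.Helper17.Parity

open Subgroup MulAction Cfsg.Agent.Lib.Helper17.FixedPoints

/-- In a non-commutative simple group acting on a finite set, an element with `t ^ 2 = 1`
moves a multiple of four points. -/
theorem involution_moved {G X : Type*} [Group G] [IsSimpleGroup G] (hG : ¬ IsMulCommutative G)
    [MulAction G X] [Finite X] (t : G) (ht : t ^ 2 = 1) :
    ∃ k : ℕ, Nat.card X = Nat.card (fixedBy X t) + 4 * k := by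
  classical
  have : Fintype X := Fintype.ofFinite X
  set σ : Equiv.Perm X := MulAction.toPermHom G X t with hσ
  have hσ2 : σ ^ 2 = 1 := by rw [hσ, ← map_pow, ht, map_one]
  have hsign : Equiv.Perm.sign σ = 1 :=
    Embed.hom_eq_one_of_simple hG (Equiv.Perm.sign.comp (MulAction.toPermHom G X)) t
  have h1 := Equiv.Perm.sign_of_pow_two_eq_one hσ2
  rw [hsign] at h1
  have hfix : Fintype.card (Function.fixedPoints σ) = Nat.card (fixedBy X t) := by
    rw [← Nat.card_eq_fintype_card]
    rfl
  have h2 := Equiv.Perm.card_fixedPoints σ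
  have h3 := Equiv.Perm.two_dvd_card_support hσ2
  have h4 := σ.sum_cycleType
  have h5 := σ.sum_cycleType_le
  rw [hfix] at h1 h2
  have heven : Even ((Fintype.card X - Nat.card (fixedBy X t)) / 2) := by
    by_contra hodd
    rw [Nat.not_even_iff_odd] at hodd
    rw [hodd.neg_one_pow] at h1
    exact absurd h1 (by decide)
  obtain ⟨c, hc⟩ := h3
  obtain ⟨k, hk⟩ := heven
  refine ⟨k, ?_⟩
  rw [Nat.card_eq_fintype_card (α := X)]
  omega

/-- Number of orbits of a Sylow subgroup of order `p` on the cosets of its normalizer. -/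
theorem card_orbits_mul {G : Type*} [Group G] [Finite G] {p : ℕ} [Fact p.Prime] (P : Sylow p G)
    (hP : Nat.card (P : Subgroup G) = p) :
    Nat.card (orbitRel.Quotient (P : Subgroup G) (G ⧸ normalizer ((P : Subgroup G) : Set G))) * p
      = Nat.card (G ⧸ normalizer ((P : Subgroup G) : Set G)) + (p - 1) := by
  classical
  have hp : p.Prime := Fact.out
  have : Fintype (P : Subgroup G) := Fintype.ofFinite _
  have : Fintype (G ⧸ normalizer ((P : Subgroup G) : Set G)) := Fintype.ofFinite _
  have : Fintype (orbitRel.Quotient (P : Subgroup G) (G ⧸ normalizer ((P : Subgroup G) : Set G))) :=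
    Fintype.ofFinite _
  have hB := MulAction.sum_card_fixedBy_eq_card_orbits_mul_card_group (P : Subgroup G)
    (G ⧸ normalizer ((P : Subgroup G) : Set G))
  rw [← Nat.card_eq_fintype_card (α := (P : Subgroup G)), hP] at hB
  rw [Nat.card_eq_fintype_card, ← hB, ← Finset.add_sum_erase Finset.univ _ (Finset.mem_univ 1)]
  have h1 : Fintype.card (fixedBy (G ⧸ normalizer ((P : Subgroup G) : Set G)) (1 : (P : Subgroup G)))
      = Nat.card (G ⧸ normalizer ((P : Subgroup G) : Set G)) := by
    rw [Nat.card_eq_fintype_card]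
    apply Fintype.card_of_subtype
    intro x
    simp
  rw [h1]
  congr 1
  have h2 : ∀ a ∈ (Finset.univ.erase (1 : (P : Subgroup G))),
      Fintype.card (fixedBy (G ⧸ normalizer ((P : Subgroup G) : Set G)) a) = 1 := by
    intro a ha
    have ha1 : a ≠ 1 := (Finset.mem_erase.mp ha).1
    have ha1' : (a : G) ≠ 1 := fun h => ha1 (Subtype.ext h)
    have h3 := card_fixedBy_of_orderOf_eq P hP (a : G) (zpowers_eq_of_mem P hP a a.2 ha1').1
    rw [← Nat.card_eq_fintype_card]
    exact h3
  rw [Finset.sum_congr rfl h2]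
  simp [Finset.card_erase_of_mem, ← Nat.card_eq_fintype_card, hP]

/-- The involution test for a Sylow subgroup of prime order. -/
theorem sylow_involution_test {G : Type*} [Group G] [Finite G] [IsSimpleGroup G]
    (hG : ¬ IsMulCommutative G) {p : ℕ} [Fact p.Prime] (P : Sylow p G)
    (hP : Nat.card (P : Subgroup G) = p) (t : G) (ht : t ^ 2 = 1)
    (htN : t ∈ normalizer ((P : Subgroup G) : Set G))
    (htC : t ∉ centralizer ((P : Subgroup G) : Set G)) :
    ∃ f k o : ℕ, 1 ≤ f ∧ f ≤ o ∧ o * p = Nat.card (Sylow p G) + (p - 1) ∧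
      Nat.card (Sylow p G) = f + 4 * k := by
  obtain ⟨k, hk⟩ := involution_moved hG (X := G ⧸ normalizer ((P : Subgroup G) : Set G)) t ht
  have ho := card_orbits_mul P hP
  have hle := card_fixedBy_le_card_orbits P hP t htN htC
  have hX : Nat.card (G ⧸ normalizer ((P : Subgroup G) : Set G)) = Nat.card (Sylow p G) := by
    rw [P.card_eq_index_normalizer]; rfl
  rw [hX] at hk ho
  refine ⟨_, k, _, ?_, hle, ho, hk⟩
  have hfix : ((1 : G) : G ⧸ normalizer ((P : Subgroup G) : Set G)) ∈
      fixedBy (G ⧸ normalizer ((P : Subgroup G) : Set G)) t := by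
    rw [mem_fixedBy, coset_fixed_iff]
    simpa using htN
  exact Nat.card_pos_iff.mpr ⟨⟨⟨_, hfix⟩⟩, inferInstance⟩

end Cfsg.Agent.Lib.Helper17.Parity
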