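import Mathlib
import Cfsg.Agent.Lib.Helper17.FixedPoints
import Cfsg.Agent.Lib.Helper17.Sylow2
import Cfsg.Agent.Lib.Helper17.Sylow
import Cfsg.Agent.Lib.Helper17.Commuting
import Cfsg.Agent.Lib.Helper17.Parity
import Cfsg.Agent.Lib.Helper17.Orbits
import Cfsg.Agent.Lib.Helper17.Classes

set_option autoImplicit false

namespace Cfsg.Agent.Lib.Helper17.CentFix

open Subgroup MulAction
open Cfsg.Agent.Lib.Helper17.FixedPoints Cfsg.Agent.Lib.Helper17.Sylow2
open Cfsg.Agent.Lib.Helper17.Sylow Cfsg.Agent.Lib.Helper17.Commuting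
open Cfsg.Agent.Lib.Helper17.Parity Cfsg.Agent.Lib.Helper17.Orbits

section general

variable {G : Type*} [Group G]

theorem conj_aux (g t b : G) (h : g * t * g⁻¹ = b) : g⁻¹ * b * g = t := by
  subst h
  group

/-- Conjugate elements have the same number of fixed points. -/
theorem card_fixedBy_conj {X : Type*} [MulAction G X] (g y : G) :
    Nat.card (fixedBy X (g⁻¹ * y * g)) = Nat.card (fixedBy X y) := by
  apply Nat.card_congr
  exact
    { toFun := fun z => ⟨g • z.1, by
        have hz := z.2
        rw [mem_fixedBy, mul_smul, mul_smul] at hz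
        rw [mem_fixedBy]
        exact inv_smul_eq_iff.mp hz⟩
      invFun := fun w => ⟨g⁻¹ • w.1, by
        have hw := w.2
        rw [mem_fixedBy] at hw
        rw [mem_fixedBy, mul_smul, mul_smul, smul_inv_smul, hw]⟩
      left_inv := fun z => Subtype.ext (inv_smul_smul g z.1)
      right_inv := fun w => Subtype.ext (smul_inv_smul g w.1) }

/-- The number of `g` with `g⁻¹ y g ∈ H` is `|H|` times the number of cosets fixed by `y`. -/
theorem card_conj_mem [Finite G] (H : Subgroup G) (y : G) :
    Nat.card {g : G // g⁻¹ * y * g ∈ H} = Nat.card H * Nat.card (fixedBy (G ⧸ H) y) := by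
  rw [← QuotientGroup.card_preimage_mk H (fixedBy (G ⧸ H) y)]
  apply Nat.card_congr
  apply Equiv.subtypeEquivRight
  intro g
  rw [Set.mem_preimage, mem_fixedBy, coset_fixed_iff]

/-- A finite group of even order has an odd number of involutions. -/
theorem odd_card_involutions (K : Type*) [Group K] [Finite K] (hK : Even (Nat.card K)) :
    Odd (Nat.card {x : K // orderOf x = 2}) := by
  classical
  have : Fintype K := Fintype.ofFinite K
  have : Fact (Nat.Prime 2) := ⟨Nat.prime_two⟩
  let f : Function.End K := fun x => x⁻¹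
  have hf : f ^ 2 ^ 1 = 1 := by
    funext x
    rw [pow_one, pow_two]
    show (x⁻¹)⁻¹ = x
    exact inv_inv x
  have h1 := Equiv.Perm.card_fixedPoints_modEq (f := f) hf
  have h2 : Fintype.card (Function.fixedPoints f)
      = (Finset.univ.filter (fun x : K => x⁻¹ = x)).card := by
    rw [← Fintype.card_subtype]
    rfl
  have h3 : (Finset.univ.filter (fun x : K => x⁻¹ = x))
      = insert 1 (Finset.univ.filter (fun x : K => orderOf x = 2)) := by
    ext x
    simp only [Finset.mem_filter, Finset.mem_univ, true_and, Finset.mem_insert]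
    constructor
    · intro hx
      have hx2 : x ^ 2 = 1 := by
        rw [pow_two]
        nth_rewrite 1 [← hx]
        exact inv_mul_cancel x
      have hd : orderOf x ∣ 2 := orderOf_dvd_of_pow_eq_one hx2
      rcases (Nat.dvd_prime Nat.prime_two).mp hd with h | h
      · left; exact orderOf_eq_one_iff.mp h
      · right; exact h
    · rintro (rfl | hx)
      · exact inv_one
      · have hx2 : x ^ 2 = 1 := by rw [← hx]; exact pow_orderOf_eq_one x
        rw [pow_two] at hx2
        exact inv_eq_of_mul_eq_one_left hx2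
  have h4 : (1 : K) ∉ Finset.univ.filter (fun x : K => orderOf x = 2) := by
    simp
  rw [h2, h3, Finset.card_insert_of_notMem h4, ← Fintype.card_subtype,
    ← Nat.card_eq_fintype_card, ← Nat.card_eq_fintype_card] at h1
  obtain ⟨c, hc⟩ := hK
  rw [hc] at h1
  have h5 := h1.symm
  rw [Nat.ModEq] at h5
  rw [Nat.odd_iff]
  omega

/-- A subgroup fixing a point all of whose nonidentity elements have exactly one fixed point:
the number of points is congruent to one modulo its order. -/
theorem card_modEq_one_of_semiregular {X : Type*} [MulAction G X] [Finite X] (K : Subgroup G)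
    (x₀ : X) (h0 : ∀ u ∈ K, u • x₀ = x₀)
    (h1 : ∀ u ∈ K, u ≠ 1 → Nat.card (fixedBy X u) = 1) :
    Nat.card X ≡ 1 [MOD Nat.card K] := by
  apply card_modEq_one_of_orbits (H := K) (Nat.card K) x₀ (fun u => h0 u.1 u.2)
  intro x hx
  have hstab : stabilizer K x = ⊥ := by
    rw [eq_bot_iff]
    intro u hu
    rw [mem_stabilizer_iff] at hu
    rw [Subgroup.mem_bot]
    by_contra hu1
    have hu1' : (u : G) ≠ 1 := fun h => hu1 (Subtype.ext h)
    have hc := h1 u.1 u.2 hu1'
    have hsub : Subsingleton (fixedBy X (u : G)) :=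
      (Finite.card_le_one_iff_subsingleton).mp hc.le
    have h2 : (⟨x, hu⟩ : fixedBy X (u : G)) = ⟨x₀, h0 u.1 u.2⟩ := Subsingleton.elim _ _
    exact hx (congrArg Subtype.val h2)
  have h2 := index_stabilizer K x
  rw [hstab, Subgroup.index_bot, ← Nat.card_coe_set_eq] at h2
  rw [← h2]

end general

section sylow

variable {G : Type*} [Group G] [Finite G] {p : ℕ} [Fact p.Prime]

/-- An element centralizing a Sylow subgroup `P` of order `p` fixes `1 mod p` cosets
of `N(P)`. -/
theorem card_fixedBy_mod_of_mem_centralizer (P : Sylow p G)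
    (hP : Nat.card (P : Subgroup G) = p) (y : G)
    (hy : y ∈ centralizer ((P : Subgroup G) : Set G)) :
    Nat.card (fixedBy (G ⧸ normalizer ((P : Subgroup G) : Set G)) y) % p = 1 := by
  have hp : p.Prime := Fact.out
  obtain ⟨x, hxP, hx⟩ := exists_mem_orderOf_eq_prime (P : Subgroup G) p (by rw [hP])
  have hc : Commute y x := ((mem_centralizer_iff.mp hy) x hxP).symm
  have hh : x ^ (p ^ 1) = 1 := by rw [pow_one, ← hx]; exact pow_orderOf_eq_one x
  have h1 := card_fixedBy_modEq_of_commute
    (X := G ⧸ normalizer ((P : Subgroup G) : Set G)) y x hc hh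
  have hyN : y ∈ normalizer ((P : Subgroup G) : Set G) :=
    Subgroup.centralizer_le_normalizer _ hy
  have hxN : x ∈ normalizer ((P : Subgroup G) : Set G) := le_normalizer hxP
  have h2 : Nat.card {z : G ⧸ normalizer ((P : Subgroup G) : Set G) // y • z = z ∧ x • z = z}
      = 1 := by
    apply le_antisymm
    · rw [card_common_comm]
      have := card_common_le_left (X := G ⧸ normalizer ((P : Subgroup G) : Set G)) x y
      rwa [card_fixedBy_of_orderOf_eq P hP x hx] at this
    · apply Nat.card_pos_iff.mpr
      refine ⟨⟨⟨((1 : G) : G ⧸ normalizer ((P : Subgroup G) : Set G)), ?_, ?_⟩⟩, inferInstance⟩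
      · rw [coset_fixed_iff]; simpa using hyN
      · rw [coset_fixed_iff]; simpa using hxN
  rw [h2, Nat.ModEq, Nat.mod_eq_of_lt hp.one_lt] at h1
  exact h1

/-- An element of `N(P)` with many fixed points centralizes `P`. -/
theorem mem_centralizer_of_card_fixedBy (P : Sylow p G)
    (hP : Nat.card (P : Subgroup G) = p) (y : G)
    (hyN : y ∈ normalizer ((P : Subgroup G) : Set G))
    (h : (normalizer ((P : Subgroup G) : Set G)).index + (p - 1)
      < Nat.card (fixedBy (G ⧸ normalizer ((P : Subgroup G) : Set G)) y) * p) :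
    y ∈ centralizer ((P : Subgroup G) : Set G) := by
  by_contra hC
  have h1 := card_fixedBy_le_card_orbits P hP y hyN hC
  have h2 := card_orbits_mul P hP
  have h3 : Nat.card (G ⧸ normalizer ((P : Subgroup G) : Set G))
      = (normalizer ((P : Subgroup G) : Set G)).index := rfl
  rw [h3] at h2
  have h4 := Nat.mul_le_mul_right p h1
  omega

/-- Data on the fixed points of an involution centralizing a Sylow subgroup of order `p`. -/
theorem involution_fix_data [IsSimpleGroup G] (hG : ¬ IsMulCommutative G) (P : Sylow p G)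
    (hP : Nat.card (P : Subgroup G) = p) (t : G) (ht : orderOf t = 2)
    (htC : t ∈ centralizer ((P : Subgroup G) : Set G)) :
    ∃ k : ℕ, Nat.card (fixedBy (G ⧸ normalizer ((P : Subgroup G) : Set G)) t) % p = 1 ∧
      (normalizer ((P : Subgroup G) : Set G)).index
        = Nat.card (fixedBy (G ⧸ normalizer ((P : Subgroup G) : Set G)) t) + 4 * k ∧
      Nat.card (fixedBy (G ⧸ normalizer ((P : Subgroup G) : Set G)) t)
        < (normalizer ((P : Subgroup G) : Set G)).index := by
  have hpd : p ∣ Nat.card G := by
    rw [← hP]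
    exact (P : Subgroup G).card_subgroup_dvd_card
  have ht2 : t ^ 2 = 1 := by rw [← ht]; exact pow_orderOf_eq_one t
  have ht1 : t ≠ 1 := by
    rintro rfl
    rw [orderOf_one] at ht
    omega
  obtain ⟨k, hk⟩ := involution_moved hG
    (X := G ⧸ normalizer ((P : Subgroup G) : Set G)) t ht2
  exact ⟨k, card_fixedBy_mod_of_mem_centralizer P hP t htC, hk,
    card_fixedBy_lt_index _ (normalizer_sylow_ne_top hG hpd P) t ht1⟩

/-- Counting involutions of `C(P)`: if `C(P)` has even order and all its involutions have the
same number `f` of fixed points, large enough to force centralizing, then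
`f * m = |G : N(P)| * i` with `i` odd. -/
theorem involution_count (P : Sylow p G) (hP : Nat.card (P : Subgroup G) = p) (f : ℕ)
    (hC : Even (Nat.card (centralizer ((P : Subgroup G) : Set G))))
    (hf : ∀ t ∈ centralizer ((P : Subgroup G) : Set G), orderOf t = 2 →
      Nat.card (fixedBy (G ⧸ normalizer ((P : Subgroup G) : Set G)) t) = f)
    (hlt : (normalizer ((P : Subgroup G) : Set G)).index + (p - 1) < f * p) :
    ∃ i m : ℕ, Odd i ∧ f * m = (normalizer ((P : Subgroup G) : Set G)).index * i := by
  classical
  have : Fintype G := Fintype.ofFinite G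
  set C := centralizer ((P : Subgroup G) : Set G) with hCdef
  set N := normalizer ((P : Subgroup G) : Set G) with hNdef
  have hCN : C ≤ N := Subgroup.centralizer_le_normalizer _
  have : Fintype {x : C // orderOf x = 2} := Fintype.ofFinite _
  let φ : {x : C // orderOf x = 2} × G → G := fun a => a.2 * (a.1.1 : G) * a.2⁻¹
  have hsum := Finset.card_eq_sum_card_image φ Finset.univ
  have hfib : ∀ b ∈ Finset.univ.image φ,
      (Finset.univ.filter (fun a => φ a = b)).card = Nat.card N * f := by
    intro b hb
    obtain ⟨⟨⟨⟨t₀, ht₀C⟩, ht₀⟩, g₀⟩, -, hb⟩ := Finset.mem_image.mp hb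
    have ht₀' : orderOf t₀ = 2 := by rw [← ht₀, Subgroup.orderOf_mk]
    have hb' : b = g₀ * t₀ * g₀⁻¹ := hb.symm
    have hbfix : Nat.card (fixedBy (G ⧸ N) b) = f := by
      rw [← hf t₀ ht₀C ht₀']
      have := card_fixedBy_conj (X := G ⧸ N) g₀⁻¹ t₀
      rw [inv_inv] at this
      rw [hb']
      exact this
    have hbo : orderOf b = 2 := by
      rw [hb', Classes.orderOf_conj_eq, ht₀']
    have hmemC : ∀ g : G, g⁻¹ * b * g ∈ N → g⁻¹ * b * g ∈ C := by
      intro g hg
      apply mem_centralizer_of_card_fixedBy P hP _ hg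
      rw [card_fixedBy_conj, hbfix]
      exact hlt
    have hord : ∀ g : G, orderOf (g⁻¹ * b * g) = 2 := by
      intro g
      have := Classes.orderOf_conj_eq g⁻¹ b
      rw [inv_inv] at this
      rw [this, hbo]
    rw [← Fintype.card_subtype, ← Nat.card_eq_fintype_card, ← hbfix, ← card_conj_mem N b]
    apply Nat.card_congr
    exact
      { toFun := fun a => ⟨a.1.2, by
          have ha : a.1.2 * (a.1.1.1 : G) * a.1.2⁻¹ = b := a.2
          rw [conj_aux _ _ _ ha]
          exact hCN a.1.1.1.2⟩
        invFun := fun g => ⟨(⟨⟨g.1⁻¹ * b * g.1, hmemC g.1 g.2⟩, by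
            rw [← Subgroup.orderOf_coe]; exact hord g.1⟩, g.1), by
          show g.1 * (g.1⁻¹ * b * g.1) * g.1⁻¹ = b
          group⟩
        left_inv := fun a => by
          have ha : a.1.2 * (a.1.1.1 : G) * a.1.2⁻¹ = b := a.2
          apply Subtype.ext
          apply Prod.ext
          · apply Subtype.ext
            apply Subtype.ext
            exact conj_aux _ _ _ ha
          · rfl
        right_inv := fun g => rfl }
  rw [Finset.sum_congr rfl hfib, Finset.sum_const, smul_eq_mul, Finset.card_univ,
    Fintype.card_prod, ← Nat.card_eq_fintype_card, ← Nat.card_eq_fintype_card] at hsum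
  have hodd := odd_card_involutions C hC
  have hNi := N.card_mul_index
  refine ⟨Nat.card {x : C // orderOf x = 2}, (Finset.univ.image φ).card, hodd, ?_⟩
  have hNpos : 0 < Nat.card N := Nat.card_pos
  apply Nat.eq_of_mul_eq_mul_left hNpos
  calc Nat.card N * (f * (Finset.univ.image φ).card)
      = (Finset.univ.image φ).card * (Nat.card N * f) := by ring
    _ = Nat.card {x : C // orderOf x = 2} * Nat.card G := hsum.symm
    _ = Nat.card {x : C // orderOf x = 2} * (Nat.card N * N.index) := by rw [hNi]
    _ = Nat.card N * (N.index * Nat.card {x : C // orderOf x = 2}) := by ring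

/-- A subgroup of order `q ^ n` inside a subgroup `H` whose order is divisible by `q ^ n`. -/
theorem exists_subgroup_le_card_pow_prime (H : Subgroup G) (q n : ℕ) [Fact q.Prime]
    (h : q ^ n ∣ Nat.card H) : ∃ K : Subgroup G, K ≤ H ∧ Nat.card K = q ^ n := by
  obtain ⟨K', hK'⟩ := Sylow.exists_subgroup_card_pow_prime q h
  refine ⟨K'.map H.subtype, Subgroup.map_subtype_le K', ?_⟩
  rw [Subgroup.card_map_of_injective (Subgroup.subtype_injective H), hK']

/-- A subgroup of `C(P)` all of whose nonidentity elements fix exactly one coset of `N(P)`: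
the index of `N(P)` is congruent to one modulo its order. -/
theorem index_modEq_one_of_cent_subgroup (P : Sylow p G) (K : Subgroup G)
    (hK : K ≤ centralizer ((P : Subgroup G) : Set G))
    (h1 : ∀ u ∈ K, u ≠ 1 →
      Nat.card (fixedBy (G ⧸ normalizer ((P : Subgroup G) : Set G)) u) = 1) :
    (normalizer ((P : Subgroup G) : Set G)).index ≡ 1 [MOD Nat.card K] := by
  apply card_modEq_one_of_semiregular (X := G ⧸ normalizer ((P : Subgroup G) : Set G)) K
    ((1 : G) : G ⧸ normalizer ((P : Subgroup G) : Set G)) _ h1
  intro u hu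
  rw [coset_fixed_iff]
  simpa using Subgroup.centralizer_le_normalizer _ (hK hu)

end sylow

end Cfsg.Agent.Lib.Helper17.CentFix
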