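import Mathlib
import Cfsg.Agent.Lib.Helper17.ExcMain

/-!
Consequences of the exceptional character theorem for `|N(P) : P| = 2` and `3`.
-/

set_option autoImplicit false

namespace Cfsg.Agent.Lib.Helper17.ExcCor

open Cfsg Subgroup
open Cfsg.Agent.Lib.CT.Orth Cfsg.Agent.Lib.CT.Wedderburn
open Cfsg.Agent.Lib.Helper17.ExcOrb Cfsg.Agent.Lib.Helper17.ExcMain
open scoped ComplexConjugate

universe u

theorem forall_zero_of_sq_sum {I : Type*} (s : Finset I) (M : I → ℤ)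
    (h : ∑ ψ ∈ s, M ψ ^ 2 = 0) : ∀ ψ ∈ s, M ψ = 0 := by
  intro ψ hψ
  have h1 := (Finset.sum_eq_zero_iff_of_nonneg (fun ψ _ => sq_nonneg (M ψ))).mp h ψ hψ
  exact (pow_eq_zero_iff (by norm_num : (2 : ℕ) ≠ 0)).mp h1

theorem exists_ne_zero_of_sq_sum {I : Type*} (s : Finset I) (M : I → ℤ)
    (h : ∑ ψ ∈ s, M ψ ^ 2 ≠ 0) : ∃ χ ∈ s, M χ ≠ 0 := by
  by_contra hcon
  push Not at hcon
  apply h
  apply Finset.sum_eq_zero
  intro ψ hψ
  rw [hcon ψ hψ]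
  norm_num

theorem sum_three {I : Type*} [Fintype I] [DecidableEq I] (T χ₁ χ₂ : I) (h1 : χ₁ ≠ T)
    (h2 : χ₂ ≠ T) (h12 : χ₂ ≠ χ₁) (f : I → ℂ)
    (h : ∀ ψ, ψ ≠ T → ψ ≠ χ₁ → ψ ≠ χ₂ → f ψ = 0) : ∑ ψ, f ψ = f T + f χ₁ + f χ₂ := by
  rw [← Finset.add_sum_erase Finset.univ f (Finset.mem_univ T),
    ← Finset.add_sum_erase (Finset.univ.erase T) f
      (Finset.mem_erase.mpr ⟨h1, Finset.mem_univ _⟩),
    ← Finset.add_sum_erase ((Finset.univ.erase T).erase χ₁) f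
      (Finset.mem_erase.mpr ⟨h12, Finset.mem_erase.mpr ⟨h2, Finset.mem_univ _⟩⟩),
    Finset.sum_eq_zero (s := ((Finset.univ.erase T).erase χ₁).erase χ₂)]
  · ring
  · intro ψ hψ
    have h3 := Finset.mem_erase.mp hψ
    have h4 := Finset.mem_erase.mp h3.2
    have h5 := Finset.mem_erase.mp h4.2
    exact h ψ h5.1 h4.1 h3.1

theorem sum_two {I : Type*} [Fintype I] [DecidableEq I] (T χ : I) (h1 : χ ≠ T) (f : I → ℂ)
    (h : ∀ ψ, ψ ≠ T → ψ ≠ χ → f ψ = 0) : ∑ ψ, f ψ = f T + f χ := by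
  rw [← Finset.add_sum_erase Finset.univ f (Finset.mem_univ T),
    ← Finset.add_sum_erase (Finset.univ.erase T) f
      (Finset.mem_erase.mpr ⟨h1, Finset.mem_univ _⟩),
    Finset.sum_eq_zero (s := (Finset.univ.erase T).erase χ)]
  · ring
  · intro ψ hψ
    have h3 := Finset.mem_erase.mp hψ
    have h4 := Finset.mem_erase.mp h3.2
    exact h ψ h4.1 h3.1

theorem exists_mem_ne_one {G : Type u} [Group G] [Finite G] (P : Subgroup G) {p : ℕ}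
    (hp : p.Prime) (hP : Nat.card P = p) : ∃ y : G, y ∈ P ∧ y ≠ 1 := by
  haveI : Nontrivial P := (Finite.one_lt_card_iff_nontrivial).mp (by rw [hP]; exact hp.one_lt)
  obtain ⟨y, hy⟩ := exists_ne (1 : P)
  exact ⟨y, y.2, fun h => hy (Subtype.ext h)⟩

theorem deg_eq {G : Type u} [Group G] (ψ : IrrCharacter G) :
    (ψ : G → ℂ) 1 = (charDegree (ψ : G → ℂ) : ℂ) :=
  Cfsg.Agent.Lib.Helper80.Integrality.apply_one_eq_charDegree (isCharacter_of_irr ψ.2)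

/-- Self-centralizing `P` of prime order `p ≥ 7` with `|N(P)| = 2p`: there are a nontrivial
irreducible character `χ` with a sign `δ` and exceptional characters `θ i` with a sign `ε`
such that the only irreducible characters not vanishing on `P ∖ 1` are `1`, `χ`, `θ i`. -/
theorem exceptional_two {G : Type u} [Group G] [Fintype G] [Fintype (IrrCharacter G)]
    (P : Subgroup G) {p : ℕ} (hp : p.Prime) (hP : Nat.card P = p)
    (hC : centralizer (P : Set G) ≤ P) (hN : Nat.card (normalizer (P : Set G)) = p * 2)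
    (hp7 : 7 ≤ p) :
    ∃ (n : ℕ) (ε δ : ℤ) (θ : Fin n → IrrCharacter G) (χ : IrrCharacter G) (i₀ : Fin n),
      (ε = 1 ∨ ε = -1) ∧ (δ = 1 ∨ δ = -1) ∧ χ ≠ trivIrr G ∧ (∀ i, θ i ≠ χ) ∧
      (∀ i, θ i ≠ trivIrr G) ∧
      (∃ a : ℤ, (charDegree (χ : G → ℂ) : ℤ) = δ + p * a) ∧
      (1 : ℤ) + δ * charDegree (χ : G → ℂ) = ε * charDegree ((θ i₀ : IrrCharacter G) : G → ℂ) ∧
      (∀ i j, ∀ g : G, (∀ u : G, u⁻¹ * g * u ∉ P) → (θ i : G → ℂ) g = (θ j : G → ℂ) g) ∧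
      (∀ i j, (θ i : G → ℂ) 1 = (θ j : G → ℂ) 1) ∧
      ∀ y : G, y ∈ P → y ≠ 1 → ∀ A : IrrCharacter G → ℂ, (∀ i j, A (θ i) = A (θ j)) →
        ∑ ψ, A ψ * conj ((ψ : G → ℂ) y)
          = A (trivIrr G) + (δ : ℂ) * A χ - (ε : ℂ) * A (θ i₀) := by
  classical
  obtain ⟨n, ε, b, θ, M, i₀, hn, hε, hθinj, hMT, hθT, hMexc, hsq, hdeg, hval, hθvan, hθone,
    hform⟩ := exceptional P hp hP hC hN (by omega)
  have hn3 : (3 : ℤ) ≤ n := by
    have : 3 ≤ n := by omega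
    exact_mod_cast this
  have hε2 : ε * ε = 1 := by rcases hε with h | h <;> rw [h] <;> norm_num
  obtain ⟨y, hyP, hy1⟩ := exists_mem_ne_one P hp hP
  have horth : ∑ ψ : IrrCharacter G, (ψ : G → ℂ) 1 * conj ((ψ : G → ℂ) y) = 0 :=
    second_orthogonality_sum_of_not_isConj (1 : G) y
      (fun hc => hy1 (isConj_one_left.mp hc.symm))
  have hsplit : ∑ ψ, M ψ ^ 2 = 1 + ∑ ψ ∈ Finset.univ.erase (trivIrr G), M ψ ^ 2 := by
    rw [← Finset.add_sum_erase Finset.univ _ (Finset.mem_univ (trivIrr G)), hMT]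
    norm_num
  have hrest : 0 ≤ ∑ ψ ∈ Finset.univ.erase (trivIrr G), M ψ ^ 2 :=
    Finset.sum_nonneg (fun ψ _ => sq_nonneg _)
  rw [hsplit] at hsq
  obtain ⟨c, hc⟩ : ∃ c : ℤ, c = ε * b := ⟨_, rfl⟩
  have hbc : b = ε * c := by rw [hc, ← mul_assoc, hε2, one_mul]
  have hc2 : b ^ 2 = c ^ 2 := by
    rw [hbc, mul_pow, pow_two ε, hε2, one_mul]
  have hsq' : 1 + ∑ ψ ∈ Finset.univ.erase (trivIrr G), M ψ ^ 2 + (n : ℤ) * c ^ 2
      = 2 + 2 * c := by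
    rw [← hc2, hc]
    push_cast at hsq
    linarith
  have h3c : 3 * c ^ 2 ≤ (n : ℤ) * c ^ 2 := by nlinarith [sq_nonneg c]
  have hc1 : c ≤ 1 := by
    by_contra h
    push Not at h
    nlinarith
  have hc0 : 0 ≤ c := by
    by_contra h
    push Not at h
    nlinarith
  have hθdeg : ∀ i j, (fun ψ : IrrCharacter G => (ψ : G → ℂ) 1) (θ i)
      = (fun ψ : IrrCharacter G => (ψ : G → ℂ) 1) (θ j) := fun i j => hθone i j
  have hcases : c = 0 ∨ c = 1 := by omega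
  rcases hcases with hc' | hc'
  · -- main case
    have hb0 : b = 0 := by rw [hbc, hc', mul_zero]
    rw [hc'] at hsq'
    have hrest1 : ∑ ψ ∈ Finset.univ.erase (trivIrr G), M ψ ^ 2 = 1 := by linarith
    obtain ⟨χ, hχmem, hχ0⟩ := exists_ne_zero_of_sq_sum _ M (by rw [hrest1]; norm_num)
    have hχT : χ ≠ trivIrr G := (Finset.mem_erase.mp hχmem).1
    rw [← Finset.add_sum_erase _ _ hχmem] at hrest1
    have hrest2 : 0 ≤ ∑ ψ ∈ (Finset.univ.erase (trivIrr G)).erase χ, M ψ ^ 2 :=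
      Finset.sum_nonneg (fun ψ _ => sq_nonneg _)
    have hχsq : M χ ^ 2 = 1 := by
      have h1 : 1 ≤ M χ ^ 2 := by
        have h2 : 0 < M χ ^ 2 := by positivity
        linarith
      linarith
    have hδ : M χ = 1 ∨ M χ = -1 := by
      have h1 : (M χ - 1) * (M χ + 1) = 0 := by linear_combination hχsq
      rcases mul_eq_zero.mp h1 with h | h
      · left; linarith
      · right; linarith
    have hzero : ∀ ψ, ψ ≠ trivIrr G → ψ ≠ χ → M ψ = 0 := by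
      intro ψ h1 h2
      apply forall_zero_of_sq_sum ((Finset.univ.erase (trivIrr G)).erase χ) M (by linarith)
      exact Finset.mem_erase.mpr ⟨h2, Finset.mem_erase.mpr ⟨h1, Finset.mem_univ _⟩⟩
    have hθχ : ∀ i, θ i ≠ χ := by
      intro i h
      apply hχ0
      rw [← h, hMexc]
    have hformula : ∀ y : G, y ∈ P → y ≠ 1 → ∀ A : IrrCharacter G → ℂ,
        (∀ i j, A (θ i) = A (θ j)) →
        ∑ ψ, A ψ * conj ((ψ : G → ℂ) y)
          = A (trivIrr G) + (M χ : ℂ) * A χ - (ε : ℂ) * A (θ i₀) := by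
      intro y hy hy1 A hA
      rw [hform y hy hy1 A hA, sum_two (trivIrr G) χ hχT (fun ψ => A ψ * (M ψ : ℂ))
        (fun ψ h1 h2 => by rw [hzero ψ h1 h2]; simp), hMT, hb0]
      push_cast
      ring
    refine ⟨n, ε, M χ, θ, χ, i₀, hε, hδ, hχT, hθχ, hθT, hdeg χ hθχ, ?_, hθvan, hθone,
      hformula⟩
    have h1 := hformula y hyP hy1 (fun ψ => (ψ : G → ℂ) 1) hθdeg
    rw [horth, trivIrr_apply, deg_eq χ, deg_eq (θ i₀)] at h1
    have h2 : ((1 + M χ * (charDegree (χ : G → ℂ) : ℤ) : ℤ) : ℂ)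
        = ((ε * (charDegree ((θ i₀ : IrrCharacter G) : G → ℂ) : ℤ) : ℤ) : ℂ) := by
      push_cast
      linear_combination -h1
    exact_mod_cast h2
  · -- impossible case
    exfalso
    have hbε : b = ε := by rw [hbc, hc', mul_one]
    rw [hc'] at hsq'
    have hn3' : (n : ℤ) = 3 := by nlinarith
    have hrest0 : ∑ ψ ∈ Finset.univ.erase (trivIrr G), M ψ ^ 2 = 0 := by nlinarith
    have hzero : ∀ ψ, ψ ≠ trivIrr G → M ψ = 0 := by
      intro ψ h1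
      exact forall_zero_of_sq_sum _ M hrest0 ψ (Finset.mem_erase.mpr ⟨h1, Finset.mem_univ _⟩)
    have h1 := hform y hyP hy1 (fun ψ => (ψ : G → ℂ) 1) hθdeg
    rw [horth, Finset.sum_eq_single (trivIrr G)
      (fun ψ _ hψ => by rw [hzero ψ hψ]; simp) (fun h => absurd (Finset.mem_univ _) h),
      hMT, trivIrr_apply, deg_eq (θ i₀), hbε] at h1
    have hn3c : (n : ℂ) = 3 := by exact_mod_cast hn3'
    rw [hn3c] at h1
    have h2 : ((1 + 2 * ε * (charDegree ((θ i₀ : IrrCharacter G) : G → ℂ) : ℤ) : ℤ) : ℂ)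
        = ((0 : ℤ) : ℂ) := by
      push_cast
      linear_combination -h1
    have h3 : 1 + 2 * ε * (charDegree ((θ i₀ : IrrCharacter G) : G → ℂ) : ℤ) = 0 := by
      exact_mod_cast h2
    rcases hε with h | h <;> rw [h] at h3 <;> omega

/-- Self-centralizing `P` of prime order `p ≥ 16` with `|N(P)| = 3p`: there are two distinct
nontrivial irreducible characters `χ₁`, `χ₂` with signs `δ₁`, `δ₂` and exceptional characters
`θ i` with a sign `ε` such that the only irreducible characters not vanishing on `P ∖ 1` are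
`1`, `χ₁`, `χ₂`, `θ i`. -/
theorem exceptional_three {G : Type u} [Group G] [Fintype G] [Fintype (IrrCharacter G)]
    (P : Subgroup G) {p : ℕ} (hp : p.Prime) (hP : Nat.card P = p)
    (hC : centralizer (P : Set G) ≤ P) (hN : Nat.card (normalizer (P : Set G)) = p * 3)
    (hp16 : 16 ≤ p) :
    ∃ (n : ℕ) (ε δ₁ δ₂ : ℤ) (θ : Fin n → IrrCharacter G) (χ₁ χ₂ : IrrCharacter G) (i₀ : Fin n),
      (ε = 1 ∨ ε = -1) ∧ (δ₁ = 1 ∨ δ₁ = -1) ∧ (δ₂ = 1 ∨ δ₂ = -1) ∧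
      χ₁ ≠ trivIrr G ∧ χ₂ ≠ trivIrr G ∧ χ₂ ≠ χ₁ ∧ (∀ i, θ i ≠ χ₁) ∧ (∀ i, θ i ≠ χ₂) ∧
      (∀ i, θ i ≠ trivIrr G) ∧
      (∃ a : ℤ, (charDegree (χ₁ : G → ℂ) : ℤ) = δ₁ + p * a) ∧
      (∃ a : ℤ, (charDegree (χ₂ : G → ℂ) : ℤ) = δ₂ + p * a) ∧
      (1 : ℤ) + δ₁ * charDegree (χ₁ : G → ℂ) + δ₂ * charDegree (χ₂ : G → ℂ)
        = ε * charDegree ((θ i₀ : IrrCharacter G) : G → ℂ) ∧
      (∀ i j, ∀ g : G, (∀ u : G, u⁻¹ * g * u ∉ P) → (θ i : G → ℂ) g = (θ j : G → ℂ) g) ∧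
      (∀ i j, (θ i : G → ℂ) 1 = (θ j : G → ℂ) 1) ∧
      ∀ y : G, y ∈ P → y ≠ 1 → ∀ A : IrrCharacter G → ℂ, (∀ i j, A (θ i) = A (θ j)) →
        ∑ ψ, A ψ * conj ((ψ : G → ℂ) y)
          = A (trivIrr G) + (δ₁ : ℂ) * A χ₁ + (δ₂ : ℂ) * A χ₂ - (ε : ℂ) * A (θ i₀) := by
  classical
  obtain ⟨n, ε, b, θ, M, i₀, hn, hε, hθinj, hMT, hθT, hMexc, hsq, hdeg, hval, hθvan, hθone,
    hform⟩ := exceptional P hp hP hC hN (by omega)
  have hn5 : (5 : ℤ) ≤ n := by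
    have : 5 ≤ n := by omega
    exact_mod_cast this
  have hε2 : ε * ε = 1 := by rcases hε with h | h <;> rw [h] <;> norm_num
  obtain ⟨y, hyP, hy1⟩ := exists_mem_ne_one P hp hP
  have horth : ∑ ψ : IrrCharacter G, (ψ : G → ℂ) 1 * conj ((ψ : G → ℂ) y) = 0 :=
    second_orthogonality_sum_of_not_isConj (1 : G) y
      (fun hc => hy1 (isConj_one_left.mp hc.symm))
  have hsplit : ∑ ψ, M ψ ^ 2 = 1 + ∑ ψ ∈ Finset.univ.erase (trivIrr G), M ψ ^ 2 := by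
    rw [← Finset.add_sum_erase Finset.univ _ (Finset.mem_univ (trivIrr G)), hMT]
    norm_num
  have hrest : 0 ≤ ∑ ψ ∈ Finset.univ.erase (trivIrr G), M ψ ^ 2 :=
    Finset.sum_nonneg (fun ψ _ => sq_nonneg _)
  rw [hsplit] at hsq
  obtain ⟨c, hc⟩ : ∃ c : ℤ, c = ε * b := ⟨_, rfl⟩
  have hbc : b = ε * c := by rw [hc, ← mul_assoc, hε2, one_mul]
  have hc2 : b ^ 2 = c ^ 2 := by
    rw [hbc, mul_pow, pow_two ε, hε2, one_mul]
  have hsq' : 1 + ∑ ψ ∈ Finset.univ.erase (trivIrr G), M ψ ^ 2 + (n : ℤ) * c ^ 2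
      = 3 + 2 * c := by
    rw [← hc2, hc]
    push_cast at hsq
    linarith
  have h5c : 5 * c ^ 2 ≤ (n : ℤ) * c ^ 2 := by nlinarith [sq_nonneg c]
  have hc1 : c ≤ 0 := by
    by_contra h
    push Not at h
    nlinarith
  have hc0 : 0 ≤ c := by
    by_contra h
    push Not at h
    nlinarith
  have hθdeg : ∀ i j, (fun ψ : IrrCharacter G => (ψ : G → ℂ) 1) (θ i)
      = (fun ψ : IrrCharacter G => (ψ : G → ℂ) 1) (θ j) := fun i j => hθone i j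
  have hc' : c = 0 := by omega
  have hb0 : b = 0 := by rw [hbc, hc', mul_zero]
  rw [hc'] at hsq'
  have hrest1 : ∑ ψ ∈ Finset.univ.erase (trivIrr G), M ψ ^ 2 = 2 := by linarith
  obtain ⟨χ₁, hχmem, hχ0⟩ := exists_ne_zero_of_sq_sum _ M (by rw [hrest1]; norm_num)
  have hχT : χ₁ ≠ trivIrr G := (Finset.mem_erase.mp hχmem).1
  rw [← Finset.add_sum_erase _ _ hχmem] at hrest1
  have hrest2 : 0 ≤ ∑ ψ ∈ (Finset.univ.erase (trivIrr G)).erase χ₁, M ψ ^ 2 :=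
    Finset.sum_nonneg (fun ψ _ => sq_nonneg _)
  have hχsq : M χ₁ ^ 2 = 1 := by
    have h1 : 1 ≤ M χ₁ ^ 2 := by
      have h2 : 0 < M χ₁ ^ 2 := by positivity
      linarith
    have h2 : M χ₁ ^ 2 ≤ 2 := by linarith
    have h3 : M χ₁ ≤ 1 := by
      by_contra h
      push Not at h
      nlinarith
    have h4 : -1 ≤ M χ₁ := by
      by_contra h
      push Not at h
      nlinarith
    have h5 : M χ₁ = 1 ∨ M χ₁ = -1 := by omega
    rcases h5 with h | h <;> rw [h] <;> norm_num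
  have hδ : M χ₁ = 1 ∨ M χ₁ = -1 := by
    have h1 : (M χ₁ - 1) * (M χ₁ + 1) = 0 := by linear_combination hχsq
    rcases mul_eq_zero.mp h1 with h | h
    · left; linarith
    · right; linarith
  have hrest3 : ∑ ψ ∈ (Finset.univ.erase (trivIrr G)).erase χ₁, M ψ ^ 2 = 1 := by linarith
  obtain ⟨χ₂, hχmem₂, hχ0₂⟩ := exists_ne_zero_of_sq_sum _ M (by rw [hrest3]; norm_num)
  have hχ₂₁ : χ₂ ≠ χ₁ := (Finset.mem_erase.mp hχmem₂).1
  have hχT₂ : χ₂ ≠ trivIrr G := (Finset.mem_erase.mp (Finset.mem_erase.mp hχmem₂).2).1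
  rw [← Finset.add_sum_erase _ _ hχmem₂] at hrest3
  have hrest4 : 0 ≤ ∑ ψ ∈ ((Finset.univ.erase (trivIrr G)).erase χ₁).erase χ₂, M ψ ^ 2 :=
    Finset.sum_nonneg (fun ψ _ => sq_nonneg _)
  have hχsq₂ : M χ₂ ^ 2 = 1 := by
    have h1 : 1 ≤ M χ₂ ^ 2 := by
      have h2 : 0 < M χ₂ ^ 2 := by positivity
      linarith
    linarith
  have hδ₂ : M χ₂ = 1 ∨ M χ₂ = -1 := by
    have h1 : (M χ₂ - 1) * (M χ₂ + 1) = 0 := by linear_combination hχsq₂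
    rcases mul_eq_zero.mp h1 with h | h
    · left; linarith
    · right; linarith
  have hzero : ∀ ψ, ψ ≠ trivIrr G → ψ ≠ χ₁ → ψ ≠ χ₂ → M ψ = 0 := by
    intro ψ h1 h2 h3
    apply forall_zero_of_sq_sum (((Finset.univ.erase (trivIrr G)).erase χ₁).erase χ₂) M
      (by linarith)
    exact Finset.mem_erase.mpr ⟨h3, Finset.mem_erase.mpr ⟨h2,
      Finset.mem_erase.mpr ⟨h1, Finset.mem_univ _⟩⟩⟩
  have hθχ : ∀ i, θ i ≠ χ₁ := by
    intro i h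
    apply hχ0
    rw [← h, hMexc]
  have hθχ₂ : ∀ i, θ i ≠ χ₂ := by
    intro i h
    apply hχ0₂
    rw [← h, hMexc]
  have hformula : ∀ y : G, y ∈ P → y ≠ 1 → ∀ A : IrrCharacter G → ℂ,
      (∀ i j, A (θ i) = A (θ j)) →
      ∑ ψ, A ψ * conj ((ψ : G → ℂ) y)
        = A (trivIrr G) + (M χ₁ : ℂ) * A χ₁ + (M χ₂ : ℂ) * A χ₂ - (ε : ℂ) * A (θ i₀) := by
    intro y hy hy1 A hA
    rw [hform y hy hy1 A hA, sum_three (trivIrr G) χ₁ χ₂ hχT hχT₂ hχ₂₁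
      (fun ψ => A ψ * (M ψ : ℂ))
      (fun ψ h1 h2 h3 => by rw [hzero ψ h1 h2 h3]; simp), hMT, hb0]
    push_cast
    ring
  refine ⟨n, ε, M χ₁, M χ₂, θ, χ₁, χ₂, i₀, hε, hδ, hδ₂, hχT, hχT₂, hχ₂₁, hθχ, hθχ₂, hθT,
    hdeg χ₁ hθχ, hdeg χ₂ hθχ₂, ?_, hθvan, hθone, hformula⟩
  have h1 := hformula y hyP hy1 (fun ψ => (ψ : G → ℂ) 1) hθdeg
  rw [horth, trivIrr_apply, deg_eq χ₁, deg_eq χ₂, deg_eq (θ i₀)] at h1
  have h2 : ((1 + M χ₁ * (charDegree (χ₁ : G → ℂ) : ℤ)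
      + M χ₂ * (charDegree (χ₂ : G → ℂ) : ℤ) : ℤ) : ℂ)
      = ((ε * (charDegree ((θ i₀ : IrrCharacter G) : G → ℂ) : ℤ) : ℤ) : ℂ) := by
    push_cast
    linear_combination -h1
  exact_mod_cast h2

end Cfsg.Agent.Lib.Helper17.ExcCor
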