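import Mathlib
import Cfsg.Agent.Lib.Helper17.ExcCor
import Cfsg.Agent.Lib.Helper17.Sylow2
import Cfsg.Agent.S0154

/-!
Exceptional characters in simple groups: degree equations for a Sylow subgroup of prime
order `p` which is self-centralizing with `|N(P) : P| ∈ {2, 3}`.
-/

set_option autoImplicit false
set_option linter.style.haveILetI false

namespace Cfsg.Agent.Lib.Helper17.ExcSimple

open Cfsg Subgroup
open Cfsg.Agent.Lib.CT.Orth Cfsg.Agent.Lib.CT.Wedderburn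
open Cfsg.Agent.Lib.Helper17.ExcOrb Cfsg.Agent.Lib.Helper17.ExcMain
open Cfsg.Agent.Lib.Helper17.ExcCor
open scoped ComplexConjugate

universe u

theorem commutator_eq_top {G : Type u} [Group G] [IsSimpleGroup G]
    (hG : ¬ IsMulCommutative G) : _root_.commutator G = ⊤ := by
  rcases (inferInstance : (_root_.commutator G).Normal).eq_bot_or_eq_top with h | h
  · exact absurd ((_root_.commutator_eq_bot_iff G).mp h) hG
  · exact h

/-- In a perfect group the only linear character is the trivial one. -/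
theorem charDegree_ne_one {G : Type u} [Group G] [Finite G] [IsSimpleGroup G]
    (hG : ¬ IsMulCommutative G) (χ : IrrCharacter G) (hχ : χ ≠ trivIrr G) :
    charDegree (χ : G → ℂ) ≠ 1 := by
  intro h
  have h1 := Cfsg.Agent.S0154.result (G := G)
  rw [commutator_eq_top hG, index_top] at h1
  have hsub : Subsingleton {χ : Cfsg.IrrCharacter G // (χ : G → ℂ) 1 = 1} :=
    (Nat.card_eq_one_iff_unique.mp h1).1
  have e1 : (χ : G → ℂ) 1 = 1 := by rw [deg_eq, h]; norm_num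
  have e2 : ((trivIrr G : IrrCharacter G) : G → ℂ) 1 = 1 := trivIrr_apply G 1
  have := hsub.elim ⟨χ, e1⟩ ⟨trivIrr G, e2⟩
  exact hχ (congrArg Subtype.val this)

theorem centralizer_le_of_card {G : Type u} [Group G] [Finite G] (P : Subgroup G) {p : ℕ}
    (hp : p.Prime) (hP : Nat.card P = p) (hC : Nat.card (centralizer (P : Set G)) = p) :
    centralizer (P : Set G) ≤ P := by
  have hle : P ≤ centralizer (P : Set G) := by
    intro x hx
    rw [mem_centralizer_iff]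
    intro y hy
    exact congrArg Subtype.val (comm_of_card_prime P hp hP ⟨y, hy⟩ ⟨x, hx⟩)
  have := Subgroup.eq_of_le_of_card_ge hle (by rw [hC, hP])
  rw [← this]

/-- Degree equation for `|N(P) : P| = 2` in a simple group. -/
theorem degrees_two {G : Type u} [Group G] [Finite G] [IsSimpleGroup G]
    (hG : ¬ IsMulCommutative G) (P : Subgroup G) {p : ℕ} (hp : p.Prime) (hP : Nat.card P = p)
    (hC : Nat.card (centralizer (P : Set G)) = p)
    (hN : Nat.card (normalizer (P : Set G)) = p * 2) (hp7 : 7 ≤ p) :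
    ∃ D d : ℕ, D ∣ Nat.card G ∧ d ∣ Nat.card G ∧ D ≠ 1 ∧
      ((D % p = 1 ∧ d = D + 1) ∨ (D % p = p - 1 ∧ D = d + 1)) := by
  classical
  haveI : Fintype G := Fintype.ofFinite G
  have : Finite (IrrCharacter G) := finite_irrCharacter G
  haveI : Fintype (IrrCharacter G) := Fintype.ofFinite _
  obtain ⟨n, ε, δ, θ, χ, i₀, hε, hδ, hχT, -, -, ⟨a, ha⟩, heq, -, -, -⟩ :=
    exceptional_two P hp hP (centralizer_le_of_card P hp hP hC) hN hp7
  have hD1 := charDegree_ne_one hG χ hχT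
  have hDpos : 0 < charDegree (χ : G → ℂ) := irr_charDegree_pos χ.2
  have hdpos : 0 < charDegree ((θ i₀ : IrrCharacter G) : G → ℂ) := irr_charDegree_pos (θ i₀).2
  refine ⟨charDegree (χ : G → ℂ), charDegree ((θ i₀ : IrrCharacter G) : G → ℂ),
    Cfsg.Agent.Lib.Helper80.Integrality.charDegree_dvd_card χ,
    Cfsg.Agent.Lib.Helper80.Integrality.charDegree_dvd_card (θ i₀), hD1, ?_⟩
  have hp0 : 0 < p := hp.pos
  rcases hδ with rfl | rfl <;> rcases hε with rfl | rfl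
  · left
    refine ⟨?_, by omega⟩
    have h1 : ((charDegree (χ : G → ℂ) : ℤ)) % (p : ℤ) = 1 % (p : ℤ) := by
      rw [ha]; simp [Int.add_mul_emod_self_left]
    have h2 : (1 : ℤ) % (p : ℤ) = 1 := Int.emod_eq_of_lt (by norm_num) (by omega)
    rw [h2] at h1
    exact_mod_cast h1
  · exfalso; omega
  · exfalso; omega
  · right
    refine ⟨?_, by omega⟩
    have h1 : ((charDegree (χ : G → ℂ) : ℤ)) % (p : ℤ) = ((p - 1 : ℕ) : ℤ) := by
      have h3 : (charDegree (χ : G → ℂ) : ℤ) = ((p - 1 : ℕ) : ℤ) + p * (a - 1) := by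
        rw [ha]
        push_cast [Nat.cast_sub hp.one_lt.le]
        ring
      rw [h3, Int.add_mul_emod_self_left]
      exact Int.emod_eq_of_lt (by positivity) (by omega)
    exact_mod_cast h1

/-- Degree equation for `|N(P) : P| = 3` in a simple group. -/
theorem degrees_three {G : Type u} [Group G] [Finite G] [IsSimpleGroup G]
    (hG : ¬ IsMulCommutative G) (P : Subgroup G) {p : ℕ} (hp : p.Prime) (hP : Nat.card P = p)
    (hC : Nat.card (centralizer (P : Set G)) = p)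
    (hN : Nat.card (normalizer (P : Set G)) = p * 3) (hp16 : 16 ≤ p) :
    ∃ (D₁ D₂ d : ℕ) (δ₁ δ₂ ε : ℤ), D₁ ∣ Nat.card G ∧ D₂ ∣ Nat.card G ∧ d ∣ Nat.card G ∧
      D₁ ≠ 1 ∧ D₂ ≠ 1 ∧ 0 < D₁ ∧ 0 < D₂ ∧ 0 < d ∧
      (ε = 1 ∨ ε = -1) ∧ (δ₁ = 1 ∨ δ₁ = -1) ∧ (δ₂ = 1 ∨ δ₂ = -1) ∧
      (∃ a : ℤ, (D₁ : ℤ) = δ₁ + p * a) ∧ (∃ a : ℤ, (D₂ : ℤ) = δ₂ + p * a) ∧
      (1 : ℤ) + δ₁ * D₁ + δ₂ * D₂ = ε * d := by
  classical
  haveI : Fintype G := Fintype.ofFinite G
  have : Finite (IrrCharacter G) := finite_irrCharacter G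
  haveI : Fintype (IrrCharacter G) := Fintype.ofFinite _
  obtain ⟨n, ε, δ₁, δ₂, θ, χ₁, χ₂, i₀, hε, hδ₁, hδ₂, hχT₁, hχT₂, -, -, -, -, ha₁, ha₂, heq,
    -, -, -⟩ :=
    exceptional_three P hp hP (centralizer_le_of_card P hp hP hC) hN hp16
  exact ⟨charDegree (χ₁ : G → ℂ), charDegree (χ₂ : G → ℂ),
    charDegree ((θ i₀ : IrrCharacter G) : G → ℂ), δ₁, δ₂, ε,
    Cfsg.Agent.Lib.Helper80.Integrality.charDegree_dvd_card χ₁,
    Cfsg.Agent.Lib.Helper80.Integrality.charDegree_dvd_card χ₂,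
    Cfsg.Agent.Lib.Helper80.Integrality.charDegree_dvd_card (θ i₀),
    charDegree_ne_one hG χ₁ hχT₁, charDegree_ne_one hG χ₂ hχT₂,
    irr_charDegree_pos χ₁.2, irr_charDegree_pos χ₂.2, irr_charDegree_pos (θ i₀).2,
    hε, hδ₁, hδ₂, ha₁, ha₂, heq⟩

end Cfsg.Agent.Lib.Helper17.ExcSimple
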