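import Mathlib
import Cfsg.Agent.Lib.Helper17.CentFix

/-!
The fixed point formula `|H| * |Fix_{G/H}(y)| = |C_G(y)| * |y^G ∩ H|`, the index of the
normalizer of a Sylow subgroup in an overgroup, and conjugation of centralizers.
-/

set_option autoImplicit false
set_option linter.style.haveILetI false

namespace Cfsg.Agent.Lib.Helper17.FixCount

open Subgroup MulAction
open Cfsg.Agent.Lib.Helper17.Sylow Cfsg.Agent.Lib.Helper17.CentFix

variable {G : Type*} [Group G]

/-- The number of `g` with `g y g⁻¹ = s` is `|C(y)|` when `s` is conjugate to `y`. -/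
theorem card_conj_eq [Fintype G] [DecidableEq G] (y s k : G) (hk : k * y * k⁻¹ = s) :
    (Finset.univ.filter fun g : G => g * y * g⁻¹ = s).card
      = Nat.card (centralizer ({y} : Set G)) := by
  rw [← Fintype.card_subtype, ← Nat.card_eq_fintype_card]
  apply Nat.card_congr
  refine
    { toFun := fun g => ⟨k⁻¹ * g.1, ?_⟩
      invFun := fun c => ⟨k * c.1, ?_⟩
      left_inv := fun g => by simp
      right_inv := fun c => by simp }
  · rw [mem_centralizer_singleton_iff]
    have h1 : g.1 * y * g.1⁻¹ = k * y * k⁻¹ := g.2.trans hk.symm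
    have h2 : k⁻¹ * g.1 * y = k⁻¹ * (g.1 * y * g.1⁻¹) * g.1 := by group
    rw [h2, h1]
    group
  · have h1 := mem_centralizer_singleton_iff.mp c.2
    rw [← hk]
    have h2 : k * c.1 * y * (k * c.1)⁻¹ = k * (c.1 * y) * c.1⁻¹ * k⁻¹ := by group
    rw [h2, h1]
    group

/-- The fixed point formula. -/
theorem card_mul_card_fixedBy [Finite G] (H : Subgroup G) (y : G) :
    Nat.card H * Nat.card (fixedBy (G ⧸ H) y)
      = Nat.card (centralizer ({y} : Set G))
        * {s : G | s ∈ H ∧ ∃ g : G, g * y * g⁻¹ = s}.ncard := by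
  classical
  haveI : Fintype G := Fintype.ofFinite G
  rw [← card_conj_mem H y]
  have e1 : Nat.card {g : G // g⁻¹ * y * g ∈ H}
      = (Finset.univ.filter fun g : G => g * y * g⁻¹ ∈ H).card := by
    rw [← Fintype.card_subtype, ← Nat.card_eq_fintype_card]
    exact Nat.card_congr
      { toFun := fun g => ⟨g.1⁻¹, by simpa using g.2⟩
        invFun := fun g => ⟨g.1⁻¹, by simpa using g.2⟩
        left_inv := fun g => by simp
        right_inv := fun g => by simp }
  have e2 : {s : G | s ∈ H ∧ ∃ g : G, g * y * g⁻¹ = s}.ncard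
      = (Finset.univ.filter fun s : G => s ∈ H ∧ ∃ g : G, g * y * g⁻¹ = s).card := by
    rw [← Set.ncard_coe_finset]
    congr 1
    ext s
    simp
  rw [e1, e2, Finset.card_eq_sum_card_fiberwise (f := fun g : G => g * y * g⁻¹)
    (t := Finset.univ.filter fun s : G => s ∈ H ∧ ∃ g : G, g * y * g⁻¹ = s)]
  · have hfib : ∀ s ∈ Finset.univ.filter (fun s : G => s ∈ H ∧ ∃ g : G, g * y * g⁻¹ = s),
        ((Finset.univ.filter fun g : G => g * y * g⁻¹ ∈ H).filter
          fun g => g * y * g⁻¹ = s).card = Nat.card (centralizer ({y} : Set G)) := by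
      intro s hs
      obtain ⟨hsH, k, hk⟩ := (Finset.mem_filter.mp hs).2
      rw [← card_conj_eq y s k hk]
      congr 1
      ext g
      simp only [Finset.mem_filter, Finset.mem_univ, true_and]
      constructor
      · exact fun h => h.2
      · intro h
        exact ⟨h ▸ hsH, h⟩
    rw [Finset.sum_congr rfl hfib, Finset.sum_const, smul_eq_mul, mul_comm]
  · intro g hg
    have hg' := (Finset.mem_filter.mp hg).2
    exact Finset.mem_filter.mpr ⟨Finset.mem_univ _, hg', g, rfl⟩

/-- If `N(P) ≤ M` for a Sylow `p`-subgroup `P`, then `|M : N(P)| ≡ 1 (mod p)`. -/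
theorem card_eq_mul_of_normalizer_le [Finite G] {p : ℕ} [Fact p.Prime] (P : Sylow p G)
    (M : Subgroup G) (hNM : normalizer ((P : Subgroup G) : Set G) ≤ M) :
    ∃ m : ℕ, Nat.card M = Nat.card (normalizer ((P : Subgroup G) : Set G)) * m ∧ m % p = 1 := by
  have hPM : (P : Subgroup G) ≤ M := le_normalizer.trans hNM
  refine ⟨(normalizer ((P : Subgroup G) : Set G)).relIndex M, (card_mul_relIndex hNM).symm, ?_⟩
  have h1 : Nat.card (Sylow p M)
      = (normalizer (((P : Subgroup G).subgroupOf M : Subgroup M) : Set M)).index :=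
    Sylow.card_eq_index_normalizer (P.subtype hPM)
  rw [← subgroupOf_normalizer_eq hPM] at h1
  rw [Subgroup.relIndex, ← h1]
  exact card_sylow_mod p

/-- The centralizer of `H` is normalized by the normalizer of `H`. -/
theorem conj_mem_centralizer (H : Subgroup G) (n c : G) (hn : n ∈ normalizer (H : Set G))
    (hc : c ∈ centralizer (H : Set G)) : n * c * n⁻¹ ∈ centralizer (H : Set G) := by
  rw [mem_centralizer_iff] at hc ⊢
  intro h hh
  have hn' : n⁻¹ ∈ normalizer (H : Set G) := inv_mem hn
  have h1 : n⁻¹ * h * n ∈ H := by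
    have := (mem_normalizer_iff.mp hn' h).mp hh
    rwa [inv_inv] at this
  have h2 := hc _ h1
  have e1 : h * (n * c * n⁻¹) = n * ((n⁻¹ * h * n) * c) * n⁻¹ := by group
  have e2 : n * c * n⁻¹ * h = n * (c * (n⁻¹ * h * n)) * n⁻¹ := by group
  rw [e1, e2, h2]

end Cfsg.Agent.Lib.Helper17.FixCount
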