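import Mathlib
import Cfsg.Agent.Lib.Helper17.FixedPoints

set_option autoImplicit false

namespace Cfsg.Agent.Lib.Helper17.Count2

open Subgroup Cfsg.Agent.Lib.Helper17.FixedPoints

variable {G : Type*} [Group G] [Finite G]

/-- Sum of the numbers of elements of given orders, as one count. -/
theorem sum_card_orderOf_eq_card (T : Finset ℕ) :
    ∑ n ∈ T, Nat.card {g : G // orderOf g = n} = Nat.card {g : G // orderOf g ∈ T} := by
  classical
  have : Fintype G := Fintype.ofFinite G
  have h1 : ∀ n, Nat.card {g : G // orderOf g = n}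
      = (Finset.univ.filter (fun g : G => orderOf g = n)).card := by
    intro n
    rw [Nat.card_eq_fintype_card, Fintype.card_subtype]
  simp_rw [h1]
  have h2 := Finset.card_eq_sum_card_fiberwise (f := fun g : G => orderOf g)
    (s := Finset.univ.filter (fun g : G => orderOf g ∈ T)) (t := T)
    (by intro x hx; simpa using hx)
  have h3 : ∀ b ∈ T, (Finset.filter (fun a : G => orderOf a = b)
      (Finset.univ.filter (fun g : G => orderOf g ∈ T))).card
      = (Finset.univ.filter (fun g : G => orderOf g = b)).card := by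
    intro b hb
    congr 1
    ext a
    simp only [Finset.mem_filter, Finset.mem_univ, true_and]
    constructor
    · exact fun h => h.2
    · exact fun h => ⟨h ▸ hb, h⟩
  rw [Finset.sum_congr rfl h3] at h2
  rw [← h2, Nat.card_eq_fintype_card, Fintype.card_subtype]

/-- If all element orders lie in `T`, the counts add up to the group order. -/
theorem sum_card_orderOf_eq (T : Finset ℕ) (hT : ∀ g : G, orderOf g ∈ T) :
    ∑ n ∈ T, Nat.card {g : G // orderOf g = n} = Nat.card G := by
  rw [sum_card_orderOf_eq_card]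
  exact Nat.card_congr
    { toFun := fun g => g.1
      invFun := fun g => ⟨g, hT g⟩
      left_inv := fun g => rfl
      right_inv := fun g => rfl }

/-- The nonidentity `p`-elements number at most `n_p (|P| - 1)`. -/
theorem sum_card_orderOf_le_sylow {p : ℕ} [Fact p.Prime] (m : ℕ)
    (hP : ∀ P : Sylow p G, Nat.card (P : Subgroup G) = m) (T : Finset ℕ)
    (hT : ∀ n ∈ T, n ≠ 1 ∧ ∃ j, n = p ^ j) :
    ∑ n ∈ T, Nat.card {g : G // orderOf g = n} ≤ Nat.card (Sylow p G) * (m - 1) := by
  classical
  rw [sum_card_orderOf_eq_card]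
  have : Fintype (Sylow p G) := Fintype.ofFinite _
  have hex : ∀ g : {g : G // orderOf g ∈ T}, ∃ P : Sylow p G, g.1 ∈ (P : Subgroup G) := by
    intro g
    obtain ⟨-, j, hj⟩ := hT _ g.2
    have hpg : IsPGroup p (zpowers g.1) := by
      apply IsPGroup.of_card (n := j)
      rw [Nat.card_zpowers, hj]
    obtain ⟨Q, hQ⟩ := hpg.exists_le_sylow
    exact ⟨Q, hQ (mem_zpowers _)⟩
  choose F hF using hex
  let f : {g : G // orderOf g ∈ T} → (Σ P : Sylow p G, {x : (P : Subgroup G) // x ≠ 1}) :=
    fun g => ⟨F g, ⟨⟨g.1, hF g⟩, fun h => by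
      have h1 : g.1 = 1 := congrArg Subtype.val h
      have h2 := (hT _ g.2).1
      rw [h1, orderOf_one] at h2
      exact h2 rfl⟩⟩
  have hf : Function.Injective f := by
    intro a b hab
    apply Subtype.ext
    have h1 : (f a).2.1.1 = a.1 := rfl
    have h2 : (f b).2.1.1 = b.1 := rfl
    rw [← h1, ← h2, hab]
  have hle := Nat.card_le_card_of_injective f hf
  rw [Nat.card_sigma] at hle
  have hfib : ∀ P : Sylow p G, Nat.card {x : (P : Subgroup G) // x ≠ 1} = m - 1 := by
    intro P
    have : Fintype (P : Subgroup G) := Fintype.ofFinite _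
    rw [Nat.card_eq_fintype_card, Fintype.card_subtype_compl, Fintype.card_subtype_eq,
      ← Nat.card_eq_fintype_card, hP P]
  simp_rw [hfib] at hle
  simpa [Nat.card_eq_fintype_card] using hle

/-- If Sylow `q`-subgroups have order `q` and are self-centralizing, every element of order
divisible by `q` has order `q`. -/
theorem orderOf_eq_of_dvd {q : ℕ} [Fact q.Prime]
    (hP : ∀ P : Sylow q G, Nat.card (P : Subgroup G) = q)
    (hC : ∀ P : Sylow q G, Nat.card (centralizer ((P : Subgroup G) : Set G)) = q)
    (g : G) (hq : q ∣ orderOf g) : orderOf g = q := by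
  have hq' : q.Prime := Fact.out
  have ho : 0 < orderOf g := orderOf_pos g
  obtain ⟨P₀⟩ : Nonempty (Sylow q G) := inferInstance
  set y := g ^ (orderOf g / q) with hy
  have hyo : orderOf y = q := by
    rw [hy, orderOf_pow' g (by
      intro h0
      have := Nat.div_pos (Nat.le_of_dvd ho hq) hq'.pos
      omega), Nat.gcd_eq_right (Nat.div_dvd_of_dvd hq), Nat.div_div_self hq ho.ne']
  obtain ⟨P, hPy⟩ := exists_sylow_eq_zpowers P₀ (hP P₀) y hyo
  have hgC : g ∈ centralizer ((P : Subgroup G) : Set G) := by
    rw [mem_centralizer_iff]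
    intro h hh
    have hh' : h ∈ zpowers y := by rw [← hPy]; exact hh
    obtain ⟨k, rfl⟩ := mem_zpowers_iff.mp hh'
    have : Commute g y := (Commute.refl g).pow_right _
    exact (this.zpow_right k).eq.symm
  have h1 : orderOf g ∣ q := by
    rw [← hC P]
    have := orderOf_dvd_natCard (⟨g, hgC⟩ : centralizer ((P : Subgroup G) : Set G))
    rwa [Subgroup.orderOf_mk] at this
  exact Nat.dvd_antisymm h1 hq

end Cfsg.Agent.Lib.Helper17.Count2
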