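import Mathlib
import Cfsg.Agent.Lib.Helper25.BSWSpec
import Cfsg.Agent.Lib.CT.ClassMult
import Cfsg.Agent.Lib.Helper3.Irr

/-!
Shared lemmas for the character-theoretic pieces `ConfigINum`, `ConfigIIFalse`, `ConfigIFormula`
of S3282 (Brauer--Suzuki--Wall).
-/

set_option autoImplicit false

namespace Cfsg.Agent.Lib.Helper17.BSWCore

open Cfsg Cfsg.Agent.Lib.Helper25.BSWSpec
open scoped ComplexConjugate

universe u
variable {G : Type u} [Group G]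

/-- the class multiplication formula for `pairCount` -/
theorem pairCount_eq [Fintype G] [Fintype (IrrCharacter G)] (t z : G) :
    (pairCount t z : ℂ) = (Nat.card G : ℂ) *
      ∑ ψ : IrrCharacter G, ψ.1 t * ψ.1 t * conj (ψ.1 z) / ψ.1 1 := by
  classical
  rw [← Cfsg.Agent.Lib.CT.ClassMult.conj_pair_count t t z]
  unfold pairCount
  rw [Nat.card_eq_fintype_card, Fintype.card_subtype]

theorem lin_conj {K : Subgroup G} [Finite ↥K] (φ : ↥K →* ℂˣ) (x : ↥K) :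
    conj ((φ x : ℂˣ) : ℂ) = ((φ⁻¹ x : ℂˣ) : ℂ) := by
  have hfin : ((φ x : ℂˣ) : ℂ) ^ (orderOf x) = 1 := by
    rw [← Units.val_pow_eq_pow_val, ← map_pow, pow_orderOf_eq_one, map_one, Units.val_one]
  have hn : ‖((φ x : ℂˣ) : ℂ)‖ = 1 :=
    Complex.norm_eq_one_of_pow_eq_one hfin (orderOf_pos x).ne'
  rw [MonoidHom.inv_apply, Units.val_inv_eq_inv_val, Complex.inv_eq_conj hn]

/-- characters of `G` are real on `K \ {1}` -/
theorem conj_val {K : Subgroup G} [Finite ↥K] {k : ℕ} [Fintype (IrrCharacter G)]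
    [Fintype (↥K →* ℂˣ)] {v : (↥K →* ℂˣ) → IrrCharacter G → ℤ} (hv : VData K k v)
    (ψ : IrrCharacter G) (x : ↥K) (hx : x ≠ 1) :
    conj (ψ.1 (x : G)) = ψ.1 (x : G) := by
  rw [hv.val ψ x hx, map_sum]
  conv_rhs => rw [← Equiv.sum_comp (Equiv.inv (↥K →* ℂˣ))]
  refine Finset.sum_congr rfl fun φ _ => ?_
  rw [map_mul, map_intCast, lin_conj, Equiv.inv_apply, hv.inv]

/-- expansion of a weighted character sum along the vectors `v` -/
theorem sum_expand {K : Subgroup G} {k : ℕ} [Fintype (IrrCharacter G)]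
    [Fintype (↥K →* ℂˣ)] {v : (↥K →* ℂˣ) → IrrCharacter G → ℤ} (hv : VData K k v)
    (x : ↥K) (hx : x ≠ 1) (F : IrrCharacter G → ℂ) :
    ∑ ψ : IrrCharacter G, ψ.1 (x : G) * F ψ =
      ∑ φ : ↥K →* ℂˣ, ((φ x : ℂˣ) : ℂ) * ∑ ψ : IrrCharacter G, (v φ ψ : ℂ) * F ψ := by
  have h1 : ∀ ψ : IrrCharacter G, ψ.1 (x : G) * F ψ =
      ∑ φ : ↥K →* ℂˣ, ((φ x : ℂˣ) : ℂ) * ((v φ ψ : ℂ) * F ψ) := by
    intro ψ
    rw [hv.val ψ x hx, Finset.sum_mul]
    exact Finset.sum_congr rfl fun φ _ => by ring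
  simp_rw [h1]
  rw [Finset.sum_comm]
  exact Finset.sum_congr rfl fun φ _ => by rw [Finset.mul_sum]

/-- `pairCount t z` for `z ∈ K \ {1}` as a combination of the characters of `K` -/
theorem pairCount_K [Fintype G] {K : Subgroup G} {k : ℕ} [Fintype (IrrCharacter G)]
    [Fintype (↥K →* ℂˣ)] {v : (↥K →* ℂˣ) → IrrCharacter G → ℤ} (hv : VData K k v)
    (t : G) (z : ↥K) (hz : z ≠ 1) :
    (pairCount t (z : G) : ℂ) = ∑ φ : ↥K →* ℂˣ,
      ((Nat.card G : ℂ) * ∑ ψ : IrrCharacter G, ψ.1 t * ψ.1 t * (v φ ψ : ℂ) / ψ.1 1) *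
        ((φ z : ℂˣ) : ℂ) := by
  rw [pairCount_eq]
  have h1 : ∀ ψ : IrrCharacter G, ψ.1 t * ψ.1 t * conj (ψ.1 (z : G)) / ψ.1 1 =
      ψ.1 (z : G) * (ψ.1 t * ψ.1 t / ψ.1 1) := by
    intro ψ
    rw [conj_val hv ψ z hz]
    ring
  simp_rw [h1]
  rw [sum_expand hv z hz, Finset.mul_sum]
  refine Finset.sum_congr rfl fun φ _ => ?_
  have h2 : ∑ ψ : IrrCharacter G, (v φ ψ : ℂ) * (ψ.1 t * ψ.1 t / ψ.1 1) =
      ∑ ψ : IrrCharacter G, ψ.1 t * ψ.1 t * (v φ ψ : ℂ) / ψ.1 1 :=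
    Finset.sum_congr rfl fun ψ _ => by ring
  rw [h2]
  ring

/-- the key consequence of `PairK`, `Indep` and `Dual` -/
theorem key1 (hPairK : PairK.{u}) (hIndep : Indep.{u}) (hDual : Dual.{u}) [Fintype G] {t : G}
    {K : Subgroup G} {s : G} {k : ℕ} [Fintype (IrrCharacter G)] [Fintype (↥K →* ℂˣ)]
    {v : (↥K →* ℂˣ) → IrrCharacter G → ℤ} (hB : Basic t K s k) (hk : 4 ≤ k)
    (hv : VData K k v) (φ : ↥K →* ℂˣ) (hφ : φ ≠ 1) :
    (Nat.card G : ℂ) * ∑ ψ : IrrCharacter G, ψ.1 t * ψ.1 t * (v φ ψ : ℂ) / ψ.1 1 =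
      -(4 * (k : ℂ) ^ 3) := by
  classical
  obtain ⟨-, hsum, -, -⟩ := hDual G t K s k hB hk
  have hb : ∀ x : ↥K, x ≠ 1 → ∑ φ : ↥K →* ℂˣ,
      ((Nat.card G : ℂ) * ∑ ψ : IrrCharacter G, ψ.1 t * ψ.1 t * (v φ ψ : ℂ) / ψ.1 1 +
        4 * (k : ℂ) ^ 3 - (if φ = 1 then 4 * (k : ℂ) ^ 3 else 0)) * ((φ x : ℂˣ) : ℂ) = 0 := by
    intro x hx
    have h1 := pairCount_K hv t x hx
    rw [hPairK G t K s k hB x x.2 (fun h => hx (Subtype.ext h))] at h1
    have h2 := hsum x hx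
    simp only [sub_mul, add_mul, Finset.sum_sub_distrib, Finset.sum_add_distrib,
      ← Finset.mul_sum, h2, ite_mul, zero_mul, Finset.sum_ite_eq', Finset.mem_univ, if_true]
    rw [← h1]
    simp
  have h := hIndep G K hB.comm _ hb φ 1
  simp only [if_neg hφ, if_true, hv.one] at h
  simp only [Int.cast_zero, mul_zero, zero_div, Finset.sum_const_zero] at h
  linear_combination h

/-- a row with three entries -/
theorem sum3 {I : Type*} [Fintype I] (o Λ Θ : I) (δ ε : ℤ) (w : I → ℤ)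
    (hw : ∀ ψ : I, w ψ = (open Classical in if ψ = o then -1 else 0) +
      (open Classical in if ψ = Λ then δ else 0) + (open Classical in if ψ = Θ then ε else 0))
    (F : I → ℂ) : ∑ ψ : I, (w ψ : ℂ) * F ψ = -F o + δ * F Λ + ε * F Θ := by
  classical
  simp only [hw]
  push_cast
  simp [add_mul, Finset.sum_add_distrib, ite_mul]

/-- a row with four entries -/
theorem sum4 {I : Type*} [Fintype I] (o Λ Γ₁ Γ₂ : I) (δ δ₁ δ₂ : ℤ) (w : I → ℤ)
    (hw : ∀ ψ : I, w ψ = (open Classical in if ψ = o then -1 else 0) +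
      (open Classical in if ψ = Λ then δ else 0) + (open Classical in if ψ = Γ₁ then δ₁ else 0) +
      (open Classical in if ψ = Γ₂ then δ₂ else 0))
    (F : I → ℂ) : ∑ ψ : I, (w ψ : ℂ) * F ψ = -F o + δ * F Λ + δ₁ * F Γ₁ + δ₂ * F Γ₂ := by
  classical
  simp only [hw]
  push_cast
  simp [add_mul, Finset.sum_add_distrib, ite_mul]

/-- linear characters of `K` take the values `±1` at `t` -/
theorem lin_t_sq {t : G} {K : Subgroup G} {s : G} {k : ℕ} (hB : Basic t K s k)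
    (φ : ↥K →* ℂˣ) : ((φ ⟨t, hB.htK⟩ : ℂˣ) : ℂ) * ((φ ⟨t, hB.htK⟩ : ℂˣ) : ℂ) = 1 := by
  have h2 : (⟨t, hB.htK⟩ : ↥K) * ⟨t, hB.htK⟩ = 1 := by
    apply Subtype.ext
    have := pow_orderOf_eq_one t
    rw [hB.ht, pow_two] at this
    simpa using this
  rw [← Units.val_mul, ← map_mul, h2, map_one, Units.val_one]

theorem tK_ne_one {t : G} {K : Subgroup G} {s : G} {k : ℕ} (hB : Basic t K s k) :
    (⟨t, hB.htK⟩ : ↥K) ≠ 1 := by
  intro h
  have h1 : t = 1 := congrArg Subtype.val h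
  have h2 := hB.ht
  rw [h1, orderOf_one] at h2
  omega

theorem lin_inv_t {t : G} {K : Subgroup G} {s : G} {k : ℕ} (hB : Basic t K s k)
    (φ : ↥K →* ℂˣ) : ((φ⁻¹ ⟨t, hB.htK⟩ : ℂˣ) : ℂ) = ((φ ⟨t, hB.htK⟩ : ℂˣ) : ℂ) := by
  have h := lin_t_sq hB φ
  rw [MonoidHom.inv_apply, Units.val_inv_eq_inv_val]
  have hne : ((φ ⟨t, hB.htK⟩ : ℂˣ) : ℂ) ≠ 0 := Units.ne_zero _
  field_simp
  linear_combination -h

end Cfsg.Agent.Lib.Helper17.BSWCore
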