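import Mathlib
import Cfsg.Agent.Lib.Helper17.BSWCore

/-!
Values of the characters `Λ`, `Γ₁`, `Γ₂`, `Θ φ` on `K \ {1}` in the generic configuration of
S3282 (Brauer--Suzuki--Wall), and bookkeeping lemmas for sums over the dual group of `K`.
-/

set_option autoImplicit false

namespace Cfsg.Agent.Lib.Helper17.BSWConfI

open Cfsg Cfsg.Agent.Lib.Helper25.BSWSpec Cfsg.Agent.Lib.Helper17.BSWCore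
open scoped ComplexConjugate

universe u
variable {G : Type u} [Group G] [Fintype (IrrCharacter G)] {K : Subgroup G} {k : ℕ}
  [Fintype (↥K →* ℂˣ)] {v : (↥K →* ℂˣ) → IrrCharacter G → ℤ} {σ : ↥K →* ℂˣ}
  {o : IrrCharacter G} {Λ Γ₁ Γ₂ : IrrCharacter G} {Θ : (↥K →* ℂˣ) → IrrCharacter G}
  {δ ε δ₁ δ₂ : ℤ}

omit [Fintype (IrrCharacter G)] [Fintype (↥K →* ℂˣ)] in
theorem dual_inv_one : (1 : ↥K →* ℂˣ)⁻¹ = 1 := inv_one (G := ↥K →* ℂˣ)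

omit [Fintype (IrrCharacter G)] [Fintype (↥K →* ℂˣ)] in
theorem dual_inv_inv (φ : ↥K →* ℂˣ) : φ⁻¹⁻¹ = φ := inv_inv φ

theorem vΛ (hreal : ∀ φ : ↥K →* ℂˣ, φ⁻¹ = φ → φ = 1 ∨ φ = σ)
    (hC : ConfigIData (fun φ : ↥K →* ℂˣ => φ⁻¹) σ o v Λ Γ₁ Γ₂ Θ δ ε δ₁ δ₂)
    (φ : ↥K →* ℂˣ) (hφ : φ ≠ 1) : v φ Λ = δ := by
  by_cases h : φ⁻¹ = φ
  · rcases hreal φ h with h1 | h1
    · exact absurd h1 hφ
    · rw [h1, hC.hσ Λ, if_neg hC.hΛo, if_pos rfl, if_neg hC.hΓ₁Λ.symm, if_neg hC.hΓ₂Λ.symm]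
      ring
  · rw [hC.hv φ h Λ, if_neg hC.hΛo, if_pos rfl, if_neg (hC.hΘ φ h).2.1.symm]
    ring

theorem Λ_val (hv : VData K k v) (hreal : ∀ φ : ↥K →* ℂˣ, φ⁻¹ = φ → φ = 1 ∨ φ = σ)
    (hC : ConfigIData (fun φ : ↥K →* ℂˣ => φ⁻¹) σ o v Λ Γ₁ Γ₂ Θ δ ε δ₁ δ₂)
    (x : ↥K) (hx : x ≠ 1) (hsum : ∑ φ : ↥K →* ℂˣ, ((φ x : ℂˣ) : ℂ) = 0) :
    Λ.1 (x : G) = -(δ : ℂ) := by
  classical
  rw [hv.val Λ x hx]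
  have h1 : ∀ φ : ↥K →* ℂˣ, (v φ Λ : ℂ) * ((φ x : ℂˣ) : ℂ) =
      (δ : ℂ) * ((φ x : ℂˣ) : ℂ) - (if φ = 1 then (δ : ℂ) else 0) := by
    intro φ
    by_cases hφ : φ = 1
    · subst hφ
      simp [hv.one]
    · rw [vΛ hreal hC φ hφ, if_neg hφ]
      ring
  simp_rw [h1]
  rw [Finset.sum_sub_distrib, ← Finset.mul_sum, hsum]
  simp

theorem vΓ₁ (hv : VData K k v) (hσ1 : σ ≠ 1) (hσr : σ⁻¹ = σ)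
    (hreal : ∀ φ : ↥K →* ℂˣ, φ⁻¹ = φ → φ = 1 ∨ φ = σ)
    (hC : ConfigIData (fun φ : ↥K →* ℂˣ => φ⁻¹) σ o v Λ Γ₁ Γ₂ Θ δ ε δ₁ δ₂)
    (φ : ↥K →* ℂˣ) : v φ Γ₁ = (open Classical in if φ = σ then δ₁ else 0) := by
  classical
  by_cases h : φ⁻¹ = φ
  · rcases hreal φ h with h1 | h1
    · rw [h1, hv.one, if_neg hσ1.symm]
    · rw [h1, if_pos rfl, hC.hσ Γ₁, if_neg hC.hΓ₁o, if_neg hC.hΓ₁Λ, if_pos rfl, if_neg hC.hΓ]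
      ring
  · have hφσ : φ ≠ σ := by
      rintro rfl
      exact h hσr
    rw [hC.hv φ h Γ₁, if_neg hC.hΓ₁o, if_neg hC.hΓ₁Λ, if_neg (hC.hΘ φ h).2.2.1.symm, if_neg hφσ]
    ring

theorem vΓ₂ (hv : VData K k v) (hσ1 : σ ≠ 1) (hσr : σ⁻¹ = σ)
    (hreal : ∀ φ : ↥K →* ℂˣ, φ⁻¹ = φ → φ = 1 ∨ φ = σ)
    (hC : ConfigIData (fun φ : ↥K →* ℂˣ => φ⁻¹) σ o v Λ Γ₁ Γ₂ Θ δ ε δ₁ δ₂)
    (φ : ↥K →* ℂˣ) : v φ Γ₂ = (open Classical in if φ = σ then δ₂ else 0) := by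
  classical
  by_cases h : φ⁻¹ = φ
  · rcases hreal φ h with h1 | h1
    · rw [h1, hv.one, if_neg hσ1.symm]
    · rw [h1, if_pos rfl, hC.hσ Γ₂, if_neg hC.hΓ₂o, if_neg hC.hΓ₂Λ, if_neg hC.hΓ.symm,
        if_pos rfl]
      ring
  · have hφσ : φ ≠ σ := by
      rintro rfl
      exact h hσr
    rw [hC.hv φ h Γ₂, if_neg hC.hΓ₂o, if_neg hC.hΓ₂Λ, if_neg (hC.hΘ φ h).2.2.2.1.symm,
      if_neg hφσ]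
    ring

theorem Γ₁_val (hv : VData K k v) (hσ1 : σ ≠ 1) (hσr : σ⁻¹ = σ)
    (hreal : ∀ φ : ↥K →* ℂˣ, φ⁻¹ = φ → φ = 1 ∨ φ = σ)
    (hC : ConfigIData (fun φ : ↥K →* ℂˣ => φ⁻¹) σ o v Λ Γ₁ Γ₂ Θ δ ε δ₁ δ₂)
    (x : ↥K) (hx : x ≠ 1) : Γ₁.1 (x : G) = (δ₁ : ℂ) * ((σ x : ℂˣ) : ℂ) := by
  classical
  rw [hv.val Γ₁ x hx]
  simp_rw [vΓ₁ hv hσ1 hσr hreal hC]
  simp [ite_mul]

theorem Γ₂_val (hv : VData K k v) (hσ1 : σ ≠ 1) (hσr : σ⁻¹ = σ)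
    (hreal : ∀ φ : ↥K →* ℂˣ, φ⁻¹ = φ → φ = 1 ∨ φ = σ)
    (hC : ConfigIData (fun φ : ↥K →* ℂˣ => φ⁻¹) σ o v Λ Γ₁ Γ₂ Θ δ ε δ₁ δ₂)
    (x : ↥K) (hx : x ≠ 1) : Γ₂.1 (x : G) = (δ₂ : ℂ) * ((σ x : ℂˣ) : ℂ) := by
  classical
  rw [hv.val Γ₂ x hx]
  simp_rw [vΓ₂ hv hσ1 hσr hreal hC]
  simp [ite_mul]

theorem sum_vΓ₁ (hv : VData K k v) (hσ1 : σ ≠ 1) (hσr : σ⁻¹ = σ)
    (hreal : ∀ φ : ↥K →* ℂˣ, φ⁻¹ = φ → φ = 1 ∨ φ = σ)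
    (hC : ConfigIData (fun φ : ↥K →* ℂˣ => φ⁻¹) σ o v Λ Γ₁ Γ₂ Θ δ ε δ₁ δ₂) :
    ∑ φ : ↥K →* ℂˣ, (v φ Γ₁ : ℂ) = (δ₁ : ℂ) := by
  classical
  simp_rw [vΓ₁ hv hσ1 hσr hreal hC]
  simp

theorem vΘ (hv : VData K k v) (hσr : σ⁻¹ = σ)
    (hreal : ∀ φ : ↥K →* ℂˣ, φ⁻¹ = φ → φ = 1 ∨ φ = σ)
    (hC : ConfigIData (fun φ : ↥K →* ℂˣ => φ⁻¹) σ o v Λ Γ₁ Γ₂ Θ δ ε δ₁ δ₂)
    (φ₀ : ↥K →* ℂˣ) (h₀ : φ₀⁻¹ ≠ φ₀) (φ : ↥K →* ℂˣ) :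
    v φ (Θ φ₀) = (open Classical in if φ = φ₀ then ε else 0) +
      (open Classical in if φ = φ₀⁻¹ then ε else 0) := by
  classical
  have h01 : φ₀ ≠ 1 := by
    rintro rfl
    exact h₀ dual_inv_one
  have h0σ : φ₀ ≠ σ := by
    rintro rfl
    exact h₀ hσr
  obtain ⟨hΘo, hΘΛ, hΘΓ₁, hΘΓ₂, hΘinv⟩ := hC.hΘ φ₀ h₀
  by_cases h : φ⁻¹ = φ
  · have hφ0 : φ ≠ φ₀ := by
      rintro rfl
      exact h₀ h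
    have hφ0' : φ ≠ φ₀⁻¹ := by
      rintro rfl
      exact h₀ (h.symm.trans (dual_inv_inv φ₀))
    rw [if_neg hφ0, if_neg hφ0']
    rcases hreal φ h with h1 | h1
    · rw [h1, hv.one]
      rfl
    · rw [h1, hC.hσ (Θ φ₀), if_neg hΘo, if_neg hΘΛ, if_neg hΘΓ₁, if_neg hΘΓ₂]
      ring
  · rw [hC.hv φ h (Θ φ₀), if_neg hΘo, if_neg hΘΛ]
    by_cases hφ0 : φ = φ₀
    · rw [hφ0, if_pos rfl, if_pos rfl, if_neg (fun hh : φ₀ = φ₀⁻¹ => h₀ hh.symm)]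
      ring
    · by_cases hφ0' : φ = φ₀⁻¹
      · have : Θ φ₀ = Θ φ := by
          rw [hφ0']
          exact hΘinv.symm
        rw [if_pos this, if_neg hφ0, if_pos hφ0']
        ring
      · have : Θ φ₀ ≠ Θ φ := by
          intro hh
          rcases hC.hΘinj φ₀ φ h₀ h hh with h2 | h2
          · exact hφ0 h2
          · exact hφ0' h2
        rw [if_neg this, if_neg hφ0, if_neg hφ0']
        ring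

theorem Θ_val (hv : VData K k v) (hσr : σ⁻¹ = σ)
    (hreal : ∀ φ : ↥K →* ℂˣ, φ⁻¹ = φ → φ = 1 ∨ φ = σ)
    (hC : ConfigIData (fun φ : ↥K →* ℂˣ => φ⁻¹) σ o v Λ Γ₁ Γ₂ Θ δ ε δ₁ δ₂)
    (φ₀ : ↥K →* ℂˣ) (h₀ : φ₀⁻¹ ≠ φ₀) (x : ↥K) (hx : x ≠ 1) :
    (Θ φ₀).1 (x : G) = (ε : ℂ) * (((φ₀ x : ℂˣ) : ℂ) + ((φ₀⁻¹ x : ℂˣ) : ℂ)) := by
  classical
  rw [hv.val (Θ φ₀) x hx]
  simp_rw [vΘ hv hσr hreal hC φ₀ h₀]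
  push_cast
  simp only [add_mul, Finset.sum_add_distrib, ite_mul, zero_mul, Finset.sum_ite_eq',
    Finset.mem_univ, if_true]
  ring

/-- splitting a sum over the dual group of `K` -/
theorem sum_split (hσ1 : σ ≠ 1) (hσr : σ⁻¹ = σ)
    (hreal : ∀ φ : ↥K →* ℂˣ, φ⁻¹ = φ → φ = 1 ∨ φ = σ)
    (NR : Finset (↥K →* ℂˣ)) (hNR : ∀ φ : ↥K →* ℂˣ, φ ∈ NR ↔ φ⁻¹ ≠ φ)
    {M : Type*} [AddCommMonoid M] (g : (↥K →* ℂˣ) → M) :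
    ∑ φ : ↥K →* ℂˣ, g φ = g 1 + g σ + ∑ φ ∈ NR, g φ := by
  classical
  have hu : (Finset.univ : Finset (↥K →* ℂˣ)) = insert 1 (insert σ NR) := by
    ext φ
    simp only [Finset.mem_univ, Finset.mem_insert, true_iff, hNR]
    by_cases h : φ⁻¹ = φ
    · rcases hreal φ h with h1 | h1
      · exact Or.inl h1
      · exact Or.inr (Or.inl h1)
    · exact Or.inr (Or.inr h)
  have h1 : (1 : ↥K →* ℂˣ) ∉ insert σ NR := by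
    simp only [Finset.mem_insert, hNR, not_or]
    exact ⟨hσ1.symm, fun h => h dual_inv_one⟩
  have h2 : σ ∉ NR := by
    rw [hNR]
    exact fun h => h hσr
  rw [hu, Finset.sum_insert h1, Finset.sum_insert h2, add_assoc]

theorem card_NR (hσ1 : σ ≠ 1) (hσr : σ⁻¹ = σ)
    (hreal : ∀ φ : ↥K →* ℂˣ, φ⁻¹ = φ → φ = 1 ∨ φ = σ)
    (NR : Finset (↥K →* ℂˣ)) (hNR : ∀ φ : ↥K →* ℂˣ, φ ∈ NR ↔ φ⁻¹ ≠ φ) :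
    NR.card + 2 = Fintype.card (↥K →* ℂˣ) := by
  have h := sum_split hσ1 hσr hreal NR hNR (fun _ => (1 : ℕ))
  simp only [Finset.sum_const, smul_eq_mul, mul_one, Finset.card_univ] at h
  omega

end Cfsg.Agent.Lib.Helper17.BSWConfI
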