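import Mathlib
import Cfsg.Agent.Lib.Helper17.BSWConfI

/-!
Piece `ConfigIFormula` of S3282 (Brauer--Suzuki--Wall): the class-multiplication formula off the
conjugates of `K` in the generic configuration.
-/

set_option autoImplicit false

namespace Cfsg.Agent.Lib.Helper17.BSWConfigIFormula

open Cfsg Cfsg.Agent.Lib.Helper25.BSWSpec Cfsg.Agent.Lib.Helper17.BSWCore
  Cfsg.Agent.Lib.Helper17.BSWConfI
open scoped ComplexConjugate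

universe u

theorem main : ConfigIFormula.{u} := by
  intro hDual G _ _ t K s k _ _ v σ o hB hk hv ho hσ1 hσr hreal Λ Γ₁ Γ₂ Θ δ ε δ₁ δ₂ hC
    hε hδ₁ hδ₂ hΛ1 hΓ₁1 hΓ₂1 hΘ1 hN
  classical
  obtain ⟨hcard, hsum, -, -⟩ := hDual G t K s k hB hk
  refine ⟨?_, ?_⟩
  · intro x hxK hx1
    have hx : (⟨x, hxK⟩ : ↥K) ≠ 1 := fun h => hx1 (congrArg Subtype.val h)
    exact Λ_val hv hreal hC ⟨x, hxK⟩ hx (hsum _ hx)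
  · intro z hz
    have ht1 : (⟨t, hB.htK⟩ : ↥K) ≠ 1 := tK_ne_one hB
    obtain ⟨NR, hNR⟩ : ∃ NR : Finset (↥K →* ℂˣ), ∀ φ : ↥K →* ℂˣ, φ ∈ NR ↔ φ⁻¹ ≠ φ :=
      ⟨Finset.univ.filter (fun φ : ↥K →* ℂˣ => φ⁻¹ ≠ φ), fun φ => by simp⟩
    have hδ2 : (δ : ℂ) * (δ : ℂ) = 1 := by
      rcases hC.hδ with h | h <;> rw [h] <;> norm_num
    have hεc : (ε : ℂ) = -(δ : ℂ) := by rw [hε]; push_cast; ring
    have hδ₁c : (δ₁ : ℂ) = -(δ : ℂ) := by rw [hδ₁]; push_cast; ring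
    have hδ₂c : (δ₂ : ℂ) = -(δ : ℂ) := by rw [hδ₂]; push_cast; ring
    have hkR : (4 : ℝ) ≤ (k : ℝ) := by exact_mod_cast hk
    have hδR : (δ : ℝ) ≤ 1 := by
      rcases hC.hδ with h | h <;> rw [h] <;> norm_num
    have hkδ : (k : ℂ) - (δ : ℂ) ≠ 0 := by
      have h : ((k : ℝ) - (δ : ℝ)) ≠ 0 := by linarith
      have h2 : (((k : ℝ) - (δ : ℝ) : ℝ) : ℂ) ≠ 0 := by exact_mod_cast h
      simpa using h2
    have h2kδ : 2 * (k : ℂ) - (δ : ℂ) ≠ 0 := by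
      have h : (2 * (k : ℝ) - (δ : ℝ)) ≠ 0 := by linarith
      have h2 : ((2 * (k : ℝ) - (δ : ℝ) : ℝ) : ℂ) ≠ 0 := by exact_mod_cast h
      simpa using h2
    -- values at `t`
    have hΛt : Λ.1 t = -(δ : ℂ) := Λ_val hv hreal hC ⟨t, hB.htK⟩ ht1 (hsum _ ht1)
    have hΓ₁t : Γ₁.1 t = (δ₁ : ℂ) * ((σ ⟨t, hB.htK⟩ : ℂˣ) : ℂ) :=
      Γ₁_val hv hσ1 hσr hreal hC ⟨t, hB.htK⟩ ht1
    have hΓ₂t : Γ₂.1 t = (δ₂ : ℂ) * ((σ ⟨t, hB.htK⟩ : ℂˣ) : ℂ) :=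
      Γ₂_val hv hσ1 hσr hreal hC ⟨t, hB.htK⟩ ht1
    have hΘt : ∀ φ : ↥K →* ℂˣ, φ⁻¹ ≠ φ → (Θ φ).1 t =
        (ε : ℂ) * (((φ ⟨t, hB.htK⟩ : ℂˣ) : ℂ) + ((φ ⟨t, hB.htK⟩ : ℂˣ) : ℂ)) := by
      intro φ hφ
      have h := Θ_val hv hσr hreal hC φ hφ ⟨t, hB.htK⟩ ht1
      rw [lin_inv_t hB φ] at h
      exact h
    -- the relations off the conjugates of `K`
    have hoffφ : ∀ φ : ↥K →* ℂˣ, φ⁻¹ ≠ φ → conj ((Θ φ).1 z) = conj (Λ.1 z) - (δ : ℂ) := by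
      intro φ hφ
      have h := hv.off φ z hz
      rw [sum3 o Λ (Θ φ) δ ε (v φ) (hC.hv φ hφ), ho z, hεc] at h
      have h2 : (Θ φ).1 z = Λ.1 z - (δ : ℂ) := by
        linear_combination (-(δ : ℂ)) * h - ((Θ φ).1 z - Λ.1 z) * hδ2
      rw [h2, map_sub, map_intCast]
    have hoffσ : conj (Γ₁.1 z) + conj (Γ₂.1 z) = conj (Λ.1 z) - (δ : ℂ) := by
      have h := hv.off σ z hz
      rw [sum4 o Λ Γ₁ Γ₂ δ δ₁ δ₂ (v σ) hC.hσ, ho z, hδ₁c, hδ₂c] at h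
      have h2 : Γ₁.1 z + Γ₂.1 z = Λ.1 z - (δ : ℂ) := by
        linear_combination (-(δ : ℂ)) * h - (Γ₁.1 z + Γ₂.1 z - Λ.1 z) * hδ2
      rw [← map_add, h2, map_sub, map_intCast]
    -- the class multiplication formula
    rw [pairCount_eq]
    have h1 : ∀ ψ : IrrCharacter G, ψ.1 t * ψ.1 t * conj (ψ.1 z) / ψ.1 1 =
        ψ.1 ((⟨t, hB.htK⟩ : ↥K) : G) * (ψ.1 t * conj (ψ.1 z) / ψ.1 1) := by
      intro ψ
      ring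
    simp_rw [h1]
    rw [sum_expand hv ⟨t, hB.htK⟩ ht1, sum_split hσ1 hσr hreal NR hNR]
    -- the three kinds of terms
    have hT1 : ∑ ψ : IrrCharacter G, (v 1 ψ : ℂ) * (ψ.1 t * conj (ψ.1 z) / ψ.1 1) = 0 := by
      simp [hv.one]
    have hTσ : ((σ ⟨t, hB.htK⟩ : ℂˣ) : ℂ) *
        ∑ ψ : IrrCharacter G, (v σ ψ : ℂ) * (ψ.1 t * conj (ψ.1 z) / ψ.1 1) =
        -((σ ⟨t, hB.htK⟩ : ℂˣ) : ℂ) * (1 + conj (Λ.1 z) / (2 * (k : ℂ) - (δ : ℂ))) +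
          (conj (Λ.1 z) - (δ : ℂ)) / ((k : ℂ) - (δ : ℂ)) := by
      rw [sum4 o Λ Γ₁ Γ₂ δ δ₁ δ₂ (v σ) hC.hσ, ho t, ho z, ho 1, hΛt, hΓ₁t, hΓ₂t, hΛ1, hΓ₁1, hΓ₂1,
        hδ₁c, hδ₂c, ← hoffσ, map_one]
      have hcc := lin_t_sq hB σ
      field_simp
      linear_combination (exp := 1)
        (-(((σ ⟨t, hB.htK⟩ : ℂˣ) : ℂ) * conj (Λ.1 z) * ((k : ℂ) - (δ : ℂ))) +
          (conj (Γ₁.1 z) + conj (Γ₂.1 z)) * (2 * (k : ℂ) - (δ : ℂ))) * hδ2 +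
        (conj (Γ₁.1 z) + conj (Γ₂.1 z)) * (2 * (k : ℂ) - (δ : ℂ)) * (δ : ℂ) ^ 2 * hcc
    have hTφ : ∀ φ ∈ NR, ((φ ⟨t, hB.htK⟩ : ℂˣ) : ℂ) *
        ∑ ψ : IrrCharacter G, (v φ ψ : ℂ) * (ψ.1 t * conj (ψ.1 z) / ψ.1 1) =
        -((φ ⟨t, hB.htK⟩ : ℂˣ) : ℂ) * (1 + conj (Λ.1 z) / (2 * (k : ℂ) - (δ : ℂ))) +
          (conj (Λ.1 z) - (δ : ℂ)) / ((k : ℂ) - (δ : ℂ)) := by
      intro φ hφ
      have hφ' : φ⁻¹ ≠ φ := (hNR φ).mp hφ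
      rw [sum3 o Λ (Θ φ) δ ε (v φ) (hC.hv φ hφ'), ho t, ho z, ho 1, hΛt, hΘt φ hφ', hΛ1,
        hΘ1 φ hφ', hoffφ φ hφ', hεc, map_one]
      have haa := lin_t_sq hB φ
      field_simp
      linear_combination (exp := 1)
        (-(2 * ((φ ⟨t, hB.htK⟩ : ℂˣ) : ℂ) * conj (Λ.1 z) * ((k : ℂ) - (δ : ℂ))) +
          2 * (2 * (k : ℂ) - (δ : ℂ)) * (conj (Λ.1 z) - (δ : ℂ))) * hδ2 +
        2 * (2 * (k : ℂ) - (δ : ℂ)) * (conj (Λ.1 z) - (δ : ℂ)) * (δ : ℂ) ^ 2 * haa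
    rw [hT1, hTσ, Finset.sum_congr rfl hTφ]
    have hS : ∑ φ ∈ NR, ((φ ⟨t, hB.htK⟩ : ℂˣ) : ℂ) = -1 - ((σ ⟨t, hB.htK⟩ : ℂˣ) : ℂ) := by
      have h := hsum ⟨t, hB.htK⟩ ht1
      rw [sum_split hσ1 hσr hreal NR hNR] at h
      simp only [MonoidHom.one_apply, Units.val_one] at h
      linear_combination h
    have hcardNR : (NR.card : ℂ) = (k : ℂ) - 2 := by
      have h := card_NR hσ1 hσr hreal NR hNR
      rw [hcard] at h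
      have h2 : ((NR.card + 2 : ℕ) : ℂ) = (k : ℂ) := by rw [h]
      push_cast at h2
      linear_combination h2
    have hNc : (Nat.card G : ℂ) = 2 * (k : ℂ) * ((k : ℂ) - (δ : ℂ)) * (2 * (k : ℂ) - (δ : ℂ)) := by
      have h := congrArg (Int.cast : ℤ → ℂ) hN
      push_cast at h
      exact h
    rw [Finset.sum_add_distrib, ← Finset.sum_mul, Finset.sum_neg_distrib, hS, Finset.sum_const,
      nsmul_eq_mul, hcardNR, hNc, mul_zero]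
    field_simp
    ring

end Cfsg.Agent.Lib.Helper17.BSWConfigIFormula
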