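import Mathlib
import Cfsg.Agent.Lib.Helper17.BSWConfI

/-!
Piece `ConfigIIFalse` of S3282 (Brauer--Suzuki--Wall): the exceptional configuration of the
vectors `v` (six characters of `K`) does not occur.
-/

set_option autoImplicit false

namespace Cfsg.Agent.Lib.Helper17.BSWConfigIIFalse

open Cfsg Cfsg.Agent.Lib.Helper25.BSWSpec Cfsg.Agent.Lib.Helper17.BSWCore
  Cfsg.Agent.Lib.Helper17.BSWConfI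
open scoped ComplexConjugate

universe u

theorem main : ConfigIIFalse.{u} := by
  intro hPairK hIndep hDual G _ _ t K s k _ _ v σ o hB hk hv ho hσ1 hσr hreal φ₀ φ₁ Λ Θ Γ₁ Γ₂
    δ ε δ₁ δ₂ hC
  classical
  obtain ⟨-, hsum, -, -⟩ := hDual G t K s k hB hk
  have hdeg : ∀ ψ : IrrCharacter G, ∃ d : ℕ, 0 < d ∧ ψ.1 1 = d := fun ψ =>
    Cfsg.Agent.Lib.Helper3.Irr.IsIrrCharacter.exists_apply_one_pos ψ.2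
  choose d hdpos hd using hdeg
  have ht1 : (⟨t, hB.htK⟩ : ↥K) ≠ 1 := tK_ne_one hB
  have h₀ : φ₀⁻¹ ≠ φ₀ := hC.h₀
  have h₁ : φ₁⁻¹ ≠ φ₁ := hC.h₁
  have h₁₀ : φ₁ ≠ φ₀ := hC.h₁₀
  have h₁₀' : φ₁ ≠ φ₀⁻¹ := hC.h₁₀'
  -- real / non-real
  have hi₀ : φ₀⁻¹⁻¹ ≠ φ₀⁻¹ := fun h => h₀ (h.symm.trans (dual_inv_inv φ₀))
  have hi₁ : φ₁⁻¹⁻¹ ≠ φ₁⁻¹ := fun h => h₁ (h.symm.trans (dual_inv_inv φ₁))
  have hr1 : (1 : ↥K →* ℂˣ)⁻¹ = 1 := dual_inv_one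
  have hne : ∀ x y : ↥K →* ℂˣ, x⁻¹ = x → y⁻¹ ≠ y → x ≠ y := by
    intro x y hx hy hxy
    rw [hxy] at hx
    exact hy hx
  have e1 : (1 : ↥K →* ℂˣ) ≠ σ := hσ1.symm
  have e2 : (1 : ↥K →* ℂˣ) ≠ φ₀ := hne _ _ hr1 h₀
  have e3 : (1 : ↥K →* ℂˣ) ≠ φ₀⁻¹ := hne _ _ hr1 hi₀
  have e4 : (1 : ↥K →* ℂˣ) ≠ φ₁ := hne _ _ hr1 h₁
  have e5 : (1 : ↥K →* ℂˣ) ≠ φ₁⁻¹ := hne _ _ hr1 hi₁
  have e6 : σ ≠ φ₀ := hne _ _ hσr h₀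
  have e7 : σ ≠ φ₀⁻¹ := hne _ _ hσr hi₀
  have e8 : σ ≠ φ₁ := hne _ _ hσr h₁
  have e9 : σ ≠ φ₁⁻¹ := hne _ _ hσr hi₁
  have e10 : φ₀ ≠ φ₀⁻¹ := fun h => h₀ h.symm
  have e11 : φ₀ ≠ φ₁ := fun h => h₁₀ h.symm
  have e12 : φ₀ ≠ φ₁⁻¹ := by
    intro h
    apply h₁₀'
    rw [h]
    exact (dual_inv_inv φ₁).symm
  have e13 : φ₀⁻¹ ≠ φ₁ := fun h => h₁₀' h.symm
  have e14 : φ₀⁻¹ ≠ φ₁⁻¹ := by
    intro h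
    apply h₁₀
    have h2 : φ₀⁻¹⁻¹ = φ₁⁻¹⁻¹ := by rw [h]
    exact ((dual_inv_inv φ₁).symm.trans h2.symm).trans (dual_inv_inv φ₀)
  have e15 : φ₁ ≠ φ₁⁻¹ := fun h => h₁ h.symm
  -- sums over the six characters
  have hu : (Finset.univ : Finset (↥K →* ℂˣ)) = {1, σ, φ₀, φ₀⁻¹, φ₁, φ₁⁻¹} := by
    ext φ
    simp only [Finset.mem_univ, Finset.mem_insert, Finset.mem_singleton, true_iff]
    exact hC.hall φ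
  have hsix : ∀ g : (↥K →* ℂˣ) → ℂ, ∑ φ : ↥K →* ℂˣ, g φ =
      g 1 + g σ + g φ₀ + g φ₀⁻¹ + g φ₁ + g φ₁⁻¹ := by
    intro g
    rw [hu, Finset.sum_insert (by simp [e1, e2, e3, e4, e5]),
      Finset.sum_insert (by simp [e6, e7, e8, e9]),
      Finset.sum_insert (by simp [e10, e11, e12]),
      Finset.sum_insert (by simp [e13, e14]),
      Finset.sum_insert (by simp [e15]), Finset.sum_singleton]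
    ring
  -- values of `v`
  have vσΛ : v σ Λ = δ := by
    rw [hC.hσ Λ, if_neg hC.hΛo, if_pos rfl, if_neg hC.hΓ₁Λ.symm, if_neg hC.hΓ₂Λ.symm]
    ring
  have v0Λ : v φ₀ Λ = δ := by
    rw [hC.hv₀ Λ, if_neg hC.hΛo, if_pos rfl, if_neg hC.hΘΛ.symm]
    ring
  have v1Λ : v φ₁ Λ = 0 := by
    rw [hC.hv₁ Λ, if_neg hC.hΛo, if_neg hC.hΘΛ.symm, if_neg hC.hΓ₁Λ.symm]
    ring
  have vσΓ : v σ Γ₁ = δ₁ := by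
    rw [hC.hσ Γ₁, if_neg hC.hΓ₁o, if_neg hC.hΓ₁Λ, if_pos rfl, if_neg hC.hΓ]
    ring
  have v0Γ : v φ₀ Γ₁ = 0 := by
    rw [hC.hv₀ Γ₁, if_neg hC.hΓ₁o, if_neg hC.hΓ₁Λ, if_neg hC.hΓ₁Θ]
    ring
  have v1Γ : v φ₁ Γ₁ = δ₁ := by
    rw [hC.hv₁ Γ₁, if_neg hC.hΓ₁o, if_neg hC.hΓ₁Θ, if_pos rfl]
    ring
  -- values at `t`
  have hΛt : Λ.1 t = (δ : ℂ) * (((σ ⟨t, hB.htK⟩ : ℂˣ) : ℂ) + 2 * ((φ₀ ⟨t, hB.htK⟩ : ℂˣ) : ℂ)) := by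
    have h := hv.val Λ ⟨t, hB.htK⟩ ht1
    rw [hsix, hv.inv φ₀, hv.inv φ₁, hv.one, vσΛ, v0Λ, v1Λ, lin_inv_t hB φ₀] at h
    rw [h]
    push_cast
    ring
  have hΓt : Γ₁.1 t = (δ₁ : ℂ) * (((σ ⟨t, hB.htK⟩ : ℂˣ) : ℂ) + 2 * ((φ₁ ⟨t, hB.htK⟩ : ℂˣ) : ℂ)) := by
    have h := hv.val Γ₁ ⟨t, hB.htK⟩ ht1
    rw [hsix, hv.inv φ₀, hv.inv φ₁, hv.one, vσΓ, v0Γ, v1Γ, lin_inv_t hB φ₁] at h
    rw [h]
    push_cast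
    ring
  have hD : (1 : ℂ) + ((σ ⟨t, hB.htK⟩ : ℂˣ) : ℂ) + 2 * ((φ₀ ⟨t, hB.htK⟩ : ℂˣ) : ℂ) +
      2 * ((φ₁ ⟨t, hB.htK⟩ : ℂˣ) : ℂ) = 0 := by
    have h := hsum ⟨t, hB.htK⟩ ht1
    rw [hsix, lin_inv_t hB φ₀, lin_inv_t hB φ₁] at h
    rw [← h]
    simp only [MonoidHom.one_apply, Units.val_one]
    ring
  -- abbreviations
  obtain ⟨c, hc⟩ : ∃ c : ℂ, c = ((σ ⟨t, hB.htK⟩ : ℂˣ) : ℂ) := ⟨_, rfl⟩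
  obtain ⟨a, ha⟩ : ∃ a : ℂ, a = ((φ₀ ⟨t, hB.htK⟩ : ℂˣ) : ℂ) := ⟨_, rfl⟩
  obtain ⟨b, hb⟩ : ∃ b : ℂ, b = ((φ₁ ⟨t, hB.htK⟩ : ℂˣ) : ℂ) := ⟨_, rfl⟩
  have hcc : c * c = 1 := by rw [hc]; exact lin_t_sq hB σ
  have haa : a * a = 1 := by rw [ha]; exact lin_t_sq hB φ₀
  have hbb : b * b = 1 := by rw [hb]; exact lin_t_sq hB φ₁
  rw [← hc, ← ha] at hΛt
  rw [← hc, ← hb] at hΓt
  rw [← hc, ← ha, ← hb] at hD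
  -- the key relation
  have hN : (Nat.card G : ℂ) ≠ 0 := by
    have : 0 < Nat.card G := Nat.card_pos
    exact_mod_cast this.ne'
  have k0 := key1 hPairK hIndep hDual hB hk hv φ₀ e2.symm
  have k1 := key1 hPairK hIndep hDual hB hk hv φ₁ e4.symm
  have hre : ∀ φ : ↥K →* ℂˣ, ∑ ψ : IrrCharacter G, ψ.1 t * ψ.1 t * (v φ ψ : ℂ) / ψ.1 1 =
      ∑ ψ : IrrCharacter G, (v φ ψ : ℂ) * (ψ.1 t * ψ.1 t / ψ.1 1) := fun φ =>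
    Finset.sum_congr rfl fun ψ _ => by ring
  rw [hre, sum3 o Λ Θ δ ε (v φ₀) hC.hv₀] at k0
  rw [hre, sum3 o Θ Γ₁ ε δ₁ (v φ₁) hC.hv₁] at k1
  have hkey : (δ : ℂ) * (Λ.1 t * Λ.1 t / Λ.1 1) = (δ₁ : ℂ) * (Γ₁.1 t * Γ₁.1 t / Γ₁.1 1) := by
    have h := mul_left_cancel₀ hN (k0.trans k1.symm)
    linear_combination h
  -- degrees
  have g0 := hv.deg φ₀
  have g1 := hv.deg φ₁
  rw [sum3 o Λ Θ δ ε (v φ₀) hC.hv₀] at g0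
  rw [sum3 o Θ Γ₁ ε δ₁ (v φ₁) hC.hv₁] at g1
  rw [hd Λ, hd Θ] at g0
  rw [hd Θ, hd Γ₁] at g1
  have hdd : δ * (d Λ : ℤ) = δ₁ * (d Γ₁ : ℤ) := by
    have : ((δ * (d Λ : ℤ) : ℤ) : ℂ) = ((δ₁ * (d Γ₁ : ℤ) : ℤ) : ℂ) := by
      push_cast
      linear_combination g0 - g1
    exact_mod_cast this
  have hpΛ : (0 : ℤ) < d Λ := by exact_mod_cast hdpos Λ
  have hpΓ : (0 : ℤ) < d Γ₁ := by exact_mod_cast hdpos Γ₁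
  have hδδ : δ = δ₁ ∧ (d Λ : ℤ) = d Γ₁ := by
    rcases hC.hδ with h | h <;> rcases hC.hδ₁ with h' | h' <;> rw [h, h'] at hdd
    · exact ⟨by rw [h, h'], by omega⟩
    · exfalso; omega
    · exfalso; omega
    · exact ⟨by rw [h, h'], by omega⟩
  obtain ⟨hδ1, hdΛΓ⟩ := hδδ
  have hdΛΓ' : d Λ = d Γ₁ := by exact_mod_cast hdΛΓ
  have hδ2 : (δ : ℂ) * (δ : ℂ) = 1 := by
    rcases hC.hδ with h | h <;> rw [h] <;> norm_num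
  have hdne : (d Γ₁ : ℂ) ≠ 0 := by
    have := hdpos Γ₁
    exact_mod_cast this.ne'
  rw [hd Λ, hd Γ₁, hdΛΓ', ← hδ1, hΛt, hΓt, ← hδ1] at hkey
  have hsq : (c + 2 * a) * (c + 2 * a) = (c + 2 * b) * (c + 2 * b) := by
    calc (c + 2 * a) * (c + 2 * a)
        = ((δ : ℂ) * (δ : ℂ)) * ((δ : ℂ) * (δ : ℂ)) * ((c + 2 * a) * (c + 2 * a)) := by
          rw [hδ2]; ring
      _ = (δ : ℂ) * (d Γ₁ : ℂ) * ((δ : ℂ) * ((δ : ℂ) * (c + 2 * a) * ((δ : ℂ) * (c + 2 * a)) /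
            (d Γ₁ : ℂ))) := by
          field_simp
      _ = (δ : ℂ) * (d Γ₁ : ℂ) * ((δ : ℂ) * ((δ : ℂ) * (c + 2 * b) * ((δ : ℂ) * (c + 2 * b)) /
            (d Γ₁ : ℂ))) := by
          rw [hkey]
      _ = ((δ : ℂ) * (δ : ℂ)) * ((δ : ℂ) * (δ : ℂ)) * ((c + 2 * b) * (c + 2 * b)) := by
          field_simp
      _ = (c + 2 * b) * (c + 2 * b) := by
          rw [hδ2]; ring
  have hab : a = b := by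
    linear_combination (c / 4) * hsq - (a - b) * hcc - c * haa + c * hbb
  rw [← hab] at hD
  rcases mul_self_eq_one_iff.mp hcc with h | h <;> rcases mul_self_eq_one_iff.mp haa with h' | h' <;>
    rw [h, h'] at hD <;> norm_num at hD

end Cfsg.Agent.Lib.Helper17.BSWConfigIIFalse
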