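import Mathlib
import Cfsg.Agent.Lib.Helper17.BSWConfI

/-!
Piece `ConfigINum` of S3282 (Brauer--Suzuki--Wall): signs, degrees and the group order in the
generic configuration.
-/

set_option autoImplicit false

namespace Cfsg.Agent.Lib.Helper17.BSWConfigINum

open Cfsg Cfsg.Agent.Lib.Helper25.BSWSpec Cfsg.Agent.Lib.Helper17.BSWCore
  Cfsg.Agent.Lib.Helper17.BSWConfI
open scoped ComplexConjugate

universe u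

theorem fin_pos (n c k : ℝ) (hc : 1 ≤ c) (hk : 4 ≤ k)
    (S : 2 * (1 + (2 * c + 1) ^ 2 + c ^ 2 + c ^ 2) + (k - 2) * (2 * c) ^ 2 ≤ 2 * n)
    (h : 4 * n ≤ 2 * k * c * (2 * c + 1)) : False := by
  have h1 : 0 ≤ k * c * (2 * c - 1) :=
    mul_nonneg (mul_nonneg (by linarith) (by linarith)) (by linarith)
  nlinarith [sq_nonneg c]

theorem fin_neg (n c k : ℝ) (hc : 1 ≤ c) (hk : 4 ≤ k)
    (S : 2 * (1 + (2 * c + -1) ^ 2 + c ^ 2 + c ^ 2) + (k - 2) * (2 * c) ^ 2 ≤ 2 * n)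
    (h : 4 * n ≤ 2 * k * c * (2 * c + -1)) : False := by
  have h1 : 0 < k * c * (2 * c + 1) :=
    mul_pos (mul_pos (by linarith) (by linarith)) (by linarith)
  nlinarith [sq_nonneg (c - 1)]

theorem numA (n l c1 c2 θ : ℝ) (k : ℕ) (δ ε δ₁ δ₂ : ℤ)
    (hn : 0 < n) (hl : 1 ≤ l) (hc1 : 1 ≤ c1) (hc2 : 1 ≤ c2) (hθ : 1 ≤ θ)
    (hδ : δ = 1 ∨ δ = -1) (hε : ε = 1 ∨ ε = -1) (hδ₁ : δ₁ = 1 ∨ δ₁ = -1)
    (hδ₂ : δ₂ = 1 ∨ δ₂ = -1)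
    (D1 : -1 + (δ : ℝ) * l + (ε : ℝ) * θ = 0)
    (D2 : -1 + (δ : ℝ) * l + (δ₁ : ℝ) * c1 + (δ₂ : ℝ) * c2 = 0)
    (E1 : n * (-1 + (δ : ℝ) * (1 / l) + (ε : ℝ) * (4 / θ)) = -(4 * (k : ℝ) ^ 3))
    (E2 : n * (-1 + (δ : ℝ) * (1 / l) + (δ₁ : ℝ) * (1 / c1) + (δ₂ : ℝ) * (1 / c2)) =
      -(4 * (k : ℝ) ^ 3)) :
    ε = -δ ∧ δ₁ = -δ ∧ δ₂ = -δ ∧ c1 = c2 := by
  have hl0 : l ≠ 0 := by linarith
  have hc10 : c1 ≠ 0 := by linarith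
  have hc20 : c2 ≠ 0 := by linarith
  have hθ0 : θ ≠ 0 := by linarith
  have hεδ : ε = -δ := by
    rcases hδ with rfl | rfl <;> rcases hε with rfl | rfl
    · exfalso; push_cast at D1; linarith
    · rfl
    · rfl
    · exfalso; push_cast at D1; linarith
  subst hεδ
  have H1 : (δ₁ : ℝ) * c1 + (δ₂ : ℝ) * c2 = ((-δ : ℤ) : ℝ) * θ := by linarith
  have H2 : 4 * ((-δ : ℤ) : ℝ) * c1 * c2 = θ * ((δ₁ : ℝ) * c2 + (δ₂ : ℝ) * c1) := by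
    have h := mul_left_cancel₀ hn.ne' (E1.trans E2.symm)
    have h3 : ((-δ : ℤ) : ℝ) * (4 / θ) = (δ₁ : ℝ) * (1 / c1) + (δ₂ : ℝ) * (1 / c2) := by linarith
    calc 4 * ((-δ : ℤ) : ℝ) * c1 * c2 = (((-δ : ℤ) : ℝ) * (4 / θ)) * (θ * c1 * c2) := by
          field_simp
      _ = ((δ₁ : ℝ) * (1 / c1) + (δ₂ : ℝ) * (1 / c2)) * (θ * c1 * c2) := by rw [h3]
      _ = θ * ((δ₁ : ℝ) * c2 + (δ₂ : ℝ) * c1) := by
          field_simp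
  have hc1p : 0 < c1 := by linarith
  have hc2p : 0 < c2 := by linarith
  have hcc : 0 < c1 * c2 := mul_pos hc1p hc2p
  clear E1 E2 D1 D2
  rcases hδ with rfl | rfl <;> rcases hδ₁ with rfl | rfl <;> rcases hδ₂ with rfl | rfl <;>
    push_cast at H1 H2
  · exfalso; linarith
  · exfalso; nlinarith [sq_nonneg θ]
  · exfalso; nlinarith [sq_nonneg θ]
  · refine ⟨rfl, rfl, rfl, ?_⟩
    have h : (c1 - c2) ^ 2 = 0 := by nlinarith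
    have h' : c1 - c2 = 0 := by simpa using h
    linarith
  · refine ⟨rfl, rfl, rfl, ?_⟩
    have h : (c1 - c2) ^ 2 = 0 := by nlinarith
    have h' : c1 - c2 = 0 := by simpa using h
    linarith
  · exfalso; nlinarith [sq_nonneg θ]
  · exfalso; nlinarith [sq_nonneg θ]
  · exfalso; linarith

theorem numB (n l c1 θ : ℝ) (k m : ℕ) (δ : ℤ)
    (hn : 0 < n) (hc1 : 1 ≤ c1) (hk : 4 ≤ k)
    (hδ : δ = 1 ∨ δ = -1)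
    (D1 : -1 + (δ : ℝ) * l + ((-δ : ℤ) : ℝ) * θ = 0)
    (D2 : -1 + (δ : ℝ) * l + ((-δ : ℤ) : ℝ) * c1 + ((-δ : ℤ) : ℝ) * c1 = 0)
    (E1 : n * (-1 + (δ : ℝ) * (1 / l) + ((-δ : ℤ) : ℝ) * (4 / θ)) = -(4 * (k : ℝ) ^ 3))
    (C1 : c1 = (k : ℝ) * (m : ℝ) + ((-δ : ℤ) : ℝ))
    (S : 2 * (1 + l ^ 2 + c1 ^ 2 + c1 ^ 2) + ((k : ℝ) - 2) * θ ^ 2 ≤ 2 * n) :
    l = 2 * (k : ℝ) - (δ : ℝ) ∧ c1 = (k : ℝ) - (δ : ℝ) ∧ θ = 2 * ((k : ℝ) - (δ : ℝ)) ∧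
      n = 2 * (k : ℝ) * ((k : ℝ) - (δ : ℝ)) * (2 * (k : ℝ) - (δ : ℝ)) := by
  have hkR : (4 : ℝ) ≤ k := by exact_mod_cast hk
  have hc1p : 0 < c1 := by linarith
  have hδR : (δ : ℝ) = 1 ∨ (δ : ℝ) = -1 := by
    rcases hδ with rfl | rfl
    · left; norm_num
    · right; norm_num
  have hθc : θ = 2 * c1 := by
    rcases hδ with rfl | rfl <;> push_cast at D1 D2 <;> linarith
  subst hθc
  have hlc : l = 2 * c1 + (δ : ℝ) := by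
    rcases hδ with rfl | rfl <;> push_cast at D1 ⊢ <;> linarith
  subst hlc
  have hl0 : 2 * c1 + (δ : ℝ) ≠ 0 := by
    rcases hδR with h | h <;> rw [h] <;> linarith
  have hl0' : c1 * 2 + (δ : ℝ) ≠ 0 := by rwa [mul_comm]
  have hkm : (k : ℝ) * (m : ℝ) = c1 + (δ : ℝ) := by
    rw [C1]; push_cast; ring
  have E1' : n * (c1 + (δ : ℝ)) ^ 2 = 2 * (k : ℝ) ^ 3 * c1 * (2 * c1 + (δ : ℝ)) := by
    have key : (-1 + (δ : ℝ) * (1 / (2 * c1 + (δ : ℝ))) + ((-δ : ℤ) : ℝ) * (4 / (2 * c1))) =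
        -2 * (c1 + (δ : ℝ)) ^ 2 / ((2 * c1 + (δ : ℝ)) * c1) := by
      push_cast
      field_simp
      ring
    rw [key] at E1
    calc n * (c1 + (δ : ℝ)) ^ 2
        = (n * (-2 * (c1 + (δ : ℝ)) ^ 2 / ((2 * c1 + (δ : ℝ)) * c1))) *
            (-((2 * c1 + (δ : ℝ)) * c1) / 2) := by
          field_simp
      _ = -(4 * (k : ℝ) ^ 3) * (-((2 * c1 + (δ : ℝ)) * c1) / 2) := by rw [E1]
      _ = 2 * (k : ℝ) ^ 3 * c1 * (2 * c1 + (δ : ℝ)) := by ring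
  have hk0 : (0 : ℝ) < k := by linarith
  have hnm : n * (m : ℝ) ^ 2 = 2 * (k : ℝ) * c1 * (2 * c1 + (δ : ℝ)) := by
    have h : (k : ℝ) ^ 2 * (n * (m : ℝ) ^ 2) =
        (k : ℝ) ^ 2 * (2 * (k : ℝ) * c1 * (2 * c1 + (δ : ℝ))) := by
      rw [← hkm] at E1'
      linear_combination E1'
    exact mul_left_cancel₀ (pow_ne_zero 2 hk0.ne') h
  have hpos : 0 < 2 * (k : ℝ) * c1 * (2 * c1 + (δ : ℝ)) := by
    have : 0 < 2 * c1 + (δ : ℝ) := by rcases hδR with h | h <;> rw [h] <;> linarith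
    positivity
  have hm1 : m = 1 := by
    rcases Nat.lt_or_ge m 2 with hm | hm
    · interval_cases m
      · exfalso
        have h0 : n * (((0 : ℕ) : ℝ)) ^ 2 = 0 := by norm_num
        rw [h0] at hnm
        linarith
      · rfl
    · exfalso
      have hmR : (2 : ℝ) ≤ m := by exact_mod_cast hm
      have h4 : 4 * n ≤ n * (m : ℝ) ^ 2 := by
        nlinarith [mul_nonneg (mul_nonneg hn.le (sub_nonneg.mpr hmR))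
          (by linarith : (0 : ℝ) ≤ (m : ℝ) + 2)]
      rw [hnm] at h4
      rcases hδR with h | h <;> rw [h] at h4 S
      · exact fin_pos n c1 k hc1 hkR S h4
      · exact fin_neg n c1 k hc1 hkR S h4
  subst hm1
  have hc : c1 = (k : ℝ) - (δ : ℝ) := by
    have := hkm
    push_cast at this
    linarith
  refine ⟨?_, hc, ?_, ?_⟩
  · rw [hc]; ring
  · rw [hc]
  · have h := hnm
    rw [hc] at h
    push_cast at h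
    linear_combination h

theorem num_core (n l c1 c2 θ : ℝ) (k m : ℕ) (δ ε δ₁ δ₂ : ℤ)
    (hn : 0 < n) (hl : 1 ≤ l) (hc1 : 1 ≤ c1) (hc2 : 1 ≤ c2) (hθ : 1 ≤ θ) (hk : 4 ≤ k)
    (hδ : δ = 1 ∨ δ = -1) (hε : ε = 1 ∨ ε = -1) (hδ₁ : δ₁ = 1 ∨ δ₁ = -1)
    (hδ₂ : δ₂ = 1 ∨ δ₂ = -1)
    (D1 : -1 + (δ : ℝ) * l + (ε : ℝ) * θ = 0)
    (D2 : -1 + (δ : ℝ) * l + (δ₁ : ℝ) * c1 + (δ₂ : ℝ) * c2 = 0)
    (E1 : n * (-1 + (δ : ℝ) * (1 / l) + (ε : ℝ) * (4 / θ)) = -(4 * (k : ℝ) ^ 3))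
    (E2 : n * (-1 + (δ : ℝ) * (1 / l) + (δ₁ : ℝ) * (1 / c1) + (δ₂ : ℝ) * (1 / c2)) =
      -(4 * (k : ℝ) ^ 3))
    (C1 : c1 = (k : ℝ) * (m : ℝ) + (δ₁ : ℝ))
    (S : 2 * (1 + l ^ 2 + c1 ^ 2 + c2 ^ 2) + ((k : ℝ) - 2) * θ ^ 2 ≤ 2 * n) :
    ε = -δ ∧ δ₁ = -δ ∧ δ₂ = -δ ∧ l = 2 * (k : ℝ) - (δ : ℝ) ∧ c1 = (k : ℝ) - (δ : ℝ) ∧
      c2 = (k : ℝ) - (δ : ℝ) ∧ θ = 2 * ((k : ℝ) - (δ : ℝ)) ∧
      n = 2 * (k : ℝ) * ((k : ℝ) - (δ : ℝ)) * (2 * (k : ℝ) - (δ : ℝ)) := by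
  obtain ⟨h1, h2, h3, h4⟩ := numA n l c1 c2 θ k δ ε δ₁ δ₂ hn hl hc1 hc2 hθ hδ hε hδ₁ hδ₂ D1 D2 E1 E2
  subst h1 h2 h3 h4
  obtain ⟨a, b, c, e⟩ := numB n l c1 θ k m δ hn hc1 hk hδ D1 D2 E1 C1 S
  exact ⟨rfl, rfl, rfl, a, b, b, c, e⟩

theorem main : ConfigINum.{u} := by
  intro hPairK hIndep hDual G _ _ t K s k _ _ v σ o hB hk hv ho hσ1 hσr hreal Λ Γ₁ Γ₂ Θ
    δ ε δ₁ δ₂ hC
  classical
  obtain ⟨hcard, hsum, ⟨φ₀, hφ₀⟩, -⟩ := hDual G t K s k hB hk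
  have hdeg : ∀ ψ : IrrCharacter G, ∃ d : ℕ, 0 < d ∧ ψ.1 1 = d := fun ψ =>
    Cfsg.Agent.Lib.Helper3.Irr.IsIrrCharacter.exists_apply_one_pos ψ.2
  choose d hdpos hd using hdeg
  have ht1 : (⟨t, hB.htK⟩ : ↥K) ≠ 1 := tK_ne_one hB
  obtain ⟨NR, hNR⟩ : ∃ NR : Finset (↥K →* ℂˣ), ∀ φ : ↥K →* ℂˣ, φ ∈ NR ↔ φ⁻¹ ≠ φ :=
    ⟨Finset.univ.filter (fun φ : ↥K →* ℂˣ => φ⁻¹ ≠ φ), fun φ => by simp⟩
  have hδ2 : (δ : ℂ) * (δ : ℂ) = 1 := by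
    rcases hC.hδ with h | h <;> rw [h] <;> norm_num
  have hε2 : (ε : ℂ) * (ε : ℂ) = 1 := by
    rcases hC.hε with h | h <;> rw [h] <;> norm_num
  have hδ₁2 : (δ₁ : ℂ) * (δ₁ : ℂ) = 1 := by
    rcases hC.hδ₁ with h | h <;> rw [h] <;> norm_num
  have hδ₂2 : (δ₂ : ℂ) * (δ₂ : ℂ) = 1 := by
    rcases hC.hδ₂ with h | h <;> rw [h] <;> norm_num
  have hdo : d o = 1 := by
    have h := hd o
    rw [ho 1] at h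
    exact_mod_cast h.symm
  -- values at `t`
  have hΛt : Λ.1 t = -(δ : ℂ) := Λ_val hv hreal hC ⟨t, hB.htK⟩ ht1 (hsum _ ht1)
  have hΓ₁t : Γ₁.1 t = (δ₁ : ℂ) * ((σ ⟨t, hB.htK⟩ : ℂˣ) : ℂ) :=
    Γ₁_val hv hσ1 hσr hreal hC ⟨t, hB.htK⟩ ht1
  have hΓ₂t : Γ₂.1 t = (δ₂ : ℂ) * ((σ ⟨t, hB.htK⟩ : ℂˣ) : ℂ) :=
    Γ₂_val hv hσ1 hσr hreal hC ⟨t, hB.htK⟩ ht1
  have hΘt : ∀ φ : ↥K →* ℂˣ, φ⁻¹ ≠ φ → (Θ φ).1 t =
      (ε : ℂ) * (((φ ⟨t, hB.htK⟩ : ℂˣ) : ℂ) + ((φ ⟨t, hB.htK⟩ : ℂˣ) : ℂ)) := by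
    intro φ hφ
    have h := Θ_val hv hσr hreal hC φ hφ ⟨t, hB.htK⟩ ht1
    rw [lin_inv_t hB φ] at h
    exact h
  have hre : ∀ φ : ↥K →* ℂˣ, ∑ ψ : IrrCharacter G, ψ.1 t * ψ.1 t * (v φ ψ : ℂ) / ψ.1 1 =
      ∑ ψ : IrrCharacter G, (v φ ψ : ℂ) * (ψ.1 t * ψ.1 t / ψ.1 1) := fun φ =>
    Finset.sum_congr rfl fun ψ _ => by ring
  have e1 : (-(δ : ℂ)) * (-(δ : ℂ)) = 1 := by linear_combination hδ2
  -- the relations from `PairK`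
  have hE1 : ∀ φ : ↥K →* ℂˣ, φ⁻¹ ≠ φ → (Nat.card G : ℂ) *
      (-1 + (δ : ℂ) * (1 / (d Λ : ℂ)) + (ε : ℂ) * (4 / (d (Θ φ) : ℂ))) = -(4 * (k : ℂ) ^ 3) := by
    intro φ hφ
    have hφ1 : φ ≠ 1 := by
      rintro rfl
      exact hφ dual_inv_one
    have h := key1 hPairK hIndep hDual hB hk hv φ hφ1
    rw [hre, sum3 o Λ (Θ φ) δ ε (v φ) (hC.hv φ hφ), ho t, ho 1, hΛt, hΘt φ hφ, hd Λ,
      hd (Θ φ)] at h
    have haa := lin_t_sq hB φ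
    have e2 : (ε : ℂ) * (((φ ⟨t, hB.htK⟩ : ℂˣ) : ℂ) + ((φ ⟨t, hB.htK⟩ : ℂˣ) : ℂ)) *
        ((ε : ℂ) * (((φ ⟨t, hB.htK⟩ : ℂˣ) : ℂ) + ((φ ⟨t, hB.htK⟩ : ℂˣ) : ℂ))) = 4 := by
      linear_combination 4 * ((ε : ℂ) * (ε : ℂ)) * haa + 4 * hε2
    rw [e1, e2] at h
    rw [← h]
    ring
  have hE2 : (Nat.card G : ℂ) * (-1 + (δ : ℂ) * (1 / (d Λ : ℂ)) + (δ₁ : ℂ) * (1 / (d Γ₁ : ℂ)) +
      (δ₂ : ℂ) * (1 / (d Γ₂ : ℂ))) = -(4 * (k : ℂ) ^ 3) := by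
    have h := key1 hPairK hIndep hDual hB hk hv σ hσ1
    rw [hre, sum4 o Λ Γ₁ Γ₂ δ δ₁ δ₂ (v σ) hC.hσ, ho t, ho 1, hΛt, hΓ₁t, hΓ₂t, hd Λ, hd Γ₁,
      hd Γ₂] at h
    have hcc := lin_t_sq hB σ
    have e3 : (δ₁ : ℂ) * ((σ ⟨t, hB.htK⟩ : ℂˣ) : ℂ) * ((δ₁ : ℂ) * ((σ ⟨t, hB.htK⟩ : ℂˣ) : ℂ)) = 1 := by
      linear_combination ((δ₁ : ℂ) * (δ₁ : ℂ)) * hcc + hδ₁2
    have e4 : (δ₂ : ℂ) * ((σ ⟨t, hB.htK⟩ : ℂˣ) : ℂ) * ((δ₂ : ℂ) * ((σ ⟨t, hB.htK⟩ : ℂˣ) : ℂ)) = 1 := by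
      linear_combination ((δ₂ : ℂ) * (δ₂ : ℂ)) * hcc + hδ₂2
    rw [e1, e3, e4] at h
    rw [← h]
    ring
  -- the degree relations
  have hD1 : ∀ φ : ↥K →* ℂˣ, φ⁻¹ ≠ φ →
      -1 + (δ : ℂ) * (d Λ : ℂ) + (ε : ℂ) * (d (Θ φ) : ℂ) = 0 := by
    intro φ hφ
    have h := hv.deg φ
    rw [sum3 o Λ (Θ φ) δ ε (v φ) (hC.hv φ hφ), ho 1, hd Λ, hd (Θ φ)] at h
    exact h
  have hD2 : -1 + (δ : ℂ) * (d Λ : ℂ) + (δ₁ : ℂ) * (d Γ₁ : ℂ) + (δ₂ : ℂ) * (d Γ₂ : ℂ) = 0 := by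
    have h := hv.deg σ
    rw [sum4 o Λ Γ₁ Γ₂ δ δ₁ δ₂ (v σ) hC.hσ, ho 1, hd Λ, hd Γ₁, hd Γ₂] at h
    exact h
  -- the congruence for `Γ₁`
  obtain ⟨m, hm⟩ := hv.cong Γ₁
  rw [sum_vΓ₁ hv hσ1 hσr hreal hC, hd Γ₁] at hm
  -- all `Θ φ` have the same degree
  have hΘeq : ∀ φ : ↥K →* ℂˣ, φ⁻¹ ≠ φ → d (Θ φ) = d (Θ φ₀) := by
    intro φ hφ
    have h1 := hD1 φ hφ
    have h2 := hD1 φ₀ hφ₀
    have h3 : (ε : ℂ) * (d (Θ φ) : ℂ) = (ε : ℂ) * (d (Θ φ₀) : ℂ) := by linear_combination h1 - h2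
    have hε0 : (ε : ℂ) ≠ 0 := by
      intro h0
      rw [h0] at hε2
      simp at hε2
    exact_mod_cast mul_left_cancel₀ hε0 h3
  -- the sum of the squares of the degrees
  have hsq : ∑ ψ : IrrCharacter G, d ψ ^ 2 = Nat.card G := by
    have h := Cfsg.Agent.Lib.CT.Orth.sum_apply_one_sq_sum (G := G)
    simp_rw [hd] at h
    exact_mod_cast h
  have hcardNR : NR.card + 2 = k := (card_NR hσ1 hσr hreal NR hNR).trans hcard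
  have hS : 2 * (1 + d Λ ^ 2 + d Γ₁ ^ 2 + d Γ₂ ^ 2) + NR.card * d (Θ φ₀) ^ 2 ≤
      2 * Nat.card G := by
    have hdisj : Disjoint ({o, Λ, Γ₁, Γ₂} : Finset (IrrCharacter G)) (NR.image Θ) := by
      rw [Finset.disjoint_left]
      intro ψ hψ hψT
      obtain ⟨φ, hφ, rfl⟩ := Finset.mem_image.mp hψT
      have h := hC.hΘ φ ((hNR φ).mp hφ)
      simp only [Finset.mem_insert, Finset.mem_singleton] at hψ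
      rcases hψ with h' | h' | h' | h'
      · exact h.1 h'
      · exact h.2.1 h'
      · exact h.2.2.1 h'
      · exact h.2.2.2.1 h'
    have h1 : ∑ ψ ∈ ({o, Λ, Γ₁, Γ₂} : Finset (IrrCharacter G)), d ψ ^ 2 =
        1 + d Λ ^ 2 + d Γ₁ ^ 2 + d Γ₂ ^ 2 := by
      rw [Finset.sum_insert (by simp [hC.hΛo.symm, hC.hΓ₁o.symm, hC.hΓ₂o.symm]),
        Finset.sum_insert (by simp [hC.hΓ₁Λ.symm, hC.hΓ₂Λ.symm]),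
        Finset.sum_insert (by simp [hC.hΓ]), Finset.sum_singleton, hdo]
      ring
    have h2 : ∑ φ ∈ NR, d (Θ φ) ^ 2 ≤ 2 * ∑ ψ ∈ NR.image Θ, d ψ ^ 2 := by
      rw [Finset.sum_comp (fun ψ => d ψ ^ 2) Θ, Finset.mul_sum]
      apply Finset.sum_le_sum
      intro ψ hψ
      obtain ⟨φ₁, hφ₁, rfl⟩ := Finset.mem_image.mp hψ
      have hsub : (NR.filter (fun a => Θ a = Θ φ₁)) ⊆ {φ₁, φ₁⁻¹} := by
        intro a ha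
        rw [Finset.mem_filter] at ha
        have h := hC.hΘinj φ₁ a ((hNR φ₁).mp hφ₁) ((hNR a).mp ha.1) ha.2.symm
        simp only [Finset.mem_insert, Finset.mem_singleton]
        exact h
      have hcard2 : (NR.filter (fun a => Θ a = Θ φ₁)).card ≤ 2 :=
        (Finset.card_le_card hsub).trans Finset.card_le_two
      rw [smul_eq_mul]
      exact Nat.mul_le_mul_right _ hcard2
    have h3 : ∑ ψ ∈ ({o, Λ, Γ₁, Γ₂} : Finset (IrrCharacter G)), d ψ ^ 2 +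
        ∑ ψ ∈ NR.image Θ, d ψ ^ 2 ≤ Nat.card G := by
      rw [← Finset.sum_union hdisj, ← hsq]
      exact Finset.sum_le_sum_of_subset (Finset.subset_univ _)
    have h4 : ∑ φ ∈ NR, d (Θ φ) ^ 2 = NR.card * d (Θ φ₀) ^ 2 := by
      rw [Finset.sum_congr rfl (fun φ hφ => by rw [hΘeq φ ((hNR φ).mp hφ)]), Finset.sum_const,
        smul_eq_mul]
    rw [h1] at h3
    rw [h4] at h2
    omega
  -- transfer to the reals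
  have hnR : (0 : ℝ) < (Nat.card G : ℝ) := by
    have : 0 < Nat.card G := Nat.card_pos
    exact_mod_cast this
  have one_le : ∀ ψ : IrrCharacter G, (1 : ℝ) ≤ (d ψ : ℝ) := fun ψ => by
    have := hdpos ψ
    exact_mod_cast this
  have D1R : -1 + (δ : ℝ) * (d Λ : ℝ) + (ε : ℝ) * (d (Θ φ₀) : ℝ) = 0 := by
    apply Complex.ofReal_injective
    push_cast
    exact hD1 φ₀ hφ₀
  have D2R : -1 + (δ : ℝ) * (d Λ : ℝ) + (δ₁ : ℝ) * (d Γ₁ : ℝ) + (δ₂ : ℝ) * (d Γ₂ : ℝ) = 0 := by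
    apply Complex.ofReal_injective
    push_cast
    exact hD2
  have E1R : (Nat.card G : ℝ) * (-1 + (δ : ℝ) * (1 / (d Λ : ℝ)) +
      (ε : ℝ) * (4 / (d (Θ φ₀) : ℝ))) = -(4 * (k : ℝ) ^ 3) := by
    apply Complex.ofReal_injective
    push_cast
    exact hE1 φ₀ hφ₀
  have E2R : (Nat.card G : ℝ) * (-1 + (δ : ℝ) * (1 / (d Λ : ℝ)) + (δ₁ : ℝ) * (1 / (d Γ₁ : ℝ)) +
      (δ₂ : ℝ) * (1 / (d Γ₂ : ℝ))) = -(4 * (k : ℝ) ^ 3) := by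
    apply Complex.ofReal_injective
    push_cast
    exact hE2
  have C1R : (d Γ₁ : ℝ) = (k : ℝ) * (m : ℝ) + (δ₁ : ℝ) := by
    apply Complex.ofReal_injective
    push_cast
    exact hm
  have SR : 2 * (1 + (d Λ : ℝ) ^ 2 + (d Γ₁ : ℝ) ^ 2 + (d Γ₂ : ℝ) ^ 2) +
      ((k : ℝ) - 2) * (d (Θ φ₀) : ℝ) ^ 2 ≤ 2 * (Nat.card G : ℝ) := by
    have h := (Nat.cast_le (α := ℝ)).mpr hS
    push_cast at h
    have hc : (NR.card : ℝ) = (k : ℝ) - 2 := by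
      have h' : ((NR.card + 2 : ℕ) : ℝ) = (k : ℝ) := by rw [hcardNR]
      push_cast at h'
      linarith
    rw [hc] at h
    exact h
  obtain ⟨r1, r2, r3, r4, r5, r6, r7, r8⟩ := num_core (Nat.card G : ℝ) (d Λ : ℝ) (d Γ₁ : ℝ)
    (d Γ₂ : ℝ) (d (Θ φ₀) : ℝ) k m δ ε δ₁ δ₂ hnR (one_le Λ) (one_le Γ₁) (one_le Γ₂)
    (one_le (Θ φ₀)) hk hC.hδ hC.hε hC.hδ₁ hC.hδ₂ D1R D2R E1R E2R C1R SR
  refine ⟨r1, r2, r3, ?_, ?_, ?_, ?_, ?_⟩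
  · rw [hd Λ]
    have h := congrArg (fun x : ℝ => (x : ℂ)) r4
    push_cast at h
    exact h
  · rw [hd Γ₁]
    have h := congrArg (fun x : ℝ => (x : ℂ)) r5
    push_cast at h
    exact h
  · rw [hd Γ₂]
    have h := congrArg (fun x : ℝ => (x : ℂ)) r6
    push_cast at h
    exact h
  · intro φ hφ
    rw [hd (Θ φ), hΘeq φ hφ]
    have h := congrArg (fun x : ℝ => (x : ℂ)) r7
    push_cast at h
    exact h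
  · exact_mod_cast r8

end Cfsg.Agent.Lib.Helper17.BSWConfigINum
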