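import Mathlib
import Cfsg.Agent.Lib.Helper19.BTGen

set_option autoImplicit false

namespace Cfsg.Agent.Lib.Helper17.BTARITH

universe u

theorem dvd_q4 (q p : ℕ) (hq : 2 ≤ q) (h : p ∣ q - 1 ∨ p ∣ 1 + q ∨ p ∣ 1 + q ^ 2) :
    p ∣ q ^ 4 - 1 := by
  have h1 : q ^ 4 - 1 = (q - 1) * ((1 + q) * (1 + q ^ 2)) := by
    obtain ⟨k, rfl⟩ : ∃ k, q = k + 1 := ⟨q - 1, by omega⟩
    have : (k + 1) ^ 4 = (k + 1 - 1) * ((1 + (k + 1)) * (1 + (k + 1) ^ 2)) + 1 := by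
      simp only [Nat.add_sub_cancel]
      ring
    rw [this]
    simp
  rw [h1]
  rcases h with h | h | h
  · exact Dvd.dvd.mul_right h _
  · exact Dvd.dvd.mul_left (Dvd.dvd.mul_right h _) _
  · exact Dvd.dvd.mul_left (Dvd.dvd.mul_left h _) _

theorem main : Cfsg.Agent.Lib.Helper19.BTGen.Arith := by
  intro q p hp hq hnd
  have hnq : ¬ p ∣ q := fun h => hnd (Dvd.dvd.mul_right h _)
  have hn4 : ¬ p ∣ q ^ 4 - 1 := fun h => hnd (Dvd.dvd.mul_left h _)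
  have hnq1 : ¬ p ∣ q - 1 := fun h => hn4 (dvd_q4 q p hq (Or.inl h))
  have hnq2 : ¬ p ∣ 1 + q := fun h => hn4 (dvd_q4 q p hq (Or.inr (Or.inl h)))
  have hnq3 : ¬ p ∣ 1 + q ^ 2 := fun h => hn4 (dvd_q4 q p hq (Or.inr (Or.inr h)))
  have hB : ¬ p ∣ q ^ 12 * (q - 1) ^ 2 := by
    intro h
    rcases (Nat.Prime.dvd_mul hp).1 h with h | h
    · exact hnq (hp.dvd_of_dvd_pow h)
    · exact hnq1 (hp.dvd_of_dvd_pow h)
  refine ⟨hB, ?_, ?_⟩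
  · intro h
    have e : q ^ 12 * (q - 1) ^ 2 + q * (q ^ 12 * (q - 1) ^ 2) =
        (1 + q) * (q ^ 12 * (q - 1) ^ 2) := by ring
    rw [e] at h
    rcases (Nat.Prime.dvd_mul hp).1 h with h | h
    · exact hnq2 h
    · exact hB h
  · intro h
    have e : q ^ 12 * (q - 1) ^ 2 + q ^ 2 * (q ^ 12 * (q - 1) ^ 2) =
        (1 + q ^ 2) * (q ^ 12 * (q - 1) ^ 2) := by ring
    rw [e] at h
    rcases (Nat.Prime.dvd_mul hp).1 h with h | h
    · exact hnq3 h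
    · exact hB h

end Cfsg.Agent.Lib.Helper17.BTARITH
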