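import Mathlib
import Cfsg.Agent.Lib.Helper80.BTStmt
import Cfsg.Agent.Lib.CT.PairCount
import Cfsg.Agent.Lib.Helper3.Irr
import Cfsg.Agent.Lib.Helper80.Integrality

set_option autoImplicit false

/-! S0997 piece [GB] (second seat, helper17). -/

namespace Cfsg.Agent.Lib.Helper17.BTGB

open Cfsg Cfsg.Agent.Lib.Helper80.BTStmt
open Cfsg.Agent.Lib.Helper80.Integrality
open Cfsg.Agent.Lib.CT.Wedderburn
open scoped ComplexConjugate

universe u

theorem main : GB.{u} := by
  intro G _ _ b hb S ε hε hvan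
  classical
  have := Fintype.ofFinite G
  have hdeg : ∀ χ : IrrCharacter G, (χ : G → ℂ) 1 = (charDegree (χ : G → ℂ) : ℂ) :=
    fun χ => apply_one_eq_charDegree (isCharacter_of_irr χ.2)
  have hD : ∑ χ ∈ S, (ε χ : ℂ) * (χ : G → ℂ) 1
      = ((∑ χ ∈ S, ε χ * (charDegree (χ : G → ℂ) : ℤ) : ℤ) : ℂ) := by
    push_cast
    exact Finset.sum_congr rfl (fun χ _ => by rw [hdeg χ])
  refine ⟨?_, ?_⟩
  · -- divisibility
    obtain ⟨Q, hQ⟩ := Sylow.exists_subgroup_card_pow_prime 2 hb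
    have := Fintype.ofFinite Q
    have h1 : ∑ w : Q, ∑ χ ∈ S, (ε χ : ℂ) * (χ : G → ℂ) (w : G)
        = ∑ χ ∈ S, (ε χ : ℂ) * (χ : G → ℂ) 1 := by
      rw [Finset.sum_eq_single (1 : Q)]
      · rfl
      · intro w _ hw
        apply hvan
        have h2 : orderOf (w : G) ∣ 2 ^ b := by
          rw [Subgroup.orderOf_coe, ← hQ]
          exact orderOf_dvd_natCard w
        obtain ⟨k, -, hk⟩ := (Nat.dvd_prime_pow Nat.prime_two).mp h2
        rw [hk]
        have hk0 : k ≠ 0 := by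
          intro h0
          rw [h0, pow_zero, orderOf_eq_one_iff] at hk
          exact hw (Subtype.ext hk)
        exact dvd_pow_self 2 hk0
      · intro h
        exact absurd (Finset.mem_univ _) h
    rw [Finset.sum_comm] at h1
    choose m hm using fun χ : IrrCharacter G =>
      Cfsg.Agent.Lib.CT.PairCount.char_sum_subgroup (isCharacter_of_irr χ.2) Q
    have h3 : ((((2 : ℤ) ^ b * ∑ χ ∈ S, ε χ * (m χ : ℤ) : ℤ)) : ℂ)
        = ((∑ χ ∈ S, ε χ * (charDegree (χ : G → ℂ) : ℤ) : ℤ) : ℂ) := by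
      rw [← hD, ← h1]
      push_cast
      rw [Finset.mul_sum]
      refine Finset.sum_congr rfl (fun χ _ => ?_)
      rw [← Finset.mul_sum, hm χ, hQ]
      push_cast
      ring
    have h4 : (2 : ℤ) ^ b * ∑ χ ∈ S, ε χ * (m χ : ℤ)
        = ∑ χ ∈ S, ε χ * (charDegree (χ : G → ℂ) : ℤ) := by
      exact_mod_cast h3
    exact Dvd.intro _ h4
  · -- the bound
    have hG : (Nat.card G : ℂ) ≠ 0 := Nat.cast_ne_zero.mpr Nat.card_pos.ne'
    have horth : ∀ χ ψ : IrrCharacter G, ∑ g : G, (χ : G → ℂ) g * conj ((ψ : G → ℂ) g)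
        = if χ = ψ then (Nat.card G : ℂ) else 0 := by
      intro χ ψ
      have h := Cfsg.Agent.Lib.Helper3.Irr.irr_orthonormal χ ψ
      unfold classInner at h
      have h' := (inv_mul_eq_iff_eq_mul₀ hG).mp h
      rw [h']
      split_ifs <;> simp
    have hsum : ∑ g : G, (∑ χ ∈ S, (ε χ : ℂ) * (χ : G → ℂ) g)
        * conj (∑ ψ ∈ S, (ε ψ : ℂ) * (ψ : G → ℂ) g) = (Nat.card G : ℂ) * (S.card : ℂ) := by
      calc ∑ g : G, (∑ χ ∈ S, (ε χ : ℂ) * (χ : G → ℂ) g)
            * conj (∑ ψ ∈ S, (ε ψ : ℂ) * (ψ : G → ℂ) g)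
          = ∑ g : G, ∑ χ ∈ S, ∑ ψ ∈ S, ((ε χ : ℂ) * (ε ψ : ℂ))
              * ((χ : G → ℂ) g * conj ((ψ : G → ℂ) g)) := by
            refine Finset.sum_congr rfl (fun g _ => ?_)
            rw [map_sum, Finset.sum_mul_sum]
            refine Finset.sum_congr rfl (fun χ _ => Finset.sum_congr rfl (fun ψ _ => ?_))
            rw [map_mul, map_intCast]
            ring
        _ = ∑ χ ∈ S, ∑ ψ ∈ S, ((ε χ : ℂ) * (ε ψ : ℂ))
              * ∑ g : G, ((χ : G → ℂ) g * conj ((ψ : G → ℂ) g)) := by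
            rw [Finset.sum_comm]
            refine Finset.sum_congr rfl (fun χ _ => ?_)
            rw [Finset.sum_comm]
            refine Finset.sum_congr rfl (fun ψ _ => ?_)
            rw [Finset.mul_sum]
        _ = ∑ χ ∈ S, ((ε χ : ℂ) * (ε χ : ℂ)) * (Nat.card G : ℂ) := by
            refine Finset.sum_congr rfl (fun χ hχ => ?_)
            rw [Finset.sum_eq_single χ]
            · rw [horth, if_pos rfl]
            · intro ψ _ hne
              rw [horth, if_neg (Ne.symm hne), mul_zero]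
            · intro h
              exact absurd hχ h
        _ = (Nat.card G : ℂ) * (S.card : ℂ) := by
            have h5 : ∀ χ ∈ S, ((ε χ : ℂ) * (ε χ : ℂ)) * (Nat.card G : ℂ) = (Nat.card G : ℂ) := by
              intro χ hχ
              rcases hε χ hχ with h | h <;> rw [h] <;> push_cast <;> ring
            rw [Finset.sum_congr rfl h5, Finset.sum_const, nsmul_eq_mul, mul_comm]
    have hreal : ∑ g : G, Complex.normSq (∑ χ ∈ S, (ε χ : ℂ) * (χ : G → ℂ) g)
        = (Nat.card G : ℝ) * (S.card : ℝ) := by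
      apply Complex.ofReal_injective
      push_cast
      rw [← hsum]
      exact Finset.sum_congr rfl (fun g _ => (Complex.mul_conj _).symm)
    have hle : Complex.normSq (∑ χ ∈ S, (ε χ : ℂ) * (χ : G → ℂ) 1)
        ≤ ∑ g : G, Complex.normSq (∑ χ ∈ S, (ε χ : ℂ) * (χ : G → ℂ) g) :=
      Finset.single_le_sum (f := fun g : G => Complex.normSq (∑ χ ∈ S, (ε χ : ℂ) * (χ : G → ℂ) g))
        (fun g _ => Complex.normSq_nonneg _) (Finset.mem_univ (1 : G))
    rw [hreal, hD] at hle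
    have h6 : Complex.normSq ((∑ χ ∈ S, ε χ * (charDegree (χ : G → ℂ) : ℤ) : ℤ) : ℂ)
        = ((∑ χ ∈ S, ε χ * (charDegree (χ : G → ℂ) : ℤ) : ℤ) : ℝ) ^ 2 := by
      rw [← Complex.ofReal_intCast, Complex.normSq_ofReal, sq]
    rw [h6] at hle
    exact_mod_cast hle

end Cfsg.Agent.Lib.Helper17.BTGB
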