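import Mathlib
import Cfsg.Agent.Lib.Helper19.BTGen

set_option autoImplicit false

namespace Cfsg.Agent.Lib.Helper17.BTPRIMEPOW

universe u

theorem main : Cfsg.Agent.Lib.Helper19.BTGen.PrimePow.{u} := by
  intro G _ b p hp
  have hpp : p.Prime := Nat.prime_of_mem_primeFactors hp
  have hdvd : p ∣ orderOf b := Nat.dvd_of_mem_primeFactors hp
  have hne : orderOf b ≠ 0 := by
    intro h0
    rw [h0] at hp
    simp at hp
  refine ⟨orderOf b / p, ?_⟩
  exact orderOf_pow_orderOf_div hne hdvd

end Cfsg.Agent.Lib.Helper17.BTPRIMEPOW
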