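import Mathlib
import Cfsg.Agent.Lib.Helper80.BTStmt
import Cfsg.Agent.Lib.Helper3.Irr
import Cfsg.Agent.Lib.Helper80.Integrality
import Cfsg.Agent.Lib.CT.Wedderburn

set_option autoImplicit false

/-! S0997 piece [QTWO] (second seat, helper17). -/

namespace Cfsg.Agent.Lib.Helper17.BTQTWO

open Cfsg Cfsg.Agent.Lib.Helper80.BTStmt
open Cfsg.Agent.Lib.Helper80.Integrality
open Cfsg.Agent.Lib.CT.Wedderburn
open scoped ComplexConjugate

universe u

/-- `|N_G(P) : C_G(P)|` divides `p - 1` (copy of `Helper80.FTRES.relIndex_dvd`). -/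
theorem relIndex_dvd' {G : Type u} [Group G] [Finite G] {p : ℕ} [Fact p.Prime] (P : Sylow p G)
    (hP : Nat.card P = p) :
    (Subgroup.centralizer ((P : Subgroup G) : Set G)).relIndex
      (Subgroup.normalizer ((P : Subgroup G) : Set G)) ∣ p - 1 := by
  have hp : p.Prime := Fact.out
  have hP' : Nat.card ↥(P : Subgroup G) = p := hP
  have hcyc : IsCyclic ↥(P : Subgroup G) := isCyclic_of_prime_card hP'
  have h1 : Nat.card (MulAut ↥(P : Subgroup G)) = p - 1 := by
    rw [IsCyclic.card_mulAut, hP', Nat.totient_prime hp]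
  have hker := Subgroup.normalizerMonoidHom_ker (P : Subgroup G)
  rw [Subgroup.relIndex, ← hker, Subgroup.index_ker, ← h1]
  exact Subgroup.card_subgroup_dvd_card _

theorem main : QTWO.{u} := by
  intro G _ _ p q b g₀ hH c hX hY hT hej
  classical
  obtain ⟨hsimple, hnc, hp, hq, hpq, hcard, hg0⟩ := hH
  have : Fact p.Prime := ⟨hp⟩
  have := Cfsg.Agent.Lib.Helper3.Irr.finite_irrCharacter (G := G)
  have := Fintype.ofFinite (IrrCharacter G)
  have hGpos : 0 < Nat.card G := Nat.card_pos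
  have hg0pos : 0 < g₀ := by
    rcases Nat.eq_zero_or_pos g₀ with h | h
    · rw [h, mul_zero] at hcard
      omega
    · exact h
  have hp3 : 3 ≤ p := by omega
  obtain ⟨⟨t, htX, ht⟩, hXq⟩ := hX
  obtain ⟨⟨θ, hθY⟩, hYf⟩ := hY
  obtain ⟨j, hj1, hej⟩ := hej
  have hfe := hT.2 θ hθY
  have hε := hT.1
  have hdeg : ∀ χ : IrrCharacter G, (χ : G → ℂ) 1 = (charDegree (χ : G → ℂ) : ℂ) :=
    fun χ => apply_one_eq_charDegree (isCharacter_of_irr χ.2)
  have htdeg : charDegree (t : G → ℂ) = 1 := by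
    rw [ht]
    simp [charDegree]
  -- the sign of the trivial character
  have hεt : c.εX t = 1 := by
    obtain ⟨h1, h2, -⟩ := c.hεX t htX
    rcases h1 with h | h
    · exact h
    · exfalso
      rw [htdeg, h] at h2
      have h3 : (p : ℤ) ∣ (-1 : ℤ) - ((1 : ℕ) : ℤ) := (Int.modEq_iff_dvd).mp h2
      have h4 : (p : ℤ) ∣ 2 := by
        have : (-1 : ℤ) - ((1 : ℕ) : ℤ) = -2 := by norm_num
        rw [this] at h3
        exact (dvd_neg).mp h3
      have h5 : p ∣ 2 := by exact_mod_cast h4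
      have := Nat.le_of_dvd (by norm_num) h5
      omega
  -- the degree equation at 1
  have h1 := c.hYX θ hθY 1 (by rw [orderOf_one]; exact hp.one_lt.ne' ∘ Nat.dvd_one.mp)
  have hXfin : c.X.Finite := Set.toFinite _
  rw [finsum_mem_eq_finite_toFinset_sum _ hXfin, hε, hdeg θ] at h1
  have h2 : ∑ χ ∈ hXfin.toFinset, (c.εX χ : ℂ) * (χ : G → ℂ) 1
      = ((∑ χ ∈ hXfin.toFinset, c.εX χ * (charDegree (χ : G → ℂ) : ℤ) : ℤ) : ℂ) := by
    push_cast
    exact Finset.sum_congr rfl (fun χ _ => by rw [hdeg χ])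
  rw [h2] at h1
  have h3 : (-1 : ℤ) * (charDegree (θ : G → ℂ) : ℤ)
      = ∑ χ ∈ hXfin.toFinset, c.εX χ * (charDegree (χ : G → ℂ) : ℤ) := by
    exact_mod_cast h1
  have htmem : t ∈ hXfin.toFinset := hXfin.mem_toFinset.mpr htX
  rw [← Finset.add_sum_erase _ _ htmem, hεt, htdeg] at h3
  have h4 : (q : ℤ) ∣ ∑ χ ∈ hXfin.toFinset.erase t, c.εX χ * (charDegree (χ : G → ℂ) : ℤ) := by
    apply Finset.dvd_sum
    intro χ hχ
    have hχX : χ ∈ c.X := hXfin.mem_toFinset.mp (Finset.mem_of_mem_erase hχ)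
    have hne : χ ≠ t := Finset.ne_of_mem_erase hχ
    have hne' : (χ : G → ℂ) ≠ fun _ => 1 := by
      intro h
      apply hne
      apply Subtype.ext
      rw [h, ht]
    have := hXq χ hχX hne'
    exact Dvd.dvd.mul_left (by exact_mod_cast this) _
  have h5 : (q : ℤ) ∣ (charDegree (θ : G → ℂ) : ℤ) + 1 := by
    obtain ⟨k, hk⟩ := h4
    rw [hk] at h3
    refine ⟨-k, ?_⟩
    push_cast at h3 ⊢
    linarith
  -- q ∣ e ∣ p - 1
  have hqe : q ∣ c.e := by
    rw [hej]
    exact dvd_pow_self q (by omega)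
  have hep : c.e ∣ p - 1 := by
    rw [← c.he]
    exact relIndex_dvd' c.P c.hP
  have hqp1 : q ∣ p - 1 := hqe.trans hep
  have h6 : q ∣ charDegree (θ : G → ℂ) + 1 := by exact_mod_cast h5
  -- f + 1 + e = p + 1, so q ∣ p + 1
  have h7 : q ∣ p + 1 := by
    have h8 : q ∣ charDegree (θ : G → ℂ) + 1 + c.e := Nat.dvd_add h6 hqe
    have h9 : charDegree (θ : G → ℂ) + 1 + c.e = p + 1 := by omega
    rw [h9] at h8
    exact h8
  have h10 : q ∣ 2 := by
    have h11 : p + 1 = (p - 1) + 2 := by omega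
    rw [h11] at h7
    exact (Nat.dvd_add_right hqp1).mp h7
  exact (Nat.prime_dvd_prime_iff_eq hq Nat.prime_two).mp h10

end Cfsg.Agent.Lib.Helper17.BTQTWO
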