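import Mathlib
import Cfsg.Agent.Lib.Helper76.BrRBStmt

/-!
# S4504, piece INJ: the linear constituents of `ξ|_C` have distinct restrictions to `P`
-/

set_option autoImplicit false

namespace Cfsg.Agent.Lib.Helper17.BrRBINJ

open Cfsg Cfsg.Agent.Lib.Helper76.BrRB
open scoped ComplexConjugate Classical

universe u

/-- linear independence of characters: two finite families of homomorphisms with the same sum
have the same multiplicities. -/
theorem mult_eq_of_sum_eq {A : Type*} [Group A] {ι : Type*} (S : Finset ι)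
    (ρ₁ ρ₂ : ι → (A →* ℂ)) (h : ∀ u : A, ∑ i ∈ S, ρ₁ i u = ∑ i ∈ S, ρ₂ i u) (κ : A →* ℂ) :
    (S.filter (fun i => ρ₁ i = κ)).card = (S.filter (fun i => ρ₂ i = κ)).card := by
  have LI := linearIndependent_monoidHom A ℂ
  let M : (ι → (A →* ℂ)) → ((A →* ℂ) →₀ ℂ) := fun ρ => ∑ i ∈ S, Finsupp.single (ρ i) (1 : ℂ)
  have hM : ∀ ρ : ι → (A →* ℂ),
      Finsupp.linearCombination ℂ (fun f : A →* ℂ => (f : A → ℂ)) (M ρ)
      = fun u => ∑ i ∈ S, ρ i u := by
    intro ρ
    simp only [M, map_sum, Finsupp.linearCombination_single, one_smul]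
    ext u
    simp [Finset.sum_apply]
  have hval : ∀ ρ : ι → (A →* ℂ), (M ρ) κ = ((S.filter (fun i => ρ i = κ)).card : ℂ) := by
    intro ρ
    simp only [M, Finsupp.finsetSum_apply, Finsupp.single_apply]
    rw [Finset.sum_boole]
  have hEq : M ρ₁ = M ρ₂ := by
    apply LI
    rw [hM, hM]
    funext u
    exact h u
  have h2 := congrArg (fun m => m κ) hEq
  simp only [hval] at h2
  exact_mod_cast h2

theorem main : INJ.{u} := by
  intro L _ _ p _ c S ψ₀ hO hNC μ hμ μ' hμ' hres
  obtain ⟨hψ₀, hcard, hsum, horb⟩ := hO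
  have hp : p.Prime := Fact.out
  -- `ψ₀` is injective
  have hψinj : Function.Injective ψ₀ := by
    have : Fact (Nat.card ↥(c.P : Subgroup L)).Prime := ⟨by rw [c.hP]; exact hp⟩
    rw [← MonoidHom.ker_eq_bot_iff]
    rcases Subgroup.eq_bot_or_eq_top_of_prime_card ψ₀.ker with h | h
    · exact h
    · exfalso; apply hψ₀; ext u
      have h1 : u ∈ ψ₀.ker := by rw [h]; trivial
      rw [MonoidHom.mem_ker] at h1
      rw [h1]; rfl
  -- `P` is abelian, so `P ≤ C`
  have hPC : (c.P : Subgroup L) ≤ Subgroup.centralizer ((c.P : Subgroup L) : Set L) := by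
    intro u hu
    rw [Subgroup.mem_centralizer_iff]
    intro v hv
    have h1 : ψ₀ (⟨v, hv⟩ * ⟨u, hu⟩) = ψ₀ (⟨u, hu⟩ * ⟨v, hv⟩) := by
      rw [map_mul, map_mul, mul_comm]
    have h2 := hψinj h1
    exact congrArg Subtype.val h2
  -- conjugation by an element of the normalizer, on `P`
  have hNmem : ∀ n : L, n ∈ Subgroup.normalizer ((c.P : Subgroup L) : Set L) →
      ∀ u : L, u ∈ (c.P : Subgroup L) → n * u * n⁻¹ ∈ (c.P : Subgroup L) := by
    intro n hn u hu
    exact (Subgroup.mem_normalizer_iff.mp hn u).mp hu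
  let γ : ∀ n : L, n ∈ Subgroup.normalizer ((c.P : Subgroup L) : Set L) →
      (↥(c.P : Subgroup L) →* ↥(c.P : Subgroup L)) := fun n hn =>
    { toFun := fun u => ⟨n * (u : L) * n⁻¹, hNmem n hn u u.2⟩
      map_one' := by apply Subtype.ext; simp
      map_mul' := by intro a b; apply Subtype.ext; simp [mul_assoc] }
  have hγ : ∀ (n : L) (hn : n ∈ Subgroup.normalizer ((c.P : Subgroup L) : Set L))
      (u : ↥(c.P : Subgroup L)), ((γ n hn u : ↥(c.P : Subgroup L)) : L) = n * (u : L) * n⁻¹ :=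
    fun n hn u => rfl
  have hγsurj : ∀ (n : L) (hn : n ∈ Subgroup.normalizer ((c.P : Subgroup L) : Set L)),
      Function.Surjective (γ n hn) := by
    intro n hn u
    refine ⟨γ n⁻¹ (inv_mem hn) u, ?_⟩
    apply Subtype.ext
    rw [hγ n hn, hγ n⁻¹ (inv_mem hn)]; group
  -- restriction to `P`
  let ι : ↥(c.P : Subgroup L) →* ↥(Subgroup.centralizer ((c.P : Subgroup L) : Set L)) :=
    Subgroup.inclusion hPC
  let R : (↥(Subgroup.centralizer ((c.P : Subgroup L) : Set L)) →* ℂˣ) →
      (↥(c.P : Subgroup L) →* ℂˣ) := fun ν => ν.comp ι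
  let m : (↥(c.P : Subgroup L) →* ℂˣ) → ℕ := fun lam => (S.filter (fun ν => R ν = lam)).card
  -- class function
  have hclass : ∀ (g h : L), c.ξ (h * g * h⁻¹) = c.ξ g := by
    obtain ⟨d, ρ, -, hρ⟩ := c.hξ
    intro g h
    rw [← hρ]
    exact Representation.char_conj ρ g h
  -- invariance of the multiplicities
  have hinv : ∀ (n : L) (hn : n ∈ Subgroup.normalizer ((c.P : Subgroup L) : Set L)),
      m (ψ₀.comp (γ n hn)) = m ψ₀ := by
    intro n hn
    have key := mult_eq_of_sum_eq S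
      (fun ν => (Units.coeHom ℂ).comp (R ν))
      (fun ν => (Units.coeHom ℂ).comp ((R ν).comp (γ n hn)))
      (by
        intro u
        have h1 := hsum (ι u)
        have h2 := hsum (ι (γ n hn u))
        have h3 : c.ξ ((ι (γ n hn u) :
            ↥(Subgroup.centralizer ((c.P : Subgroup L) : Set L))) : L) =
            c.ξ ((ι u : ↥(Subgroup.centralizer ((c.P : Subgroup L) : Set L))) : L) := by
          have : ((ι (γ n hn u) :
              ↥(Subgroup.centralizer ((c.P : Subgroup L) : Set L))) : L) = n * (u : L) * n⁻¹ := rfl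
          rw [this]
          exact hclass (u : L) n
        simp only [MonoidHom.comp_apply, Units.coeHom_apply, R]
        rw [← h1, ← h2, h3])
      ((Units.coeHom ℂ).comp (ψ₀.comp (γ n hn)))
    have hcoe : ∀ a b : ↥(c.P : Subgroup L) →* ℂˣ,
        (Units.coeHom ℂ).comp a = (Units.coeHom ℂ).comp b ↔ a = b := by
      intro a b
      constructor
      · intro h
        refine MonoidHom.ext fun u => Units.ext ?_
        exact DFunLike.congr_fun h u
      · intro h; rw [h]
    have e1 : ∀ ν : ↥(Subgroup.centralizer ((c.P : Subgroup L) : Set L)) →* ℂˣ,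
        ((Units.coeHom ℂ).comp (R ν) = (Units.coeHom ℂ).comp (ψ₀.comp (γ n hn))) ↔
          R ν = ψ₀.comp (γ n hn) := fun ν => hcoe _ _
    have e2 : ∀ ν : ↥(Subgroup.centralizer ((c.P : Subgroup L) : Set L)) →* ℂˣ,
        ((Units.coeHom ℂ).comp ((R ν).comp (γ n hn)) =
          (Units.coeHom ℂ).comp (ψ₀.comp (γ n hn))) ↔ R ν = ψ₀ := by
      intro ν
      rw [hcoe]
      constructor
      · intro h
        refine MonoidHom.ext fun u => ?_
        obtain ⟨v, rfl⟩ := hγsurj n hn u
        exact DFunLike.congr_fun h v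
      · intro h; rw [h]
    simp only [e1, e2] at key
    convert key
  -- the cosets of `C` in `N`
  let Cn : Subgroup ↥(Subgroup.normalizer ((c.P : Subgroup L) : Set L)) :=
    (Subgroup.centralizer ((c.P : Subgroup L) : Set L)).subgroupOf
      (Subgroup.normalizer ((c.P : Subgroup L) : Set L))
  let Q := ↥(Subgroup.normalizer ((c.P : Subgroup L) : Set L)) ⧸ Cn
  let _ : Fintype Q := Fintype.ofFinite Q
  have hQcard : Fintype.card Q = charDegree c.ξ := by
    rw [← hNC, ← Nat.card_eq_fintype_card]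
    rfl
  let Φ : Q → (↥(c.P : Subgroup L) →* ℂˣ) := fun q => ψ₀.comp (γ (q.out : L) q.out.2)
  -- γ depends only on the coset
  have hγcoset : ∀ (a b : ↥(Subgroup.normalizer ((c.P : Subgroup L) : Set L))),
      a⁻¹ * b ∈ Cn → γ (b : L) b.2 = γ (a : L) a.2 := by
    intro a b hab
    have hab' : (a : L)⁻¹ * (b : L) ∈ Subgroup.centralizer ((c.P : Subgroup L) : Set L) := by
      have := Subgroup.mem_subgroupOf.mp hab
      simpa using this
    refine MonoidHom.ext fun u => Subtype.ext ?_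
    show (b : L) * (u : L) * (b : L)⁻¹ = (a : L) * (u : L) * (a : L)⁻¹
    have h1 := (Subgroup.mem_centralizer_iff.mp hab') (u : L) u.2
    -- h1 : u * (a⁻¹ b) = (a⁻¹ b) * u
    calc (b : L) * (u : L) * (b : L)⁻¹
        = (a : L) * (((a : L)⁻¹ * (b : L)) * (u : L)) * ((a : L)⁻¹ * (b : L))⁻¹ * (a : L)⁻¹ := by
          group
      _ = (a : L) * ((u : L) * ((a : L)⁻¹ * (b : L))) * ((a : L)⁻¹ * (b : L))⁻¹ * (a : L)⁻¹ := by
          rw [h1]
      _ = (a : L) * (u : L) * (a : L)⁻¹ := by group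
  have hΦinj : Function.Injective Φ := by
    intro q q' h
    have h1 : ∀ u : ↥(c.P : Subgroup L),
        γ (q.out : L) q.out.2 u = γ (q'.out : L) q'.out.2 u := by
      intro u
      apply hψinj
      exact DFunLike.congr_fun h u
    have h2 : (q.out)⁻¹ * q'.out ∈ Cn := by
      rw [Subgroup.mem_subgroupOf, Subgroup.mem_centralizer_iff]
      intro u hu
      have h3 : (q.out : L) * u * (q.out : L)⁻¹ = (q'.out : L) * u * (q'.out : L)⁻¹ :=
        congrArg Subtype.val (h1 ⟨u, hu⟩)
      -- h3 : a u a⁻¹ = b u b⁻¹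
      simp only [Subgroup.coe_mul, Subgroup.coe_inv]
      have h4 : u = ((q.out : L))⁻¹ * ((q'.out : L) * u * (q'.out : L)⁻¹) * (q.out : L) := by
        rw [← h3]; group
      calc u * ((q.out : L)⁻¹ * (q'.out : L))
          = ((q.out : L))⁻¹ * ((q'.out : L) * u * (q'.out : L)⁻¹) * (q.out : L) *
              ((q.out : L)⁻¹ * (q'.out : L)) := by rw [← h4]
        _ = (q.out : L)⁻¹ * (q'.out : L) * u := by group
    have h5 : (QuotientGroup.mk q.out : Q) = QuotientGroup.mk q'.out := QuotientGroup.eq.mpr h2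
    rw [QuotientGroup.out_eq', QuotientGroup.out_eq'] at h5
    exact h5
  let O' : Finset (↥(c.P : Subgroup L) →* ℂˣ) := Finset.univ.image Φ
  have hO'card : O'.card = charDegree c.ξ := by
    rw [Finset.card_image_of_injective _ hΦinj, Finset.card_univ, hQcard]
  have hRmem : ∀ ν ∈ S, R ν ∈ O' := by
    intro ν hν
    obtain ⟨n, hn, hn2⟩ := horb ν hν
    rw [Finset.mem_image]
    refine ⟨QuotientGroup.mk (⟨n, hn⟩ : ↥(Subgroup.normalizer ((c.P : Subgroup L) : Set L))),
      Finset.mem_univ _, ?_⟩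
    set q : Q := QuotientGroup.mk (⟨n, hn⟩ : ↥(Subgroup.normalizer ((c.P : Subgroup L) : Set L)))
      with hq
    have h1 : (q.out)⁻¹ * ⟨n, hn⟩ ∈ Cn := by
      apply QuotientGroup.eq.mp
      rw [QuotientGroup.out_eq']
    have h2 := hγcoset q.out ⟨n, hn⟩ h1
    refine MonoidHom.ext fun u => ?_
    have h3 : ν (ι u) = ψ₀ (γ n hn u) := hn2 u (γ n hn u) (ι u) rfl rfl
    show ψ₀ (γ (q.out : L) q.out.2 u) = ν (ι u)
    rw [h3, ← h2]
  have hmO' : ∀ lam ∈ O', m lam = m ψ₀ := by
    intro lam hlam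
    obtain ⟨q, -, rfl⟩ := Finset.mem_image.mp hlam
    exact hinv (q.out : L) q.out.2
  have hcount : S.card = ∑ lam ∈ O', m lam :=
    Finset.card_eq_sum_card_fiberwise (f := R) (s := S) (t := O') (fun ν hν => hRmem ν hν)
  have hm1 : m ψ₀ = 1 := by
    rw [Finset.sum_congr rfl hmO', Finset.sum_const, smul_eq_mul, hO'card, hcard] at hcount
    have hpos : 0 < charDegree c.ξ := by
      have := c.hdeg
      have := c.hp5
      omega
    have : charDegree c.ξ * 1 = charDegree c.ξ * m ψ₀ := by rw [mul_one]; exact hcount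
    exact (Nat.eq_of_mul_eq_mul_left hpos this).symm
  -- conclusion
  have hRR : R μ = R μ' := by
    refine MonoidHom.ext fun u => ?_
    exact hres (ι u) u.2
  have h1 : m (R μ) = 1 := by rw [hmO' _ (hRmem μ hμ), hm1]
  have h2 : μ ∈ S.filter (fun ν => R ν = R μ) := Finset.mem_filter.mpr ⟨hμ, rfl⟩
  have h3 : μ' ∈ S.filter (fun ν => R ν = R μ) := Finset.mem_filter.mpr ⟨hμ', hRR.symm⟩
  exact Finset.card_le_one.mp (le_of_eq h1) μ h2 μ' h3

end Cfsg.Agent.Lib.Helper17.BrRBINJ
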