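import Mathlib
import Cfsg.Agent.Lib.Helper17.ExcCor
import Cfsg.Agent.Lib.Helper17.Sylow2
import Cfsg.Agent.Lib.CT.ClassMult
import Cfsg.Agent.S1508

/-!
Class multiplication constants for an involution `t ∈ N(P) ∖ P` in the situation of
`ExcCor.exceptional_two`: the number of ways to write an element of `P ∖ 1` as a product of two
conjugates of `t` is expressed through one integer `u = χ(t)`.
-/

set_option autoImplicit false
set_option linter.style.haveILetI false

namespace Cfsg.Agent.Lib.Helper17.ExcInv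

open Cfsg Subgroup
open Cfsg.Agent.Lib.CT.Orth Cfsg.Agent.Lib.CT.Wedderburn Cfsg.Agent.Lib.CT.ClassMult
open Cfsg.Agent.Lib.Helper17.ExcOrb Cfsg.Agent.Lib.Helper17.ExcMain
open Cfsg.Agent.Lib.Helper17.ExcCor Cfsg.Agent.Lib.Helper17.Sylow2
open scoped ComplexConjugate

universe u

variable {G : Type u} [Group G]

/-- The number of `g` with `g t g⁻¹ = s` is `|C(t)|` when `s` is conjugate to `t`. -/
theorem card_conj_eq [Fintype G] [DecidableEq G] (t s k : G) (hk : k * t * k⁻¹ = s) :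
    (Finset.univ.filter fun g : G => g * t * g⁻¹ = s).card
      = Nat.card (centralizer ({t} : Set G)) := by
  rw [← Fintype.card_subtype, ← Nat.card_eq_fintype_card]
  apply Nat.card_congr
  refine
    { toFun := fun g => ⟨k⁻¹ * g.1, ?_⟩
      invFun := fun c => ⟨k * c.1, ?_⟩
      left_inv := fun g => by simp
      right_inv := fun c => by simp }
  · rw [mem_centralizer_singleton_iff]
    have h1 : g.1 * t * g.1⁻¹ = k * t * k⁻¹ := g.2.trans hk.symm
    have h2 : k⁻¹ * g.1 * t = k⁻¹ * (g.1 * t * g.1⁻¹) * g.1 := by group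
    rw [h2, h1]
    group
  · have h1 := mem_centralizer_singleton_iff.mp c.2
    rw [← hk]
    have h2 : k * c.1 * t * (k * c.1)⁻¹ = k * (c.1 * t) * c.1⁻¹ * k⁻¹ := by group
    rw [h2, h1]
    group

/-- No conjugate of `t`: the corresponding count is zero. -/
theorem card_conj_eq_zero [Fintype G] [DecidableEq G] (t s : G)
    (h : ∀ k : G, k * t * k⁻¹ ≠ s) :
    (Finset.univ.filter fun g : G => g * t * g⁻¹ = s).card = 0 := by
  rw [Finset.card_eq_zero, Finset.filter_eq_empty_iff]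
  intro g _
  exact h g

/-- Decomposition of the number of pairs of conjugators. -/
theorem card_pairs [Fintype G] [DecidableEq G] (t z : G) :
    (Finset.univ.filter fun p : G × G => p.1 * t * p.1⁻¹ * (p.2 * t * p.2⁻¹) = z).card
      = (Finset.univ.filter fun s : G => (∃ k : G, k * t * k⁻¹ = s) ∧
          ∃ k : G, k * t * k⁻¹ = s⁻¹ * z).card * Nat.card (centralizer ({t} : Set G)) ^ 2 := by
  rw [Finset.card_eq_sum_card_fiberwise (f := fun p : G × G => p.1 * t * p.1⁻¹)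
    (t := Finset.univ) (fun _ _ => Finset.mem_univ _)]
  have hfib : ∀ s : G,
      ((Finset.univ.filter fun p : G × G => p.1 * t * p.1⁻¹ * (p.2 * t * p.2⁻¹) = z).filter
        fun p => p.1 * t * p.1⁻¹ = s).card
      = (Finset.univ.filter fun g : G => g * t * g⁻¹ = s).card
        * (Finset.univ.filter fun g : G => g * t * g⁻¹ = s⁻¹ * z).card := by
    intro s
    rw [← Finset.card_product]
    congr 1
    ext ⟨g, h⟩
    simp only [Finset.mem_filter, Finset.mem_univ, true_and, Finset.mem_product]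
    constructor
    · rintro ⟨h1, h2⟩
      refine ⟨h2, ?_⟩
      rw [← h1, ← h2]
      group
    · rintro ⟨h1, h2⟩
      refine ⟨?_, h1⟩
      rw [h1, h2]
      group
  rw [Finset.sum_congr rfl (fun s _ => hfib s)]
  rw [← Finset.sum_filter_add_sum_filter_not Finset.univ
    (fun s : G => (∃ k : G, k * t * k⁻¹ = s) ∧ ∃ k : G, k * t * k⁻¹ = s⁻¹ * z)]
  have h1 : ∀ s ∈ Finset.univ.filter (fun s : G => (∃ k : G, k * t * k⁻¹ = s) ∧
      ∃ k : G, k * t * k⁻¹ = s⁻¹ * z),
      (Finset.univ.filter fun g : G => g * t * g⁻¹ = s).card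
        * (Finset.univ.filter fun g : G => g * t * g⁻¹ = s⁻¹ * z).card
      = Nat.card (centralizer ({t} : Set G)) ^ 2 := by
    intro s hs
    obtain ⟨⟨k, hk⟩, ⟨k', hk'⟩⟩ := (Finset.mem_filter.mp hs).2
    rw [card_conj_eq t s k hk, card_conj_eq t _ k' hk', pow_two]
  have h2 : ∀ s ∈ Finset.univ.filter (fun s : G => ¬ ((∃ k : G, k * t * k⁻¹ = s) ∧
      ∃ k : G, k * t * k⁻¹ = s⁻¹ * z)),
      (Finset.univ.filter fun g : G => g * t * g⁻¹ = s).card
        * (Finset.univ.filter fun g : G => g * t * g⁻¹ = s⁻¹ * z).card = 0 := by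
    intro s hs
    have hs' := (Finset.mem_filter.mp hs).2
    by_cases hk : ∃ k : G, k * t * k⁻¹ = s
    · have hk' : ∀ k : G, k * t * k⁻¹ ≠ s⁻¹ * z := fun k hk2 => hs' ⟨hk, k, hk2⟩
      rw [card_conj_eq_zero t _ hk', mul_zero]
    · have hk' : ∀ k : G, k * t * k⁻¹ ≠ s := fun k hk2 => hk ⟨k, hk2⟩
      rw [card_conj_eq_zero t _ hk', zero_mul]
  rw [Finset.sum_congr rfl h1, Finset.sum_congr rfl h2, Finset.sum_const, Finset.sum_const_zero,
    add_zero, smul_eq_mul]

/-- An element of order two is not in a subgroup of odd prime order. -/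
theorem not_mem_of_sq_eq_one [Finite G] (P : Subgroup G) {p : ℕ} (hp : p.Prime)
    (hP : Nat.card P = p) (hp2 : p ≠ 2) (x : G) (hx : x * x = 1) (hx1 : x ≠ 1) : x ∉ P := by
  intro hxP
  have h1 : orderOf x ∣ p := hP ▸ orderOf_dvd_card_of_mem hxP
  have h2 : orderOf x ∣ 2 := orderOf_dvd_of_pow_eq_one (by rw [pow_two]; exact hx)
  have h3 : orderOf x ≠ 1 := fun h => hx1 (orderOf_eq_one_iff.mp h)
  have h4 : orderOf x = 2 := by
    rcases (Nat.dvd_prime Nat.prime_two).mp h2 with h | h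
    · exact absurd h h3
    · exact h
  rw [h4] at h1
  exact hp2 ((Nat.prime_dvd_prime_iff_eq Nat.prime_two hp).mp h1).symm

theorem int_of_involution [Finite G] (χ : IrrCharacter G) (t : G) (ht : orderOf t = 2) :
    ∃ u : ℤ, (χ : G → ℂ) t = u := by
  apply Cfsg.Agent.S1508.int_of_pow_fixed (isCharacter_of_irr χ.2) t
  intro m hm
  rw [ht] at hm
  have h1 : m % 2 = 1 := by
    rcases Nat.mod_two_eq_zero_or_one m with h | h
    · exfalso
      have : 2 ∣ Nat.gcd m 2 := Nat.dvd_gcd (Nat.dvd_of_mod_eq_zero h) (dvd_refl 2)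
      rw [Nat.Coprime] at hm
      rw [hm] at this
      omega
    · exact h
  rw [← pow_mod_orderOf, ht, h1, pow_one]

/-- The class equation for an involution normalizing `P`, in the situation of
`exceptional_two`. -/
theorem involution_equation [Fintype G] [Fintype (IrrCharacter G)]
    (P : Subgroup G) {p : ℕ} (hp : p.Prime) (hP : Nat.card P = p) (hp2 : p ≠ 2)
    (hC : centralizer (P : Set G) ≤ P)
    {n : ℕ} (ε δ : ℤ) (θ : Fin n → IrrCharacter G) (χ : IrrCharacter G) (i₀ : Fin n)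
    (hε : ε = 1 ∨ ε = -1)
    (hθvan : ∀ i j, ∀ g : G, (∀ u : G, u⁻¹ * g * u ∉ P) → (θ i : G → ℂ) g = (θ j : G → ℂ) g)
    (hθone : ∀ i j, (θ i : G → ℂ) 1 = (θ j : G → ℂ) 1)
    (hform : ∀ y : G, y ∈ P → y ≠ 1 → ∀ A : IrrCharacter G → ℂ, (∀ i j, A (θ i) = A (θ j)) →
        ∑ ψ, A ψ * conj ((ψ : G → ℂ) y)
          = A (trivIrr G) + (δ : ℂ) * A χ - (ε : ℂ) * A (θ i₀))
    (t : G) (ht : orderOf t = 2) (htN : t ∈ normalizer (P : Set G)) :
    ∃ (u : ℤ) (a : ℕ), 1 ≤ a ∧ a < Nat.card (normalizer (P : Set G)) ∧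
      ((a * Nat.card (centralizer ({t} : Set G)) ^ 2 * charDegree (χ : G → ℂ)
          * charDegree ((θ i₀ : IrrCharacter G) : G → ℂ) : ℕ) : ℤ)
        = (Nat.card G : ℤ) * ((charDegree (χ : G → ℂ) : ℤ)
              * charDegree ((θ i₀ : IrrCharacter G) : G → ℂ)
            + δ * u ^ 2 * charDegree ((θ i₀ : IrrCharacter G) : G → ℂ)
            - ε * (1 + δ * u) ^ 2 * charDegree (χ : G → ℂ)) := by
  classical
  have htt : t * t = 1 := by
    have := pow_orderOf_eq_one t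
    rwa [ht, pow_two] at this
  have ht1 : t ≠ 1 := by
    intro h
    rw [h, orderOf_one] at ht
    omega
  have htinv : t⁻¹ = t := (eq_inv_of_mul_eq_one_left htt).symm
  obtain ⟨y, hyP, hy1⟩ := exists_mem_ne_one P hp hP
  -- the element z
  have hz0 : t * (y * t * y⁻¹) = t * y * t⁻¹ * y⁻¹ := by rw [htinv]; group
  have hzP : t * (y * t * y⁻¹) ∈ P := by
    rw [hz0]
    exact P.mul_mem ((mem_normalizer_iff.mp htN y).mp hyP) (P.inv_mem hyP)
  have hconj_ne : ∀ k : G, k * t * k⁻¹ ≠ 1 := by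
    intro k hk
    apply ht1
    have : t = k⁻¹ * (k * t * k⁻¹) * k := by group
    rw [this, hk]
    group
  have hconj_sq : ∀ k : G, (k * t * k⁻¹) * (k * t * k⁻¹) = 1 := by
    intro k
    have : (k * t * k⁻¹) * (k * t * k⁻¹) = k * (t * t) * k⁻¹ := by group
    rw [this, htt]
    group
  have hnotP : ∀ k : G, k * t * k⁻¹ ∉ P := fun k =>
    not_mem_of_sq_eq_one P hp hP hp2 _ (hconj_sq k) (hconj_ne k)
  have hz1 : t * (y * t * y⁻¹) ≠ 1 := by
    intro h0
    -- then t commutes with y, hence lies in C(P) ≤ P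
    have hcomm : y * t = t * y := by
      have h1 : t * y * t⁻¹ * y⁻¹ = 1 := hz0 ▸ h0
      have h2 : t * y = y * t := by
        have h3 : t * y = (t * y * t⁻¹ * y⁻¹) * (y * t) := by group
        rw [h3, h1, one_mul]
      exact h2.symm
    have htC : t ∈ centralizer (P : Set G) := by
      rw [mem_centralizer_iff]
      intro h hh
      have hh' : h ∈ zpowers y := by
        rw [zpowers_eq_of_card_prime P hp hP y hyP hy1]; exact hh
      obtain ⟨i, rfl⟩ := mem_zpowers_iff.mp hh'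
      exact ((Commute.zpow_left (show Commute y t from hcomm) i)).eq
    have := hnotP 1
    simp only [one_mul, inv_one, mul_one] at this
    exact this (hC htC)
  obtain ⟨z, hz⟩ : ∃ z : G, z = t * (y * t * y⁻¹) := ⟨_, rfl⟩
  rw [← hz] at hzP hz1
  -- counting
  have hcount := card_pairs t z
  obtain ⟨a, ha⟩ : ∃ a : ℕ, a = (Finset.univ.filter fun s : G =>
      (∃ k : G, k * t * k⁻¹ = s) ∧ ∃ k : G, k * t * k⁻¹ = s⁻¹ * z).card := ⟨_, rfl⟩
  rw [← ha] at hcount
  have ha1 : 1 ≤ a := by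
    rw [ha]
    apply Finset.card_pos.mpr
    refine ⟨t, Finset.mem_filter.mpr ⟨Finset.mem_univ _, ⟨1, by group⟩, ⟨y, ?_⟩⟩⟩
    rw [hz]
    group
  have ha2 : a < Nat.card (normalizer (P : Set G)) := by
    have hsub : (Finset.univ.filter fun s : G =>
        (∃ k : G, k * t * k⁻¹ = s) ∧ ∃ k : G, k * t * k⁻¹ = s⁻¹ * z)
        ⊆ (Finset.univ.filter fun s : G => s ∈ normalizer (P : Set G)).erase 1 := by
      intro s hs
      obtain ⟨⟨k, hk⟩, ⟨k', hk'⟩⟩ := (Finset.mem_filter.mp hs).2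
      rw [Finset.mem_erase, Finset.mem_filter]
      refine ⟨hk ▸ hconj_ne k, Finset.mem_univ _, ?_⟩
      have hss : s * s = 1 := hk ▸ hconj_sq k
      have hsinv : s⁻¹ = s := (eq_inv_of_mul_eq_one_left hss).symm
      have hsz : (s⁻¹ * z) * (s⁻¹ * z) = 1 := hk' ▸ hconj_sq k'
      have h1 : s⁻¹ * z * s = z⁻¹ := by
        have h2 : (s⁻¹ * z * s⁻¹) * z = 1 := by
          rw [← hsz]; group
        have h3 : s⁻¹ * z * s⁻¹ = z⁻¹ := eq_inv_of_mul_eq_one_left h2
        have h4 : s⁻¹ * z * s = s⁻¹ * z * s⁻¹ := congrArg (fun w => s⁻¹ * z * w) hsinv.symm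
        rw [h4, h3]
      apply mem_normalizer_of_conj_mem P hp hP s z hzP hz1
      rw [h1]
      exact P.inv_mem hzP
    have hcard := Finset.card_le_card hsub
    rw [← ha, Finset.card_erase_of_mem
      (Finset.mem_filter.mpr ⟨Finset.mem_univ _, one_mem _⟩)] at hcard
    have hN : (Finset.univ.filter fun s : G => s ∈ normalizer (P : Set G)).card
        = Nat.card (normalizer (P : Set G)) := by
      rw [← Fintype.card_subtype, ← Nat.card_eq_fintype_card]
    rw [hN] at hcard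
    have hpos : 0 < Nat.card (normalizer (P : Set G)) := Nat.card_pos
    omega
  -- character values
  obtain ⟨u, hu⟩ := int_of_involution χ t ht
  have hnotPu : ∀ w : G, w⁻¹ * t * w ∉ P := by
    intro w
    have := hnotP w⁻¹
    rwa [inv_inv] at this
  have hθt : ∀ i j, (θ i : G → ℂ) t = (θ j : G → ℂ) t := fun i j => hθvan i j t hnotPu
  have hnc : ¬ IsConj t z := by
    intro hc
    obtain ⟨c, hc⟩ := isConj_iff.mp hc
    exact hnotP c (hc ▸ hzP)
  have horth := second_orthogonality_sum_of_not_isConj t z hnc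
  have hA1 : ∀ i j, (fun ψ : IrrCharacter G => (ψ : G → ℂ) t) (θ i)
      = (fun ψ : IrrCharacter G => (ψ : G → ℂ) t) (θ j) := fun i j => hθt i j
  have e1 := hform z hzP hz1 (fun ψ : IrrCharacter G => (ψ : G → ℂ) t) hA1
  rw [horth, trivIrr_apply, hu] at e1
  have hA2 : ∀ i j, (fun ψ : IrrCharacter G => (ψ : G → ℂ) t * (ψ : G → ℂ) t / (ψ : G → ℂ) 1)
      (θ i) = (fun ψ : IrrCharacter G => (ψ : G → ℂ) t * (ψ : G → ℂ) t / (ψ : G → ℂ) 1) (θ j) := by
    intro i j
    show (θ i : G → ℂ) t * (θ i : G → ℂ) t / (θ i : G → ℂ) 1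
      = (θ j : G → ℂ) t * (θ j : G → ℂ) t / (θ j : G → ℂ) 1
    rw [hθt i j, hθone i j]
  have e2 := hform z hzP hz1
    (fun ψ : IrrCharacter G => (ψ : G → ℂ) t * (ψ : G → ℂ) t / (ψ : G → ℂ) 1) hA2
  have hpc := conj_pair_count t t z
  have hsum : ∑ ψ : IrrCharacter G,
      (ψ : G → ℂ) t * (ψ : G → ℂ) t * conj ((ψ : G → ℂ) z) / (ψ : G → ℂ) 1
      = ∑ ψ : IrrCharacter G,
        (ψ : G → ℂ) t * (ψ : G → ℂ) t / (ψ : G → ℂ) 1 * conj ((ψ : G → ℂ) z) :=
    Finset.sum_congr rfl (fun ψ _ => by ring)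
  rw [hsum, e2, hcount] at hpc
  simp only [trivIrr_apply] at hpc
  rw [hu, deg_eq χ, deg_eq (θ i₀)] at hpc
  refine ⟨u, a, ha1, ha2, ?_⟩
  have hD : (charDegree (χ : G → ℂ) : ℂ) ≠ 0 :=
    Nat.cast_ne_zero.mpr (irr_charDegree_pos χ.2).ne'
  have hd : (charDegree ((θ i₀ : IrrCharacter G) : G → ℂ) : ℂ) ≠ 0 :=
    Nat.cast_ne_zero.mpr (irr_charDegree_pos (θ i₀).2).ne'
  have hε2 : (ε : ℂ) * ε = 1 := by
    rcases hε with h | h <;> rw [h] <;> norm_num
  -- θ(t) = ε (1 + δ u)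
  have hv : (θ i₀ : G → ℂ) t = (ε : ℂ) * (1 + δ * u) := by
    have h1 : (ε : ℂ) * (θ i₀ : G → ℂ) t = 1 + δ * u := by linear_combination e1
    calc (θ i₀ : G → ℂ) t = (ε * ε) * (θ i₀ : G → ℂ) t := by rw [hε2, one_mul]
      _ = ε * (ε * (θ i₀ : G → ℂ) t) := by ring
      _ = ε * (1 + δ * u) := by rw [h1]
  rw [hv] at hpc
  have key : (((a * Nat.card (centralizer ({t} : Set G)) ^ 2 * charDegree (χ : G → ℂ)
          * charDegree ((θ i₀ : IrrCharacter G) : G → ℂ) : ℕ) : ℤ) : ℂ)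
        = (((Nat.card G : ℤ) * ((charDegree (χ : G → ℂ) : ℤ)
              * charDegree ((θ i₀ : IrrCharacter G) : G → ℂ)
            + δ * u ^ 2 * charDegree ((θ i₀ : IrrCharacter G) : G → ℂ)
            - ε * (1 + δ * u) ^ 2 * charDegree (χ : G → ℂ)) : ℤ) : ℂ) := by
    push_cast
    push_cast at hpc
    rw [hpc]
    field_simp
    linear_combination (-(charDegree (χ : G → ℂ) : ℂ) * ε * (1 + δ * u) ^ 2) * hε2
  exact_mod_cast key

end Cfsg.Agent.Lib.Helper17.ExcInv
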