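import Mathlib
import Cfsg.Agent.Lib.Helper17.ExcTwo
import Cfsg.Agent.Lib.Helper17.ExcInv
import Cfsg.Agent.Lib.Helper17.ExcSimple
import Cfsg.Agent.Lib.CT.Kernel

/-!
General lemmas on involutions in the situation of `ExcTwo.exceptional_two'` (a self-centralizing
subgroup `P` of prime order `p` with `|N(P)| = 2p`).
-/

set_option autoImplicit false
set_option linter.style.haveILetI false

namespace Cfsg.Agent.Lib.Helper17.EvenInv

open Cfsg Subgroup
open Cfsg.Agent.Lib.CT.Orth Cfsg.Agent.Lib.CT.Wedderburn Cfsg.Agent.Lib.CT.ClassMult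
open Cfsg.Agent.Lib.Helper17.ExcOrb Cfsg.Agent.Lib.Helper17.ExcMain
open Cfsg.Agent.Lib.Helper17.ExcCor Cfsg.Agent.Lib.Helper17.Sylow2
open Cfsg.Agent.Lib.Helper17.ExcInv Cfsg.Agent.Lib.Helper17.ExcSimple
open scoped ComplexConjugate

universe u

variable {G : Type u} [Group G]

/-- Decomposition of the number of pairs of conjugators, two different elements. -/
theorem card_pairs2 [Fintype G] [DecidableEq G] (x y z : G) :
    (Finset.univ.filter fun p : G × G => p.1 * x * p.1⁻¹ * (p.2 * y * p.2⁻¹) = z).card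
      = (Finset.univ.filter fun s : G => (∃ k : G, k * x * k⁻¹ = s) ∧
          ∃ k : G, k * y * k⁻¹ = s⁻¹ * z).card
        * (Nat.card (centralizer ({x} : Set G)) * Nat.card (centralizer ({y} : Set G))) := by
  rw [Finset.card_eq_sum_card_fiberwise (f := fun p : G × G => p.1 * x * p.1⁻¹)
    (t := Finset.univ) (fun _ _ => Finset.mem_univ _)]
  have hfib : ∀ s : G,
      ((Finset.univ.filter fun p : G × G => p.1 * x * p.1⁻¹ * (p.2 * y * p.2⁻¹) = z).filter
        fun p => p.1 * x * p.1⁻¹ = s).card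
      = (Finset.univ.filter fun g : G => g * x * g⁻¹ = s).card
        * (Finset.univ.filter fun g : G => g * y * g⁻¹ = s⁻¹ * z).card := by
    intro s
    rw [← Finset.card_product]
    congr 1
    ext ⟨g, h⟩
    simp only [Finset.mem_filter, Finset.mem_univ, true_and, Finset.mem_product]
    constructor
    · rintro ⟨h1, h2⟩
      refine ⟨h2, ?_⟩
      rw [← h1, ← h2]
      group
    · rintro ⟨h1, h2⟩
      refine ⟨?_, h1⟩
      rw [h1, h2]
      group
  rw [Finset.sum_congr rfl (fun s _ => hfib s)]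
  rw [← Finset.sum_filter_add_sum_filter_not Finset.univ
    (fun s : G => (∃ k : G, k * x * k⁻¹ = s) ∧ ∃ k : G, k * y * k⁻¹ = s⁻¹ * z)]
  have h1 : ∀ s ∈ Finset.univ.filter (fun s : G => (∃ k : G, k * x * k⁻¹ = s) ∧
      ∃ k : G, k * y * k⁻¹ = s⁻¹ * z),
      (Finset.univ.filter fun g : G => g * x * g⁻¹ = s).card
        * (Finset.univ.filter fun g : G => g * y * g⁻¹ = s⁻¹ * z).card
      = Nat.card (centralizer ({x} : Set G)) * Nat.card (centralizer ({y} : Set G)) := by
    intro s hs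
    obtain ⟨⟨k, hk⟩, ⟨k', hk'⟩⟩ := (Finset.mem_filter.mp hs).2
    rw [card_conj_eq x s k hk, card_conj_eq y _ k' hk']
  have h2 : ∀ s ∈ Finset.univ.filter (fun s : G => ¬ ((∃ k : G, k * x * k⁻¹ = s) ∧
      ∃ k : G, k * y * k⁻¹ = s⁻¹ * z)),
      (Finset.univ.filter fun g : G => g * x * g⁻¹ = s).card
        * (Finset.univ.filter fun g : G => g * y * g⁻¹ = s⁻¹ * z).card = 0 := by
    intro s hs
    have hs' := (Finset.mem_filter.mp hs).2
    by_cases hk : ∃ k : G, k * x * k⁻¹ = s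
    · have hk' : ∀ k : G, k * y * k⁻¹ ≠ s⁻¹ * z := fun k hk2 => hs' ⟨hk, k, hk2⟩
      rw [card_conj_eq_zero y _ hk', mul_zero]
    · have hk' : ∀ k : G, k * x * k⁻¹ ≠ s := fun k hk2 => hk ⟨k, hk2⟩
      rw [card_conj_eq_zero x _ hk', zero_mul]
  rw [Finset.sum_congr rfl h1, Finset.sum_congr rfl h2, Finset.sum_const, Finset.sum_const_zero,
    add_zero, smul_eq_mul]

/-- A nontrivial irreducible character of a non-commutative simple group is faithful. -/
theorem faithful_of_simple [Finite G] [IsSimpleGroup G] (hG : ¬ IsMulCommutative G)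
    (χ : IrrCharacter G) (hχ : χ ≠ trivIrr G) (g : G)
    (hg : (χ : G → ℂ) g = (χ : G → ℂ) 1) : g = 1 := by
  obtain ⟨N, hN, hmem⟩ := Cfsg.Agent.Lib.CT.Kernel.exists_normal_ker (isCharacter_of_irr χ.2)
  rcases hN.eq_bot_or_eq_top with h | h
  · have h1 : g ∈ N := (hmem g).mpr hg
    rw [h] at h1
    exact Subgroup.mem_bot.mp h1
  · exfalso
    haveI : Fintype G := Fintype.ofFinite G
    have hconst : ∀ x : G, (χ : G → ℂ) x = (χ : G → ℂ) 1 := fun x =>
      (hmem x).mp (by rw [h]; exact Subgroup.mem_top x)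
    have h1 := irr_orthonormal χ (trivIrr G)
    rw [if_neg hχ] at h1
    unfold classInner at h1
    have h2 : ∑ g : G, (χ : G → ℂ) g * conj (((trivIrr G : IrrCharacter G) : G → ℂ) g)
        = (Nat.card G : ℂ) * (χ : G → ℂ) 1 := by
      rw [Finset.sum_congr rfl (fun g _ => by rw [hconst g, trivIrr_apply, map_one, mul_one])]
      rw [Finset.sum_const, Finset.card_univ, nsmul_eq_mul, Nat.card_eq_fintype_card]
    rw [h2] at h1
    have hne : (Nat.card G : ℂ) ≠ 0 := Nat.cast_ne_zero.mpr Nat.card_pos.ne'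
    have h3 : (χ : G → ℂ) 1 = 0 := by
      have h4 : (Nat.card G : ℂ)⁻¹ * ((Nat.card G : ℂ) * (χ : G → ℂ) 1) = (χ : G → ℂ) 1 := by
        field_simp
      rw [← h4, h1]
    exact irr_apply_one_ne_zero χ.2 h3

/-- An involution normalizing a self-centralizing subgroup of odd prime order inverts it. -/
theorem inverts_of_involution [Finite G] (P : Subgroup G) {p : ℕ} (hp : p.Prime)
    (hP : Nat.card P = p) (hp2 : p ≠ 2) (hC : centralizer (P : Set G) ≤ P) (t : G)
    (ht : orderOf t = 2) (htN : t ∈ normalizer (P : Set G)) (y : G) (hy : y ∈ P) :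
    t * y * t⁻¹ = y⁻¹ := by
  have htt : t * t = 1 := by
    have := pow_orderOf_eq_one t
    rwa [ht, pow_two] at this
  have ht1 : t ≠ 1 := by
    intro h
    rw [h, orderOf_one] at ht
    omega
  have htP : t ∉ P := not_mem_of_sq_eq_one P hp hP hp2 t htt ht1
  have hty : t * y * t⁻¹ ∈ P := (mem_normalizer_iff.mp htN y).mp hy
  obtain ⟨w, hw⟩ : ∃ w : G, w = y * (t * y * t⁻¹) := ⟨_, rfl⟩
  have hwP : w ∈ P := hw ▸ P.mul_mem hy hty
  have e1 : t * w * t⁻¹ = (t * y * t⁻¹) * ((t * t) * y * (t * t)⁻¹) := by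
    rw [hw]
    group
  rw [htt, one_mul, inv_one, mul_one] at e1
  have hc : (t * y * t⁻¹) * y = y * (t * y * t⁻¹) :=
    congrArg Subtype.val (comm_of_card_prime P hp hP ⟨t * y * t⁻¹, hty⟩ ⟨y, hy⟩)
  have hcomm : t * w * t⁻¹ = w := by rw [e1, hc, hw]
  by_contra hne
  have hw1 : w ≠ 1 := by
    intro h1
    apply hne
    rw [hw] at h1
    exact eq_inv_of_mul_eq_one_right h1
  have hcw : Commute w t := by
    show w * t = t * w
    calc w * t = (t * w * t⁻¹) * t := by rw [hcomm]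
      _ = t * w := by group
  have htC : t ∈ centralizer (P : Set G) := by
    rw [mem_centralizer_iff]
    intro h hh
    have hh' : h ∈ zpowers w := by
      rw [zpowers_eq_of_card_prime P hp hP w hwP hw1]
      exact hh
    obtain ⟨i, rfl⟩ := mem_zpowers_iff.mp hh'
    exact (Commute.zpow_left hcw i).eq
  exact htP (hC htC)

/-- Two involutions normalizing a self-centralizing subgroup of odd prime order are conjugate. -/
theorem conj_of_involutions [Finite G] (P : Subgroup G) {p : ℕ} (hp : p.Prime)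
    (hP : Nat.card P = p) (hp2 : p ≠ 2) (hC : centralizer (P : Set G) ≤ P) (s t : G)
    (hs : orderOf s = 2) (ht : orderOf t = 2) (hsN : s ∈ normalizer (P : Set G))
    (htN : t ∈ normalizer (P : Set G)) : ∃ v : G, v * t * v⁻¹ = s := by
  have htt : t * t = 1 := by
    have := pow_orderOf_eq_one t
    rwa [ht, pow_two] at this
  have hinvt := inverts_of_involution P hp hP hp2 hC t ht htN
  have hinvs := inverts_of_involution P hp hP hp2 hC s hs hsN
  have hwC : s * t ∈ centralizer (P : Set G) := by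
    rw [mem_centralizer_iff]
    intro y hy
    have h1 := hinvt y hy
    have h2 := hinvs y⁻¹ (P.inv_mem hy)
    rw [inv_inv] at h2
    have h3 : (s * t) * y * (s * t)⁻¹ = y := by
      have h4 : (s * t) * y * (s * t)⁻¹ = s * (t * y * t⁻¹) * s⁻¹ := by group
      rw [h4, h1, h2]
    calc y * (s * t) = ((s * t) * y * (s * t)⁻¹) * (s * t) := by rw [h3]
      _ = (s * t) * y := by group
  have hwP : s * t ∈ P := hC hwC
  obtain ⟨m, hm⟩ : ∃ m, p + 1 = 2 * m := by
    rcases hp.eq_two_or_odd with h | h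
    · exact absurd h hp2
    · exact ⟨(p + 1) / 2, by omega⟩
  have hvP : (s * t) ^ m ∈ P := P.pow_mem hwP m
  have hpow : (s * t) ^ p = 1 := by
    have h5 := orderOf_dvd_card_of_mem hwP
    rw [hP] at h5
    exact orderOf_dvd_iff_pow_eq_one.mp h5
  have hv2 : (s * t) ^ m * (s * t) ^ m = s * t := by
    rw [← pow_add, ← two_mul, ← hm, pow_succ, hpow, one_mul]
  refine ⟨(s * t) ^ m, ?_⟩
  have h5 : t * ((s * t) ^ m)⁻¹ * t⁻¹ = (s * t) ^ m := by
    have h6 := hinvt ((s * t) ^ m)⁻¹ (P.inv_mem hvP)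
    rwa [inv_inv] at h6
  calc (s * t) ^ m * t * ((s * t) ^ m)⁻¹
      = (s * t) ^ m * (t * ((s * t) ^ m)⁻¹ * t⁻¹) * t := by group
    _ = (s * t) ^ m * (s * t) ^ m * t := by rw [h5]
    _ = s * t * t := by rw [hv2]
    _ = s := by rw [mul_assoc, htt, mul_one]

/-- Splitting a sum into two distinguished indices, an injective family and the rest. -/
theorem sum_split3 {I R : Type*} [Fintype I] [DecidableEq I] [AddCommMonoid R] {n : ℕ}
    (θ : Fin n → I) (hθ : Function.Injective θ) (T χ : I) (hχT : χ ≠ T) (hθT : ∀ i, θ i ≠ T)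
    (hθχ : ∀ i, θ i ≠ χ) (F : I → R) :
    ∑ ψ, F ψ = F T + F χ + ∑ i, F (θ i)
      + ∑ ψ, (if ψ = T ∨ ψ = χ ∨ ∃ i, θ i = ψ then 0 else F ψ) := by
  classical
  rw [sum_split θ hθ F]
  have h1 : ∑ ψ, (if ∃ i, θ i = ψ then 0 else F ψ)
      = F T + F χ + ∑ ψ, (if ψ = T ∨ ψ = χ ∨ ∃ i, θ i = ψ then 0 else F ψ) := by
    rw [← Finset.add_sum_erase Finset.univ _ (Finset.mem_univ T),
      ← Finset.add_sum_erase (Finset.univ.erase T) _
        (Finset.mem_erase.mpr ⟨hχT, Finset.mem_univ _⟩)]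
    rw [if_neg (fun ⟨i, hi⟩ => hθT i hi), if_neg (fun ⟨i, hi⟩ => hθχ i hi), add_assoc]
    congr 2
    have h2 : ∑ ψ ∈ (Finset.univ.erase T).erase χ, (if ∃ i, θ i = ψ then 0 else F ψ)
        = ∑ ψ ∈ (Finset.univ.erase T).erase χ,
            (if ψ = T ∨ ψ = χ ∨ ∃ i, θ i = ψ then 0 else F ψ) := by
      apply Finset.sum_congr rfl
      intro ψ hψ
      have h3 := Finset.mem_erase.mp hψ
      have h4 := Finset.mem_erase.mp h3.2
      by_cases hex : ∃ i, θ i = ψ
      · rw [if_pos hex, if_pos (Or.inr (Or.inr hex))]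
      · rw [if_neg hex, if_neg (by
          rintro (h | h | h)
          · exact h4.1 h
          · exact h3.1 h
          · exact hex h)]
    rw [h2]
    apply Finset.sum_subset (Finset.subset_univ _)
    intro ψ _ hψ
    have h5 : ψ = T ∨ ψ = χ := by
      by_contra hcon
      push Not at hcon
      exact hψ (Finset.mem_erase.mpr ⟨hcon.2, Finset.mem_erase.mpr ⟨hcon.1, Finset.mem_univ _⟩⟩)
    rcases h5 with h | h
    · rw [if_pos (Or.inl h)]
    · rw [if_pos (Or.inr (Or.inl h))]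
  rw [h1]
  abel

end Cfsg.Agent.Lib.Helper17.EvenInv
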