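import Mathlib
import Cfsg.Agent.Lib.Helper17.EvenInv

/-!
The class equation for an arbitrary involution in the situation of `exceptional_two'`.
-/

set_option autoImplicit false
set_option linter.style.haveILetI false

namespace Cfsg.Agent.Lib.Helper17.EvenEq

open Cfsg Subgroup
open Cfsg.Agent.Lib.CT.Orth Cfsg.Agent.Lib.CT.Wedderburn Cfsg.Agent.Lib.CT.ClassMult
open Cfsg.Agent.Lib.Helper17.ExcOrb Cfsg.Agent.Lib.Helper17.ExcMain
open Cfsg.Agent.Lib.Helper17.ExcCor Cfsg.Agent.Lib.Helper17.Sylow2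
open Cfsg.Agent.Lib.Helper17.ExcInv Cfsg.Agent.Lib.Helper17.ExcSimple
open scoped ComplexConjugate

universe u

variable {G : Type u} [Group G]

theorem involution_equation' [Fintype G] [Fintype (IrrCharacter G)]
    (P : Subgroup G) {p : ℕ} (hp : p.Prime) (hP : Nat.card P = p) (hp2 : p ≠ 2)
    {n : ℕ} (ε δ : ℤ) (θ : Fin n → IrrCharacter G) (χ : IrrCharacter G) (i₀ : Fin n)
    (hε : ε = 1 ∨ ε = -1)
    (hθvan : ∀ i j, ∀ g : G, (∀ u : G, u⁻¹ * g * u ∉ P) → (θ i : G → ℂ) g = (θ j : G → ℂ) g)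
    (hθone : ∀ i j, (θ i : G → ℂ) 1 = (θ j : G → ℂ) 1)
    (hform : ∀ y : G, y ∈ P → y ≠ 1 → ∀ A : IrrCharacter G → ℂ, (∀ i j, A (θ i) = A (θ j)) →
        ∑ ψ, A ψ * conj ((ψ : G → ℂ) y)
          = A (trivIrr G) + (δ : ℂ) * A χ - (ε : ℂ) * A (θ i₀))
    (t : G) (ht : orderOf t = 2) (z : G) (hzP : z ∈ P) (hz1 : z ≠ 1) :
    ∃ (u : ℤ) (a : ℕ), (χ : G → ℂ) t = u ∧ (θ i₀ : G → ℂ) t = (ε : ℂ) * (1 + δ * u) ∧
      a < Nat.card (normalizer (P : Set G)) ∧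
      (a ≠ 0 → ∃ k : G, k * t * k⁻¹ ∈ normalizer (P : Set G)) ∧
      ((a * Nat.card (centralizer ({t} : Set G)) ^ 2 * charDegree (χ : G → ℂ)
          * charDegree ((θ i₀ : IrrCharacter G) : G → ℂ) : ℕ) : ℤ)
        = (Nat.card G : ℤ) * ((charDegree (χ : G → ℂ) : ℤ)
              * charDegree ((θ i₀ : IrrCharacter G) : G → ℂ)
            + δ * u ^ 2 * charDegree ((θ i₀ : IrrCharacter G) : G → ℂ)
            - ε * (1 + δ * u) ^ 2 * charDegree (χ : G → ℂ)) := by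
  classical
  have htt : t * t = 1 := by
    have := pow_orderOf_eq_one t
    rwa [ht, pow_two] at this
  have ht1 : t ≠ 1 := by
    intro h
    rw [h, orderOf_one] at ht
    omega
  have hconj_ne : ∀ k : G, k * t * k⁻¹ ≠ 1 := by
    intro k hk
    apply ht1
    have : t = k⁻¹ * (k * t * k⁻¹) * k := by group
    rw [this, hk]
    group
  have hconj_sq : ∀ k : G, (k * t * k⁻¹) * (k * t * k⁻¹) = 1 := by
    intro k
    have : (k * t * k⁻¹) * (k * t * k⁻¹) = k * (t * t) * k⁻¹ := by group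
    rw [this, htt]
    group
  have hnotP : ∀ k : G, k * t * k⁻¹ ∉ P := fun k =>
    not_mem_of_sq_eq_one P hp hP hp2 _ (hconj_sq k) (hconj_ne k)
  -- counting
  have hcount := card_pairs t z
  obtain ⟨a, ha⟩ : ∃ a : ℕ, a = (Finset.univ.filter fun s : G =>
      (∃ k : G, k * t * k⁻¹ = s) ∧ ∃ k : G, k * t * k⁻¹ = s⁻¹ * z).card := ⟨_, rfl⟩
  rw [← ha] at hcount
  have hmemN : ∀ s ∈ (Finset.univ.filter fun s : G =>
      (∃ k : G, k * t * k⁻¹ = s) ∧ ∃ k : G, k * t * k⁻¹ = s⁻¹ * z),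
      s ≠ 1 ∧ s ∈ normalizer (P : Set G) := by
    intro s hs
    obtain ⟨⟨k, hk⟩, ⟨k', hk'⟩⟩ := (Finset.mem_filter.mp hs).2
    refine ⟨hk ▸ hconj_ne k, ?_⟩
    have hss : s * s = 1 := hk ▸ hconj_sq k
    have hsinv : s⁻¹ = s := (eq_inv_of_mul_eq_one_left hss).symm
    have hsz : (s⁻¹ * z) * (s⁻¹ * z) = 1 := hk' ▸ hconj_sq k'
    have h1 : s⁻¹ * z * s = z⁻¹ := by
      have h2 : (s⁻¹ * z * s⁻¹) * z = 1 := by
        rw [← hsz]; group
      have h3 : s⁻¹ * z * s⁻¹ = z⁻¹ := eq_inv_of_mul_eq_one_left h2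
      have h4 : s⁻¹ * z * s = s⁻¹ * z * s⁻¹ := congrArg (fun w => s⁻¹ * z * w) hsinv.symm
      rw [h4, h3]
    apply mem_normalizer_of_conj_mem P hp hP s z hzP hz1
    rw [h1]
    exact P.inv_mem hzP
  have ha2 : a < Nat.card (normalizer (P : Set G)) := by
    have hsub : (Finset.univ.filter fun s : G =>
        (∃ k : G, k * t * k⁻¹ = s) ∧ ∃ k : G, k * t * k⁻¹ = s⁻¹ * z)
        ⊆ (Finset.univ.filter fun s : G => s ∈ normalizer (P : Set G)).erase 1 := by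
      intro s hs
      rw [Finset.mem_erase, Finset.mem_filter]
      exact ⟨(hmemN s hs).1, Finset.mem_univ _, (hmemN s hs).2⟩
    have hcard := Finset.card_le_card hsub
    rw [← ha, Finset.card_erase_of_mem
      (Finset.mem_filter.mpr ⟨Finset.mem_univ _, one_mem _⟩)] at hcard
    have hN : (Finset.univ.filter fun s : G => s ∈ normalizer (P : Set G)).card
        = Nat.card (normalizer (P : Set G)) := by
      rw [← Fintype.card_subtype, ← Nat.card_eq_fintype_card]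
    rw [hN] at hcard
    have hpos : 0 < Nat.card (normalizer (P : Set G)) := Nat.card_pos
    omega
  have ha3 : a ≠ 0 → ∃ k : G, k * t * k⁻¹ ∈ normalizer (P : Set G) := by
    intro ha0
    rw [ha] at ha0
    obtain ⟨s, hs⟩ := Finset.card_pos.mp (Nat.pos_of_ne_zero ha0)
    obtain ⟨⟨k, hk⟩, -⟩ := (Finset.mem_filter.mp hs).2
    exact ⟨k, hk ▸ (hmemN s hs).2⟩
  -- character values
  obtain ⟨u, hu⟩ := int_of_involution χ t ht
  have hnotPu : ∀ w : G, w⁻¹ * t * w ∉ P := by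
    intro w
    have := hnotP w⁻¹
    rwa [inv_inv] at this
  have hθt : ∀ i j, (θ i : G → ℂ) t = (θ j : G → ℂ) t := fun i j => hθvan i j t hnotPu
  have hnc : ¬ IsConj t z := by
    intro hc
    obtain ⟨c, hc⟩ := isConj_iff.mp hc
    exact hnotP c (hc ▸ hzP)
  have horth := second_orthogonality_sum_of_not_isConj t z hnc
  have hA1 : ∀ i j, (fun ψ : IrrCharacter G => (ψ : G → ℂ) t) (θ i)
      = (fun ψ : IrrCharacter G => (ψ : G → ℂ) t) (θ j) := fun i j => hθt i j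
  have e1 := hform z hzP hz1 (fun ψ : IrrCharacter G => (ψ : G → ℂ) t) hA1
  rw [horth, trivIrr_apply, hu] at e1
  have hA2 : ∀ i j, (fun ψ : IrrCharacter G => (ψ : G → ℂ) t * (ψ : G → ℂ) t / (ψ : G → ℂ) 1)
      (θ i) = (fun ψ : IrrCharacter G => (ψ : G → ℂ) t * (ψ : G → ℂ) t / (ψ : G → ℂ) 1) (θ j) := by
    intro i j
    show (θ i : G → ℂ) t * (θ i : G → ℂ) t / (θ i : G → ℂ) 1
      = (θ j : G → ℂ) t * (θ j : G → ℂ) t / (θ j : G → ℂ) 1
    rw [hθt i j, hθone i j]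
  have e2 := hform z hzP hz1
    (fun ψ : IrrCharacter G => (ψ : G → ℂ) t * (ψ : G → ℂ) t / (ψ : G → ℂ) 1) hA2
  have hpc := conj_pair_count t t z
  have hsum : ∑ ψ : IrrCharacter G,
      (ψ : G → ℂ) t * (ψ : G → ℂ) t * conj ((ψ : G → ℂ) z) / (ψ : G → ℂ) 1
      = ∑ ψ : IrrCharacter G,
        (ψ : G → ℂ) t * (ψ : G → ℂ) t / (ψ : G → ℂ) 1 * conj ((ψ : G → ℂ) z) :=
    Finset.sum_congr rfl (fun ψ _ => by ring)
  rw [hsum, e2, hcount] at hpc
  simp only [trivIrr_apply] at hpc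
  rw [hu, deg_eq χ, deg_eq (θ i₀)] at hpc
  have hD : (charDegree (χ : G → ℂ) : ℂ) ≠ 0 :=
    Nat.cast_ne_zero.mpr (irr_charDegree_pos χ.2).ne'
  have hd : (charDegree ((θ i₀ : IrrCharacter G) : G → ℂ) : ℂ) ≠ 0 :=
    Nat.cast_ne_zero.mpr (irr_charDegree_pos (θ i₀).2).ne'
  have hε2 : (ε : ℂ) * ε = 1 := by
    rcases hε with h | h <;> rw [h] <;> norm_num
  -- θ(t) = ε (1 + δ u)
  have hv : (θ i₀ : G → ℂ) t = (ε : ℂ) * (1 + δ * u) := by
    have h1 : (ε : ℂ) * (θ i₀ : G → ℂ) t = 1 + δ * u := by linear_combination e1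
    calc (θ i₀ : G → ℂ) t = (ε * ε) * (θ i₀ : G → ℂ) t := by rw [hε2, one_mul]
      _ = ε * (ε * (θ i₀ : G → ℂ) t) := by ring
      _ = ε * (1 + δ * u) := by rw [h1]
  refine ⟨u, a, hu, hv, ha2, ha3, ?_⟩
  rw [hv] at hpc
  have key : (((a * Nat.card (centralizer ({t} : Set G)) ^ 2 * charDegree (χ : G → ℂ)
          * charDegree ((θ i₀ : IrrCharacter G) : G → ℂ) : ℕ) : ℤ) : ℂ)
        = (((Nat.card G : ℤ) * ((charDegree (χ : G → ℂ) : ℤ)
              * charDegree ((θ i₀ : IrrCharacter G) : G → ℂ)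
            + δ * u ^ 2 * charDegree ((θ i₀ : IrrCharacter G) : G → ℂ)
            - ε * (1 + δ * u) ^ 2 * charDegree (χ : G → ℂ)) : ℤ) : ℂ) := by
    push_cast
    push_cast at hpc
    rw [hpc]
    field_simp
    linear_combination (-(charDegree (χ : G → ℂ) : ℂ) * ε * (1 + δ * u) ^ 2) * hε2
  exact_mod_cast key

end Cfsg.Agent.Lib.Helper17.EvenEq
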