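import Mathlib
import Cfsg.Agent.Lib.Helper68.FixStmt

set_option autoImplicit false

/-!
Base change of a representation over `ZMod 2` to the algebraic closure: dimension of the fixed
points, invariance of the fixed points, faithfulness (piece TRANSFER of S4414).
-/

namespace Cfsg.Agent.Lib.Helper17.FixTRANSFER

open Cfsg.Agent.Lib.Helper68.FixStmt
open scoped TensorProduct

universe u v

section gen

variable {F : Type} [Field F] {k : Type} [Field k] [Algebra F k]
  {S : Type u} [Group S] {E : Type v} [AddCommGroup E] [Module F E]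

/-- the base change of a representation -/
noncomputable def bc (ρ : Representation F S E) : Representation k S (k ⊗[F] E) where
  toFun s := (ρ s).baseChange k
  map_one' := by
    rw [map_one]
    exact LinearMap.baseChange_one F E
  map_mul' s t := by
    rw [map_mul]
    exact LinearMap.baseChange_mul _ _

theorem bc_tmul (ρ : Representation F S E) (s : S) (c : k) (e : E) :
    bc (k := k) ρ s (c ⊗ₜ[F] e) = c ⊗ₜ[F] (ρ s e) := rfl

/-- the base change acts coordinatewise with respect to a basis of `k` -/
theorem coord_bc {ι : Type*} [DecidableEq ι] (κ : Module.Basis ι F k) (ρ : Representation F S E) (s : S)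
    (m : k ⊗[F] E) (i : ι) :
    TensorProduct.equivFinsuppOfBasisLeft κ (bc (k := k) ρ s m) i =
      ρ s (TensorProduct.equivFinsuppOfBasisLeft κ m i) := by
  induction m using TensorProduct.induction_on with
  | zero => simp only [map_zero, Finsupp.zero_apply]
  | tmul c e =>
    rw [bc_tmul, TensorProduct.equivFinsuppOfBasisLeft_apply_tmul_apply,
      TensorProduct.equivFinsuppOfBasisLeft_apply_tmul_apply, map_smul]
  | add x y hx hy =>
    have e1 : bc (k := k) ρ s (x + y) = bc (k := k) ρ s x + bc (k := k) ρ s y := map_add _ _ _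
    have e2 : TensorProduct.equivFinsuppOfBasisLeft κ (x + y) =
        TensorProduct.equivFinsuppOfBasisLeft κ x + TensorProduct.equivFinsuppOfBasisLeft κ y :=
      map_add _ _ _
    rw [e1, map_add, Finsupp.add_apply, hx, hy, e2, Finsupp.add_apply, map_add]

theorem fix_eq (ρ : Representation F S E) (T : Subgroup S) :
    fixT (bc (k := k) ρ) T = LinearMap.range ((fixT ρ T).subtype.baseChange k) := by
  classical
  apply le_antisymm
  · intro m hm
    have hcoord : ∀ i, TensorProduct.equivFinsuppOfBasisLeft (N := E)
        (Module.Free.chooseBasis F k) m i ∈ fixT ρ T := by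
      intro i
      rw [mem_fixT]
      intro t ht
      rw [← coord_bc (Module.Free.chooseBasis F k) ρ t m i, hm t ht]
    have hm' : m = (TensorProduct.equivFinsuppOfBasisLeft (N := E)
        (Module.Free.chooseBasis F k) m).sum
        fun i n => (Module.Free.chooseBasis F k) i ⊗ₜ[F] n := by
      rw [← TensorProduct.equivFinsuppOfBasisLeft_symm_apply, LinearEquiv.symm_apply_apply]
    rw [hm']
    unfold Finsupp.sum
    apply Submodule.sum_mem
    intro i _
    exact ⟨(Module.Free.chooseBasis F k) i ⊗ₜ[F] ⟨_, hcoord i⟩, rfl⟩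
  · rintro _ ⟨z, rfl⟩
    rw [mem_fixT]
    intro t ht
    induction z using TensorProduct.induction_on with
    | zero => simp
    | tmul c w =>
      rw [LinearMap.baseChange_tmul, bc_tmul]
      congr 1
      exact w.2 t ht
    | add x y hx hy => rw [map_add, map_add, hx, hy]

theorem finrank_fix (ρ : Representation F S E) (T : Subgroup S) :
    Module.finrank k (fixT (bc (k := k) ρ) T) = Module.finrank F (fixT ρ T) := by
  rw [fix_eq]
  have hinj : Function.Injective ((fixT ρ T).subtype.baseChange k) := by
    show Function.Injective ((fixT ρ T).subtype.lTensor k)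
    exact Module.Flat.lTensor_preserves_injective_linearMap _ (Submodule.injective_subtype _)
  rw [LinearMap.finrank_range_of_inj hinj, Module.finrank_baseChange]

theorem inv_fix (ρ : Representation F S E) (T : Subgroup S) (x : S)
    (h : ∀ e ∈ fixT ρ T, ρ x e ∈ fixT ρ T) :
    ∀ m ∈ fixT (bc (k := k) ρ) T, bc (k := k) ρ x m ∈ fixT (bc (k := k) ρ) T := by
  intro m hm
  rw [fix_eq] at hm ⊢
  obtain ⟨z, rfl⟩ := hm
  induction z using TensorProduct.induction_on with
  | zero =>
    rw [map_zero, map_zero]
    exact Submodule.zero_mem _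
  | tmul c w => exact ⟨c ⊗ₜ[F] ⟨ρ x w.1, h w.1 w.2⟩, rfl⟩
  | add a b ha hb =>
    rw [map_add, map_add]
    exact Submodule.add_mem _ ha hb

theorem faithful (ρ : Representation F S E) (s : S) (h : bc (k := k) ρ s = 1) : ρ s = 1 := by
  classical
  have h1 : (Module.Free.chooseBasis F k).repr (1 : k) ≠ 0 := by
    intro h0
    exact one_ne_zero ((LinearEquiv.map_eq_zero_iff _).1 h0)
  obtain ⟨i, hi⟩ : ∃ i, (Module.Free.chooseBasis F k).repr (1 : k) i ≠ 0 := by
    by_contra hcon
    push Not at hcon
    exact h1 (Finsupp.ext hcon)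
  apply LinearMap.ext
  intro e
  have h2 := coord_bc (Module.Free.chooseBasis F k) ρ s ((1 : k) ⊗ₜ[F] e) i
  rw [h, Module.End.one_apply, TensorProduct.equivFinsuppOfBasisLeft_apply_tmul_apply,
    map_smul] at h2
  have h3 := smul_right_injective E hi h2
  rw [Module.End.one_apply]
  exact h3.symm

end gen

theorem main : TRANSFER.{u, v} := by
  intro S _ _ E _ _ _ ρ
  have hp : Fact (Nat.Prime 2) := ⟨Nat.prime_two⟩
  refine ⟨AlgebraicClosure (ZMod 2), inferInstance, inferInstance, ?_,
    (AlgebraicClosure (ZMod 2)) ⊗[ZMod 2] E, inferInstance, inferInstance, inferInstance,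
    bc ρ, ?_, ?_, ?_⟩
  · exact charP_of_injective_algebraMap (algebraMap (ZMod 2) (AlgebraicClosure (ZMod 2))).injective 2
  · intro s hs
    exact faithful ρ s hs
  · intro T
    exact finrank_fix ρ T
  · intro T x h
    exact inv_fix ρ T x h

end Cfsg.Agent.Lib.Helper17.FixTRANSFER
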