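import Mathlib
import Cfsg.Agent.Lib.Helper40.HPStmt

set_option autoImplicit false

/-!
# S5974, piece NDARITHJ (second seat): pure arithmetic
-/

namespace Cfsg.Agent.Lib.Helper17.HPNDARITHJ

open Cfsg.Agent.Lib.Helper40.HPStmt
open Cfsg.Agent.Lib.Helper37.HypStmt (cc)

theorem main : NdArithJ := by
  intro q d h t r hr hr2 hrq hth hhd hdvd
  have hfact : Fact r.Prime := ⟨hr⟩
  have hqpos : 0 < q := by
    rcases Nat.eq_zero_or_pos q with h0 | h0
    · exact absurd (h0 ▸ dvd_zero r) hrq
    · exact h0
  obtain ⟨i, hi⟩ : ∃ i : ℕ, i = orderOf ((q : ℕ) : ZMod r) := ⟨_, rfl⟩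
  rw [← hi]
  have hpow_pos : ∀ n, 1 ≤ q ^ n := fun n => Nat.one_le_pow _ _ hqpos
  unfold NDivC
  rcases (Nat.Prime.dvd_mul hr).mp hdvd with hA | hB
  · have h1 : ((q : ℕ) : ZMod r) ^ (d - t) = 1 := by
      have h2 : (((q ^ (d - t) - 1 : ℕ)) : ZMod r) = 0 := (ZMod.natCast_eq_zero_iff _ _).mpr hA
      rw [Nat.cast_sub (hpow_pos _), Nat.cast_pow, Nat.cast_one, sub_eq_zero] at h2
      exact h2
    have hid : i ∣ d - t := by rw [hi]; exact orderOf_dvd_of_pow_eq_one h1
    obtain ⟨k, hk⟩ := hid
    constructor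
    · intro hodd
      have hcc : cc i = 2 * i := by
        unfold cc; rw [if_neg (Nat.not_even_iff_odd.mpr hodd)]
      rw [hcc]
      by_cases hle : 2 * i ≤ 2 * h
      · left; exact hle
      · right
        have h2d : 2 * d = 2 * t + (2 * i) * k := by
          have h3 : (2 * i) * k = 2 * (i * k) := by ring
          omega
        rw [h2d, Nat.add_mul_mod_self_left, Nat.mod_eq_of_lt (by omega)]
        omega
    · intro _
      by_cases hle : i ≤ 2 * h
      · left; exact hle
      · right; right; left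
        have h2d : 2 * d = 2 * t + i * (2 * k) := by
          have h3 : i * (2 * k) = 2 * (i * k) := by ring
          omega
        rw [h2d, Nat.add_mul_mod_self_left, Nat.mod_eq_of_lt (by omega)]
        omega
  · have h1 : ((q : ℕ) : ZMod r) ^ (d - t - 1) = -1 := by
      have h2 : (((q ^ (d - t - 1) + 1 : ℕ)) : ZMod r) = 0 :=
        (ZMod.natCast_eq_zero_iff _ _).mpr hB
      rw [Nat.cast_add, Nat.cast_pow, Nat.cast_one] at h2
      exact eq_neg_of_add_eq_zero_left h2
    have hne : (-1 : ZMod r) ≠ 1 := by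
      have h2r : Fact (2 < r) := ⟨by have := hr.two_le; omega⟩
      exact ZMod.neg_one_ne_one
    have hnd : ¬ i ∣ d - t - 1 := by
      intro hd
      rw [hi] at hd
      have h3 := orderOf_dvd_iff_pow_eq_one.mp hd
      rw [h1] at h3
      exact hne h3
    have h2 : ((q : ℕ) : ZMod r) ^ (2 * (d - t - 1)) = 1 := by
      rw [mul_comm, pow_mul, h1]; norm_num
    have hd2 : i ∣ 2 * (d - t - 1) := by rw [hi]; exact orderOf_dvd_of_pow_eq_one h2
    have hieven : Even i := by
      by_contra hodd
      rw [Nat.not_even_iff_odd] at hodd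
      have hcop : Nat.Coprime i 2 := Nat.coprime_two_right.mpr hodd
      exact hnd (hcop.dvd_of_dvd_mul_left hd2)
    constructor
    · intro hodd
      exact absurd hieven (Nat.not_even_iff_odd.mpr hodd)
    · intro _
      obtain ⟨i', hi'⟩ := hieven
      obtain ⟨n, hn⟩ := hd2
      have hs : d - t - 1 = i' * n := by
        have h3 : 2 * (d - t - 1) = 2 * (i' * n) := by rw [hn, hi']; ring
        omega
      have hnodd : Odd n := by
        by_contra hev
        rw [Nat.not_odd_iff_even] at hev
        obtain ⟨n', hn'⟩ := hev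
        apply hnd
        refine ⟨n', ?_⟩
        rw [hs, hn', hi']; ring
      obtain ⟨k, hk⟩ := hnodd
      have h2d : 2 * d = (2 * t + 2) + i * (2 * k + 1) := by
        have h3 : 2 * (d - t - 1) = i * (2 * k + 1) := by rw [hn, hk]
        omega
      by_cases hle : i ≤ 2 * h
      · left; exact hle
      · right; right
        have hlt : 2 * t + 2 < i := by omega
        have hmod : (2 * d) % i = 2 * t + 2 := by
          rw [h2d, Nat.add_mul_mod_self_left, Nat.mod_eq_of_lt hlt]
        have hdiv : (2 * d) / i = 2 * k + 1 := by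
          rw [h2d, Nat.add_mul_div_left _ _ (by omega), Nat.div_eq_of_lt hlt, zero_add]
        rw [hmod, hdiv]
        by_cases hlt2 : 2 * t + 2 < 2 * h
        · left; exact hlt2
        · right
          exact ⟨by omega, ⟨k, rfl⟩⟩

end Cfsg.Agent.Lib.Helper17.HPNDARITHJ
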