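import Mathlib
import Cfsg.Agent.Lib.Helper17.Sylow
import Cfsg.Agent.Lib.Helper17.SylowConj
import Cfsg.Agent.Lib.Helper99.SylAct

/-!
Groups of order `4 g₀`, `g₀` odd, without a normal `2`-complement: the Sylow `2`-subgroups are
Klein four groups and all involutions are conjugate.
-/

set_option autoImplicit false
set_option linter.style.haveILetI false

namespace Cfsg.Agent.Lib.Helper17.KleinG0

open Subgroup

universe u
variable {G : Type u} [Group G]

theorem four_set {α : Type*} [DecidableEq α] (s : Finset α) (hs : s.card = 4) (a b c : α)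
    (ha : a ∈ s) (hb : b ∈ s) (hc : c ∈ s) (hab : a ≠ b) (hac : a ≠ c) (hbc : b ≠ c) :
    ∃ d ∈ s, d ≠ a ∧ d ≠ b ∧ d ≠ c ∧ ∀ y ∈ s, y = a ∨ y = b ∨ y = c ∨ y = d := by
  have h1 : (((s.erase a).erase b).erase c).card = 1 := by
    rw [Finset.card_erase_of_mem, Finset.card_erase_of_mem, Finset.card_erase_of_mem ha, hs]
    · exact Finset.mem_erase.mpr ⟨hab.symm, hb⟩
    · exact Finset.mem_erase.mpr ⟨hbc.symm, Finset.mem_erase.mpr ⟨hac.symm, hc⟩⟩
  obtain ⟨d, hd⟩ := Finset.card_eq_one.mp h1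
  have hd' : d ∈ ((s.erase a).erase b).erase c := by rw [hd]; exact Finset.mem_singleton_self d
  simp only [Finset.mem_erase] at hd'
  refine ⟨d, hd'.2.2.2, hd'.2.2.1, hd'.2.1, hd'.1, ?_⟩
  intro y hy
  by_cases hya : y = a
  · exact Or.inl hya
  by_cases hyb : y = b
  · exact Or.inr (Or.inl hyb)
  by_cases hyc : y = c
  · exact Or.inr (Or.inr (Or.inl hyc))
  right; right; right
  have h2 : y ∈ ((s.erase a).erase b).erase c := by
    simp only [Finset.mem_erase]
    exact ⟨hyc, hyb, hya, hy⟩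
  rw [hd] at h2
  exact Finset.mem_singleton.mp h2

/-- A group of order `4 g₀`, `g₀` odd, without a normal subgroup of order `g₀`: the Sylow
`2`-subgroups have exponent two and all involutions are conjugate. -/
theorem klein_of_no_complement [Finite G] (g₀ : ℕ) (hg₀ : Odd g₀) (hG : Nat.card G = 4 * g₀)
    (hnc : ¬ ∃ N : Subgroup G, N.Normal ∧ Nat.card N = g₀) (P : Sylow 2 G) (J : G)
    (hJ : J ∈ (P : Subgroup G)) (hJ2 : orderOf J = 2) :
    Nat.card (P : Subgroup G) = 4 ∧ (∀ x ∈ (P : Subgroup G), x * x = 1) ∧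
      (∀ s t : G, orderOf s = 2 → orderOf t = 2 → IsConj s t) := by
  classical
  haveI : Fact (Nat.Prime 2) := ⟨Nat.prime_two⟩
  haveI : Fintype G := Fintype.ofFinite G
  have hg₀' : ¬ 2 ∣ g₀ := by
    rcases hg₀ with ⟨k, rfl⟩
    omega
  have hP4 : Nat.card (P : Subgroup G) = 4 := by
    have h1 := Cfsg.Agent.Lib.Helper17.Sylow.card_sylow_subgroup (p := 2) (k := 2) (m := g₀)
      (by rw [hG]; norm_num) hg₀' P
    rw [h1]
    norm_num
  have hcomm : ∀ a b : (P : Subgroup G), a * b = b * a :=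
    IsPGroup.commutative_of_card_eq_prime_sq (p := 2) (by rw [hP4]; norm_num)
  have hcomm' : ∀ a ∈ (P : Subgroup G), ∀ b ∈ (P : Subgroup G), a * b = b * a := by
    intro a ha b hb
    exact congrArg Subtype.val (hcomm ⟨a, ha⟩ ⟨b, hb⟩)
  -- `N(P)` is not contained in `C(P)`
  have hNC : ¬ (normalizer ((P : Subgroup G) : Set G) ≤ centralizer ((P : Subgroup G) : Set G)) := by
    intro h
    have hc := MonoidHom.ker_transferSylow_isComplement' P h
    apply hnc
    refine ⟨(MonoidHom.transferSylow P h).ker, (MonoidHom.transferSylow P h).normal_ker, ?_⟩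
    have h1 := hc.card_mul_card
    rw [hP4, hG] at h1
    omega
  obtain ⟨n, hnN, hnC⟩ := SetLike.not_le_iff_exists.mp hNC
  have hx : ∃ x ∈ (P : Subgroup G), n * x * n⁻¹ ≠ x := by
    by_contra hcon
    push Not at hcon
    apply hnC
    rw [mem_centralizer_iff]
    intro h hh
    have h1 := hcon h hh
    have h2 : n * h = h * n := by
      calc n * h = n * h * n⁻¹ * n := by group
        _ = h * n := by rw [h1]
    exact h2.symm
  obtain ⟨x, hxP, hxn⟩ := hx
  have hcP : ∀ y, y ∈ (P : Subgroup G) → n * y * n⁻¹ ∈ (P : Subgroup G) :=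
    fun y hy => (mem_normalizer_iff.mp hnN y).mp hy
  have hcinj : ∀ y y' : G, n * y * n⁻¹ = n * y' * n⁻¹ → y = y' := by
    intro y y' h
    exact mul_left_cancel (mul_right_cancel h)
  have hc1 : ∀ y : G, y ≠ 1 → n * y * n⁻¹ ≠ 1 := by
    intro y hy h
    exact hy (conj_eq_one_iff.mp h)
  -- an odd power of `n` centralizes `P`
  obtain ⟨k, l, hl, hkl⟩ := Nat.exists_eq_two_pow_mul_odd (orderOf_pos n).ne'
  have hnl : n ^ l ∈ (P : Subgroup G) := by
    apply Cfsg.Agent.Lib.Helper99.SylAct.mem_sylow_of_pow_eq_one P k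
    · rw [← pow_mul, mul_comm, ← hkl, pow_orderOf_eq_one]
    · exact pow_mem hnN l
  have hpow : ∀ y ∈ (P : Subgroup G), n ^ l * y * (n ^ l)⁻¹ = y := by
    intro y hy
    rw [hcomm' _ hnl y hy]
    group
  obtain ⟨j, hj⟩ := hl
  -- the elements of `P` as a finset
  set s : Finset G := Finset.univ.filter (fun y => y ∈ (P : Subgroup G)) with hs
  have hmem : ∀ y, y ∈ s ↔ y ∈ (P : Subgroup G) := by
    intro y
    rw [hs, Finset.mem_filter]
    simp
  have hs4 : s.card = 4 := by
    rw [← hP4, Nat.card_eq_fintype_card, Fintype.card_subtype]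
  have h1s : (1 : G) ∈ s := (hmem 1).mpr (one_mem _)
  -- no fixed points
  have step3 : ∀ y ∈ (P : Subgroup G), y ≠ 1 → n * y * n⁻¹ ≠ y := by
    intro y hy hy1 hfix
    have hx1 : x ≠ 1 := by
      rintro rfl
      apply hxn
      group
    have hxy : x ≠ y := by
      rintro rfl
      exact hxn hfix
    obtain ⟨d, hds, hd1, hdy, hdx, hall⟩ := four_set s hs4 1 y x h1s ((hmem y).mpr hy)
      ((hmem x).mpr hxP) (Ne.symm hy1) (Ne.symm hx1) (Ne.symm hxy)
    have hdP : d ∈ (P : Subgroup G) := (hmem d).mp hds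
    have hcx : n * x * n⁻¹ = d := by
      rcases hall _ ((hmem _).mpr (hcP x hxP)) with h | h | h | h
      · exact absurd h (hc1 x hx1)
      · exfalso
        rw [← hfix] at h
        exact hxy (hcinj _ _ h)
      · exact absurd h hxn
      · exact h
    have hcd : n * d * n⁻¹ = x := by
      rcases hall _ ((hmem _).mpr (hcP d hdP)) with h | h | h | h
      · exact absurd h (hc1 d hd1)
      · exfalso
        rw [← hfix] at h
        exact hdy (hcinj _ _ h)
      · exact h
      · exfalso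
        exact hdx (hcinj _ _ (h.trans hcx.symm))
    have hodd : ∀ i : ℕ, n ^ (2 * i + 1) * x * (n ^ (2 * i + 1))⁻¹ = d := by
      intro i
      induction i with
      | zero => simpa using hcx
      | succ i ih =>
        have e1 : n ^ (2 * (i + 1) + 1) = n * n * n ^ (2 * i + 1) := by
          rw [show 2 * (i + 1) + 1 = (2 * i + 1) + 1 + 1 by ring, pow_succ' n (2 * i + 1 + 1),
            pow_succ' n (2 * i + 1), mul_assoc]
        rw [e1]
        calc n * n * n ^ (2 * i + 1) * x * (n * n * n ^ (2 * i + 1))⁻¹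
            = n * (n * (n ^ (2 * i + 1) * x * (n ^ (2 * i + 1))⁻¹) * n⁻¹) * n⁻¹ := by group
          _ = n * (n * d * n⁻¹) * n⁻¹ := by rw [ih]
          _ = n * x * n⁻¹ := by rw [hcd]
          _ = d := hcx
    have h5 := hpow x hxP
    rw [hj, hodd j] at h5
    exact hdx h5
  have step4 : ∀ y ∈ (P : Subgroup G), y ≠ 1 → n * (n * y * n⁻¹) * n⁻¹ ≠ y := by
    intro y hy hy1 h2
    have h3 := step3 y hy hy1
    obtain ⟨d, hds, hd1, hdy, hdc, hall⟩ := four_set s hs4 1 y (n * y * n⁻¹) h1s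
      ((hmem y).mpr hy) ((hmem _).mpr (hcP y hy)) (Ne.symm hy1) (Ne.symm (hc1 y hy1))
      (Ne.symm h3)
    have hdP : d ∈ (P : Subgroup G) := (hmem d).mp hds
    rcases hall _ ((hmem _).mpr (hcP d hdP)) with h | h | h | h
    · exact absurd h (hc1 d hd1)
    · rw [← h2] at h
      exact hdc (hcinj _ _ h)
    · exact hdy (hcinj _ _ h)
    · exact step3 d hdP hd1 h
  -- the four elements of `P`
  have hJ1 : J ≠ 1 := by
    rintro rfl
    rw [orderOf_one] at hJ2
    omega
  have haP := hcP J hJ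
  have hbP := hcP _ haP
  have ha1 := hc1 J hJ1
  have hb1 := hc1 _ ha1
  have hJa : J ≠ n * J * n⁻¹ := Ne.symm (step3 J hJ hJ1)
  have hab : n * J * n⁻¹ ≠ n * (n * J * n⁻¹) * n⁻¹ := Ne.symm (step3 _ haP ha1)
  have hJb : J ≠ n * (n * J * n⁻¹) * n⁻¹ := Ne.symm (step4 J hJ hJ1)
  obtain ⟨d, hds, hdJ, hda, hdb, hall⟩ := four_set s hs4 J (n * J * n⁻¹)
    (n * (n * J * n⁻¹) * n⁻¹) ((hmem J).mpr hJ) ((hmem _).mpr haP) ((hmem _).mpr hbP) hJa hJb hab
  have hd1 : d = 1 := by
    rcases hall 1 h1s with h | h | h | h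
    · exact absurd h.symm hJ1
    · exact absurd h.symm ha1
    · exact absurd h.symm hb1
    · exact h.symm
  have hJJ : J * J = 1 := by
    have := pow_orderOf_eq_one J
    rwa [hJ2, pow_two] at this
  have hcases : ∀ y ∈ (P : Subgroup G), y = 1 ∨ ∃ c : G, c * J * c⁻¹ = y := by
    intro y hy
    rcases hall y ((hmem y).mpr hy) with h | h | h | h
    · exact Or.inr ⟨1, by rw [h]; group⟩
    · exact Or.inr ⟨n, h.symm⟩
    · exact Or.inr ⟨n * n, by rw [h]; group⟩
    · exact Or.inl (h.trans hd1)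
  refine ⟨hP4, ?_, ?_⟩
  · intro y hy
    rcases hcases y hy with rfl | ⟨c, rfl⟩
    · exact mul_one 1
    · calc c * J * c⁻¹ * (c * J * c⁻¹) = c * (J * J) * c⁻¹ := by group
        _ = 1 := by rw [hJJ]; group
  · have key : ∀ s : G, orderOf s = 2 → IsConj s J := by
      intro t ht
      have h2 : IsPGroup 2 (Subgroup.zpowers t) :=
        IsPGroup.of_card (n := 1) (by rw [Nat.card_zpowers, ht, pow_one])
      obtain ⟨Q, hQ⟩ := h2.exists_le_sylow
      obtain ⟨g, hg⟩ := MulAction.exists_smul_eq G P Q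
      have htQ : t ∈ (Q : Subgroup G) := hQ (Subgroup.mem_zpowers t)
      rw [← hg, Cfsg.Agent.Lib.Helper17.SylowConj.mem_smul_sylow_iff] at htQ
      have ht1 : t ≠ 1 := by
        rintro rfl
        rw [orderOf_one] at ht
        omega
      rcases hcases _ htQ with h | ⟨c, hc⟩
      · exfalso
        apply ht1
        have h3 : g⁻¹ * t * (g⁻¹)⁻¹ = 1 := by rw [inv_inv]; exact h
        exact conj_eq_one_iff.mp h3
      · rw [isConj_comm, isConj_iff]
        refine ⟨g * c, ?_⟩
        calc g * c * J * (g * c)⁻¹ = g * (c * J * c⁻¹) * g⁻¹ := by group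
          _ = g * (g⁻¹ * t * g) * g⁻¹ := by rw [hc]
          _ = t := by group
    intro s t hs ht
    exact (key s hs).trans (key t ht).symm

end Cfsg.Agent.Lib.Helper17.KleinG0
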