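import Mathlib
import Cfsg.Agent.Lib.Helper75.KleinFour

/-!
Groups with Klein four Sylow `2`-subgroups: element orders, and the normal `2`-complement of the
centralizer of an involution.
-/

set_option autoImplicit false
set_option linter.style.haveILetI false

namespace Cfsg.Agent.Lib.Helper17.KleinLocal

open Subgroup Cfsg.Agent.Lib.Helper75.KleinFour

universe u
variable {G : Type u} [Group G]

/-- No element has order divisible by four. -/
theorem no_four [Finite G] (P : Sylow 2 G) (hexp : ∀ x ∈ (P : Subgroup G), x * x = 1) (g : G) :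
    ¬ 4 ∣ orderOf g := by
  intro h4
  have h1 : orderOf (g ^ (orderOf g / 4)) = 4 :=
    orderOf_pow_orderOf_div (orderOf_pos g).ne' h4
  have h2 := two_elt_sq P hexp (g ^ (orderOf g / 4)) ⟨2, by rw [h1]; norm_num⟩
  have h3 : orderOf (g ^ (orderOf g / 4)) ∣ 2 := by
    apply orderOf_dvd_of_pow_eq_one
    rw [pow_two]
    exact h2
  rw [h1] at h3
  omega

/-- An element of even order has order `2 m` with `m` odd. -/
theorem even_decomp [Finite G] (P : Sylow 2 G) (hexp : ∀ x ∈ (P : Subgroup G), x * x = 1) (g : G)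
    (hg : 2 ∣ orderOf g) : ∃ m : ℕ, Odd m ∧ orderOf g = 2 * m := by
  obtain ⟨m, hm⟩ := hg
  refine ⟨m, ?_, hm⟩
  by_contra hodd
  rw [Nat.not_odd_iff_even] at hodd
  obtain ⟨j, hj⟩ := hodd
  apply no_four P hexp g
  rw [hm, hj]
  exact ⟨j, by ring⟩

/-- The `2`-part and the `2'`-part of an element of even order. -/
theorem exists_section [Finite G] (P : Sylow 2 G) (hexp : ∀ x ∈ (P : Subgroup G), x * x = 1)
    (g : G) (hg : 2 ∣ orderOf g) :
    ∃ z ρ : G, orderOf z = 2 ∧ ρ ∈ centralizer ({z} : Set G) ∧ ¬ 2 ∣ orderOf ρ ∧ z * ρ = g := by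
  obtain ⟨m, hm, hgm⟩ := even_decomp P hexp g hg
  have hm0 : 0 < m := hm.pos
  refine ⟨g ^ m, g ^ (m + 1), ?_, ?_, ?_, ?_⟩
  · rw [orderOf_pow' g hm0.ne', hgm, Nat.gcd_eq_right (Dvd.intro_left 2 rfl),
      Nat.mul_div_cancel _ hm0]
  · rw [mem_centralizer_iff]
    intro h hh
    rw [Set.mem_singleton_iff] at hh
    subst hh
    rw [← pow_add, ← pow_add, add_comm]
  · intro h2
    obtain ⟨j, hj⟩ := hm
    have h3 : (g ^ (m + 1)) ^ m = 1 := by
      rw [← pow_mul]
      have e : (m + 1) * m = orderOf g * (j + 1) := by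
        rw [hgm, hj]
        ring
      rw [e, pow_mul, pow_orderOf_eq_one, one_pow]
    have h4 := orderOf_dvd_of_pow_eq_one h3
    have h5 := dvd_trans h2 h4
    rw [hj] at h5
    omega
  · rw [← pow_add]
    have e : m + (m + 1) = orderOf g + 1 := by rw [hgm]; ring
    rw [e, pow_succ, pow_orderOf_eq_one, one_mul]

/-- The centralizer of an involution has a normal subgroup of odd order and index four. -/
theorem exists_complement [Finite G] (P : Sylow 2 G) (hP : Nat.card (P : Subgroup G) = 4)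
    (hexp : ∀ x ∈ (P : Subgroup G), x * x = 1) (z : G) (hz : orderOf z = 2) :
    ∃ K : Subgroup (centralizer ({z} : Set G)), K.Normal ∧ ¬ 2 ∣ Nat.card K ∧ K.index = 4 := by
  haveI : Fact (Nat.Prime 2) := ⟨Nat.prime_two⟩
  have hfacG : (Nat.card G).factorization 2 = 2 := by
    have h1 := Sylow.card_eq_multiplicity P
    rw [hP] at h1
    have h2 : (2 : ℕ) ^ 2 = 2 ^ (Nat.card G).factorization 2 := by rw [← h1]; norm_num
    exact (Nat.pow_right_injective (le_refl 2) h2).symm
  have h2 : IsPGroup 2 (Subgroup.zpowers z) :=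
    IsPGroup.of_card (n := 1) (by rw [Nat.card_zpowers, hz, pow_one])
  obtain ⟨Q, hQ⟩ := h2.exists_le_sylow
  have hQ4 : Nat.card (Q : Subgroup G) = 4 := by
    rw [Sylow.card_eq_multiplicity, hfacG]
    norm_num
  have hcomm : ∀ a b : (Q : Subgroup G), a * b = b * a :=
    IsPGroup.commutative_of_card_eq_prime_sq (p := 2) (by rw [hQ4]; norm_num)
  have hzQ : z ∈ (Q : Subgroup G) := hQ (Subgroup.mem_zpowers z)
  have hQC : (Q : Subgroup G) ≤ centralizer ({z} : Set G) := by
    intro x hx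
    rw [mem_centralizer_iff]
    intro y hy
    rw [Set.mem_singleton_iff] at hy
    subst hy
    exact congrArg Subtype.val (hcomm ⟨y, hzQ⟩ ⟨x, hx⟩)
  have hfacH : (Nat.card (centralizer ({z} : Set G))).factorization 2 = 2 := by
    have hpos : Nat.card (centralizer ({z} : Set G)) ≠ 0 := Nat.card_pos.ne'
    have h1 : Nat.card (centralizer ({z} : Set G)) ∣ Nat.card G :=
      Subgroup.card_subgroup_dvd_card _
    have h2 : (Nat.card (centralizer ({z} : Set G))).factorization 2 ≤
        (Nat.card G).factorization 2 :=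
      (Nat.factorization_le_iff_dvd hpos Nat.card_pos.ne').mpr h1 2
    have h3 : 2 ^ 2 ∣ Nat.card (centralizer ({z} : Set G)) := by
      have h4 : Nat.card (Q : Subgroup G) ∣ Nat.card (centralizer ({z} : Set G)) :=
        Subgroup.card_dvd_of_le hQC
      rw [hQ4] at h4
      exact h4
    have h5 := (Nat.Prime.pow_dvd_iff_le_factorization Nat.prime_two hpos).mp h3
    omega
  have hexpH : ∀ x : centralizer ({z} : Set G), (∃ k : ℕ, orderOf x = 2 ^ k) → x * x = 1 := by
    rintro x ⟨k, hk⟩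
    apply Subtype.ext
    exact two_elt_sq P hexp (x : G) ⟨k, by rw [Subgroup.orderOf_coe, hk]⟩
  have hzC : z ∈ centralizer ({z} : Set G) := hQC hzQ
  have hto : orderOf (⟨z, hzC⟩ : centralizer ({z} : Set G)) = 2 := by
    rw [Subgroup.orderOf_mk, hz]
  have htc : ∀ h : centralizer ({z} : Set G), h * ⟨z, hzC⟩ = ⟨z, hzC⟩ * h := by
    intro h
    apply Subtype.ext
    exact (mem_centralizer_iff.mp h.2 z rfl).symm
  exact Cfsg.Agent.Lib.Helper75.TwoComp.exists_normal_complement hfacH hexpH ⟨z, hzC⟩ hto htc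

/-- Commutators of the centralizer of an involution lie in the normal `2`-complement. -/
theorem comm_mem {H : Type*} [Group H] [Finite H] (K : Subgroup H) [K.Normal] (hKi : K.index = 4)
    (x y : H) : x * y * x⁻¹ * y⁻¹ ∈ K := by
  haveI : Fact (Nat.Prime 2) := ⟨Nat.prime_two⟩
  have hcard : Nat.card (H ⧸ K) = 2 ^ 2 := by
    rw [← Subgroup.index_eq_card, hKi]
    norm_num
  have hcomm := IsPGroup.commutative_of_card_eq_prime_sq (p := 2) hcard
  rw [← QuotientGroup.eq_one_iff]
  have h1 : ((x * y * x⁻¹ * y⁻¹ : H) : H ⧸ K)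
      = (x : H ⧸ K) * (y : H ⧸ K) * (x : H ⧸ K)⁻¹ * (y : H ⧸ K)⁻¹ := by
    simp
  rw [h1, hcomm (x : H ⧸ K) (y : H ⧸ K)]
  group

/-- Elements of odd order lie in the normal `2`-complement. -/
theorem mem_of_odd {H : Type*} [Group H] [Finite H] (K : Subgroup H) [K.Normal]
    (hKi : K.index = 4) (x : H) (hx : ¬ 2 ∣ orderOf x) : x ∈ K := by
  have hQ : IsPGroup 2 (H ⧸ K) :=
    IsPGroup.of_card (n := 2) (by rw [← Subgroup.index_eq_card, hKi]; rfl)
  exact Cfsg.Agent.Lib.Helper75.PNilBlock.mem_of_pRegular Nat.prime_two K hQ x hx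

/-- Elements of the normal `2`-complement have odd order. -/
theorem odd_of_mem {H : Type*} [Group H] [Finite H] (K : Subgroup H) (hK : ¬ 2 ∣ Nat.card K)
    (x : H) (hx : x ∈ K) : ¬ 2 ∣ orderOf x := by
  intro h2
  apply hK
  have h1 := orderOf_dvd_natCard (⟨x, hx⟩ : K)
  rw [Subgroup.orderOf_mk] at h1
  exact dvd_trans h2 h1

end Cfsg.Agent.Lib.Helper17.KleinLocal
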