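import Mathlib
import Cfsg.Agent.Lib.Helper17.KleinG0
import Cfsg.Agent.Lib.Helper17.KleinLocal
import Cfsg.Agent.Lib.Helper17.Classes

/-!
Groups with Klein four Sylow `2`-subgroups and one class of involutions: the number of
involutions `u` such that `J * u` has even order, for a fixed involution `J`.
-/

set_option autoImplicit false
set_option linter.style.haveILetI false

namespace Cfsg.Agent.Lib.Helper17.KleinCount

open Subgroup Cfsg.Agent.Lib.Helper75.KleinFour Cfsg.Agent.Lib.Helper17.KleinLocal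
open Cfsg.Agent.Lib.Helper17.Classes

universe u
variable {G : Type u} [Group G]

/-- Orbit-stabilizer for a subgroup acting by conjugation. -/
theorem card_conj_orbit [Finite G] (H : Subgroup G) (w : G) :
    Nat.card {u : G // ∃ σ ∈ H, σ * w * σ⁻¹ = u} * Nat.card ↥(H ⊓ centralizer ({w} : Set G))
      = Nat.card H := by
  letI : MulAction H G := MulAction.compHom G ((MulAut.conj : G →* MulAut G).comp H.subtype)
  have hsmul : ∀ (σ : H) (x : G), σ • x = (σ : G) * x * (σ : G)⁻¹ := fun σ x => rfl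
  have h1 := Nat.card_congr (MulAction.orbitProdStabilizerEquivGroup H w)
  rw [Nat.card_prod] at h1
  rw [← h1]
  congr 1
  · apply Nat.card_congr
    exact Equiv.subtypeEquivRight (fun u => by
      constructor
      · rintro ⟨σ, hσ, rfl⟩
        exact ⟨⟨σ, hσ⟩, rfl⟩
      · rintro ⟨σ, rfl⟩
        exact ⟨σ, σ.2, rfl⟩)
  · apply Nat.card_congr
    refine
      { toFun := fun s => ⟨⟨s.1, s.2.1⟩, ?_⟩
        invFun := fun σ => ⟨σ.1.1, σ.1.2, ?_⟩
        left_inv := fun s => rfl
        right_inv := fun σ => rfl }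
    · rw [MulAction.mem_stabilizer_iff, hsmul]
      have h2 := mem_centralizer_iff.mp s.2.2 w rfl
      show s.1 * w * s.1⁻¹ = w
      rw [← h2]
      group
    · have h2 : σ.1 • w = w := MulAction.mem_stabilizer_iff.mp σ.2
      rw [hsmul] at h2
      show σ.1.1 ∈ centralizer ({w} : Set G)
      rw [mem_centralizer_iff]
      intro y hy
      rw [Set.mem_singleton_iff] at hy
      subst hy
      calc y * σ.1.1 = σ.1.1 * y * σ.1.1⁻¹ * σ.1.1 := by rw [h2]
        _ = σ.1.1 * y := by group

/-- Conjugate subgroups have the same order. -/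
theorem card_eq_of_conj (h : G) (A B : Subgroup G) (hAB : ∀ g, g ∈ A ↔ h * g * h⁻¹ ∈ B) :
    Nat.card A = Nat.card B :=
  Nat.card_congr
    { toFun := fun g => ⟨h * g.1 * h⁻¹, (hAB g.1).mp g.2⟩
      invFun := fun g => ⟨h⁻¹ * g.1 * h, (hAB _).mpr (by
        have e : h * (h⁻¹ * g.1 * h) * h⁻¹ = g.1 := by group
        rw [e]
        exact g.2)⟩
      left_inv := fun g => Subtype.ext (by
        show h⁻¹ * (h * g.1 * h⁻¹) * h = g.1
        group)
      right_inv := fun g => Subtype.ext (by
        show h * (h⁻¹ * g.1 * h) * h⁻¹ = g.1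
        group) }

theorem card_centralizer_conj (g x : G) :
    Nat.card (centralizer ({g * x * g⁻¹} : Set G)) = Nat.card (centralizer ({x} : Set G)) := by
  symm
  apply card_eq_of_conj g
  intro y
  rw [mem_centralizer_singleton_iff, mem_centralizer_singleton_iff]
  constructor
  · intro h
    calc g * y * g⁻¹ * (g * x * g⁻¹) = g * (y * x) * g⁻¹ := by group
      _ = g * (x * y) * g⁻¹ := by rw [h]
      _ = g * x * g⁻¹ * (g * y * g⁻¹) := by group
  · intro h
    have h2 : g * (y * x) * g⁻¹ = g * (x * y) * g⁻¹ := by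
      calc g * (y * x) * g⁻¹ = g * y * g⁻¹ * (g * x * g⁻¹) := by group
        _ = g * x * g⁻¹ * (g * y * g⁻¹) := h
        _ = g * (x * y) * g⁻¹ := by group
    exact mul_left_cancel (mul_right_cancel h2)

theorem card_centralizer_of_isConj {x y : G} (h : IsConj x y) :
    Nat.card (centralizer ({y} : Set G)) = Nat.card (centralizer ({x} : Set G)) := by
  obtain ⟨c, rfl⟩ := isConj_iff.mp h
  exact card_centralizer_conj c x

theorem sq_of_orderOf_two {x : G} (hx : orderOf x = 2) : x * x = 1 := by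
  have := pow_orderOf_eq_one x
  rwa [hx, pow_two] at this

theorem ne_one_of_orderOf_two {x : G} (hx : orderOf x = 2) : x ≠ 1 := by
  rintro rfl
  rw [orderOf_one] at hx
  omega

theorem inv_of_orderOf_two {x : G} (hx : orderOf x = 2) : x⁻¹ = x :=
  inv_eq_of_mul_eq_one_left (sq_of_orderOf_two hx)

/-- The elements of a Klein four Sylow subgroup. -/
theorem sylow_elems [Finite G] (P : Sylow 2 G) (hP : Nat.card (P : Subgroup G) = 4)
    (J : G) (hJ : J ∈ (P : Subgroup G)) (hJ2 : orderOf J = 2) :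
    ∃ a ∈ (P : Subgroup G), a ≠ 1 ∧ a ≠ J ∧
      ∀ y ∈ (P : Subgroup G), y = 1 ∨ y = J ∨ y = a ∨ y = J * a := by
  classical
  haveI : Fintype G := Fintype.ofFinite G
  set s : Finset G := Finset.univ.filter (fun y => y ∈ (P : Subgroup G)) with hs
  have hmem : ∀ y, y ∈ s ↔ y ∈ (P : Subgroup G) := by
    intro y
    rw [hs, Finset.mem_filter]
    simp
  have hs4 : s.card = 4 := by
    rw [← hP, Nat.card_eq_fintype_card, Fintype.card_subtype]
  have hJ1 := ne_one_of_orderOf_two hJ2
  have h1s : (1 : G) ∈ s := (hmem 1).mpr (one_mem _)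
  have hJs : J ∈ s := (hmem J).mpr hJ
  have h2 : ((s.erase 1).erase J).card = 2 := by
    rw [Finset.card_erase_of_mem (Finset.mem_erase.mpr ⟨hJ1, hJs⟩),
      Finset.card_erase_of_mem h1s, hs4]
  obtain ⟨a, ha⟩ := Finset.card_pos.mp (by rw [h2]; norm_num)
  rw [Finset.mem_erase, Finset.mem_erase] at ha
  obtain ⟨haJ, ha1, has⟩ := ha
  have haP := (hmem a).mp has
  obtain ⟨d, hds, hd1, hdJ, hda, hall⟩ := Cfsg.Agent.Lib.Helper17.KleinG0.four_set s hs4 1 J a
    h1s hJs has (Ne.symm hJ1) (Ne.symm ha1) (Ne.symm haJ)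
  have hd : J * a = d := by
    rcases hall _ ((hmem _).mpr (mul_mem hJ haP)) with h | h | h | h
    · exfalso
      apply haJ
      have h3 : a = J⁻¹ := eq_inv_of_mul_eq_one_right h
      rw [h3, inv_of_orderOf_two hJ2]
    · exfalso
      exact ha1 (mul_eq_left.mp h)
    · exfalso
      exact hJ1 (mul_eq_right.mp h)
    · exact h
  refine ⟨a, haP, ha1, haJ, ?_⟩
  intro y hy
  rcases hall y ((hmem y).mpr hy) with h | h | h | h
  · exact Or.inl h
  · exact Or.inr (Or.inl h)
  · exact Or.inr (Or.inr (Or.inl h))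
  · exact Or.inr (Or.inr (Or.inr (h.trans hd.symm)))

end Cfsg.Agent.Lib.Helper17.KleinCount
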