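import Mathlib
import Cfsg.Agent.Lib.Helper17.KleinCount

/-!
Groups with Klein four Sylow `2`-subgroups and one class of involutions: the involutions of
the centralizer of an involution `J`, and the involutions `u` with `J * u` of even order.
-/

set_option autoImplicit false
set_option linter.style.haveILetI false

namespace Cfsg.Agent.Lib.Helper17.KleinCount2

open Subgroup Cfsg.Agent.Lib.Helper75.KleinFour Cfsg.Agent.Lib.Helper17.KleinLocal
open Cfsg.Agent.Lib.Helper17.Classes Cfsg.Agent.Lib.Helper17.KleinCount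

universe u
variable {G : Type u} [Group G]

theorem inf_centralizer_eq (P : Sylow 2 G) (J a : G) (hJ : J ∈ (P : Subgroup G))
    (ha : a ∈ (P : Subgroup G))
    (hall : ∀ y ∈ (P : Subgroup G), y = 1 ∨ y = J ∨ y = a ∨ y = J * a) :
    centralizer ({J} : Set G) ⊓ centralizer ({a} : Set G)
      = centralizer ((P : Subgroup G) : Set G) := by
  ext g
  rw [mem_inf, mem_centralizer_singleton_iff, mem_centralizer_singleton_iff,
    mem_centralizer_iff]
  constructor
  · rintro ⟨h1, h2⟩ y hy
    rcases hall y hy with rfl | rfl | rfl | rfl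
    · simp
    · exact h1.symm
    · exact h2.symm
    · calc J * a * g = J * (a * g) := by group
        _ = J * (g * a) := by rw [h2]
        _ = J * g * a := by group
        _ = g * J * a := by rw [h1]
        _ = g * (J * a) := by group
  · intro h
    exact ⟨(h J hJ).symm, (h a ha).symm⟩

theorem sylow_le_centralizer (P : Sylow 2 G) (hexp : ∀ x ∈ (P : Subgroup G), x * x = 1) (J : G)
    (hJ : J ∈ (P : Subgroup G)) : (P : Subgroup G) ≤ centralizer ({J} : Set G) := by
  intro x hx
  rw [mem_centralizer_singleton_iff]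
  exact sylow_comm P hexp x hx J hJ

/-- The two involutions of `P` other than `J` are not conjugate in `C(J)`. -/
theorem not_conj_swap [Finite G] (P : Sylow 2 G) (hexp : ∀ x ∈ (P : Subgroup G), x * x = 1)
    (J a : G) (hJ : J ∈ (P : Subgroup G)) (ha : a ∈ (P : Subgroup G)) (hJ2 : orderOf J = 2)
    (hall : ∀ y ∈ (P : Subgroup G), y = 1 ∨ y = J ∨ y = a ∨ y = J * a) (h : G)
    (hh : h ∈ centralizer ({J} : Set G)) : h * a * h⁻¹ ≠ J * a := by
  haveI : Fact (Nat.Prime 2) := ⟨Nat.prime_two⟩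
  intro hswap
  have hJJ := sq_of_orderOf_two hJ2
  have hJ1 := ne_one_of_orderOf_two hJ2
  rw [mem_centralizer_singleton_iff] at hh
  have hcJ : h * J * h⁻¹ = J := by
    rw [hh]
    group
  have hswap' : h * (J * a) * h⁻¹ = a := by
    calc h * (J * a) * h⁻¹ = h * J * h⁻¹ * (h * a * h⁻¹) := by group
      _ = J * (J * a) := by rw [hcJ, hswap]
      _ = a := by rw [← mul_assoc, hJJ, one_mul]
  have hJaP : J * a ∈ (P : Subgroup G) := mul_mem hJ ha
  have hN : h ∈ normalizer ((P : Subgroup G) : Set G) := by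
    rw [mem_normalizer_iff]
    intro y
    constructor
    · intro hy
      rcases hall y hy with rfl | rfl | rfl | rfl
      · have e : h * 1 * h⁻¹ = 1 := by group
        rw [e]
        exact one_mem _
      · rw [hcJ]
        exact hJ
      · rw [hswap]
        exact hJaP
      · rw [hswap']
        exact ha
    · intro hy
      have e : y = h⁻¹ * (h * y * h⁻¹) * h := by group
      rcases hall _ hy with h1 | h1 | h1 | h1
      · rw [e, h1]
        have e2 : h⁻¹ * 1 * h = 1 := by group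
        rw [e2]
        exact one_mem _
      · rw [e, h1]
        have e2 : h⁻¹ * J * h = J := by
          nth_rewrite 1 [← hcJ]
          group
        rw [e2]
        exact hJ
      · rw [e, h1]
        have e2 : h⁻¹ * a * h = J * a := by
          nth_rewrite 1 [← hswap']
          group
        rw [e2]
        exact hJaP
      · rw [e, h1]
        have e2 : h⁻¹ * (J * a) * h = a := by
          rw [← hswap]
          group
        rw [e2]
        exact ha
  obtain ⟨k, l, hl, hkl⟩ := Nat.exists_eq_two_pow_mul_odd (orderOf_pos h).ne'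
  have hnl : h ^ l ∈ (P : Subgroup G) := by
    apply Cfsg.Agent.Lib.Helper99.SylAct.mem_sylow_of_pow_eq_one P k
    · rw [← pow_mul, mul_comm, ← hkl, pow_orderOf_eq_one]
    · exact pow_mem hN l
  obtain ⟨j, hj⟩ := hl
  have hodd : ∀ i : ℕ, h ^ (2 * i + 1) * a * (h ^ (2 * i + 1))⁻¹ = J * a := by
    intro i
    induction i with
    | zero => simpa using hswap
    | succ i ih =>
      have e1 : h ^ (2 * (i + 1) + 1) = h * h * h ^ (2 * i + 1) := by
        rw [show 2 * (i + 1) + 1 = (2 * i + 1) + 1 + 1 by ring, pow_succ' h (2 * i + 1 + 1),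
          pow_succ' h (2 * i + 1), mul_assoc]
      rw [e1]
      calc h * h * h ^ (2 * i + 1) * a * (h * h * h ^ (2 * i + 1))⁻¹
          = h * (h * (h ^ (2 * i + 1) * a * (h ^ (2 * i + 1))⁻¹) * h⁻¹) * h⁻¹ := by group
        _ = h * (h * (J * a) * h⁻¹) * h⁻¹ := by rw [ih]
        _ = h * a * h⁻¹ := by rw [hswap']
        _ = J * a := hswap
  have h5 := hodd j
  rw [← hj] at h5
  have h6 := sylow_comm P hexp (h ^ l) hnl a ha
  rw [h6] at h5
  have h7 : a = J * a := by
    rw [← h5]
    group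
  exact hJ1 (mul_eq_right.mp h7.symm)

/-- An involution of `C(J)` other than `J` is conjugate in `C(J)` to an involution of `P`. -/
theorem exists_conj_mem [Finite G] (P : Sylow 2 G) (hexp : ∀ x ∈ (P : Subgroup G), x * x = 1)
    (J a : G) (hJ : J ∈ (P : Subgroup G))
    (hall : ∀ y ∈ (P : Subgroup G), y = 1 ∨ y = J ∨ y = a ∨ y = J * a) (z : G)
    (hz : orderOf z = 2) (hzJ : z ≠ J) (hzC : z ∈ centralizer ({J} : Set G)) :
    ∃ h ∈ centralizer ({J} : Set G), h * z * h⁻¹ = a ∨ h * z * h⁻¹ = J * a := by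
  haveI : Fact (Nat.Prime 2) := ⟨Nat.prime_two⟩
  have hPCJ := sylow_le_centralizer P hexp J hJ
  obtain ⟨n, hn, hnz⟩ := Cfsg.Agent.Lib.Helper17.SylowConj.exists_conj_le_of_le P
    (centralizer ({J} : Set G)) hPCJ (zpowers z)
    (IsPGroup.of_card (n := 1) (by rw [Nat.card_zpowers, hz, pow_one]))
    ((zpowers_le).mpr hzC)
  have h1 := hnz z (mem_zpowers z)
  refine ⟨n⁻¹, inv_mem hn, ?_⟩
  rw [inv_inv]
  rcases hall _ h1 with h | h | h | h
  · exfalso
    apply ne_one_of_orderOf_two hz
    have h3 : n⁻¹ * z * (n⁻¹)⁻¹ = 1 := by rw [inv_inv]; exact h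
    exact conj_eq_one_iff.mp h3
  · exfalso
    apply hzJ
    rw [mem_centralizer_singleton_iff] at hn
    calc z = n * (n⁻¹ * z * n) * n⁻¹ := by group
      _ = n * J * n⁻¹ := by rw [h]
      _ = J := by rw [hn]; group
  · exact Or.inl h
  · exact Or.inr h

/-- The number of involutions of `C(J)` other than `J`. -/
theorem card_Z [Finite G] (P : Sylow 2 G) (hP : Nat.card (P : Subgroup G) = 4)
    (hexp : ∀ x ∈ (P : Subgroup G), x * x = 1) (J : G) (hJ : J ∈ (P : Subgroup G))
    (hJ2 : orderOf J = 2) :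
    Nat.card {z : G // orderOf z = 2 ∧ z ≠ J ∧ z ∈ centralizer ({J} : Set G)}
        * Nat.card (centralizer ((P : Subgroup G) : Set G))
      = 2 * Nat.card (centralizer ({J} : Set G)) := by
  obtain ⟨a, haP, ha1, haJ, hall⟩ := sylow_elems P hP J hJ hJ2
  have hJJ := sq_of_orderOf_two hJ2
  have hJ1 := ne_one_of_orderOf_two hJ2
  have hJaP : J * a ∈ (P : Subgroup G) := mul_mem hJ haP
  have hall' : ∀ y ∈ (P : Subgroup G), y = 1 ∨ y = J ∨ y = J * a ∨ y = J * (J * a) := by
    intro y hy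
    have e : J * (J * a) = a := by rw [← mul_assoc, hJJ, one_mul]
    rw [e]
    rcases hall y hy with h | h | h | h
    · exact Or.inl h
    · exact Or.inr (Or.inl h)
    · exact Or.inr (Or.inr (Or.inr h))
    · exact Or.inr (Or.inr (Or.inl h))
  have hA := card_conj_orbit (centralizer ({J} : Set G)) a
  rw [inf_centralizer_eq P J a hJ haP hall] at hA
  have hB := card_conj_orbit (centralizer ({J} : Set G)) (J * a)
  rw [inf_centralizer_eq P J (J * a) hJ hJaP hall'] at hB
  have hao : orderOf a = 2 := orderOf_eq_prime (by rw [pow_two]; exact hexp a haP) ha1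
  have hJa1 : J * a ≠ 1 := by
    intro h
    apply haJ
    have h3 : a = J⁻¹ := eq_inv_of_mul_eq_one_right h
    rw [h3, inv_of_orderOf_two hJ2]
  have hJao : orderOf (J * a) = 2 :=
    orderOf_eq_prime (by rw [pow_two]; exact hexp _ hJaP) hJa1
  have hJaJ : J * a ≠ J := fun h => ha1 (mul_eq_left.mp h)
  have haC : a ∈ centralizer ({J} : Set G) := sylow_le_centralizer P hexp J hJ haP
  have hJaC : J * a ∈ centralizer ({J} : Set G) := sylow_le_centralizer P hexp J hJ hJaP
  -- conjugates under `C(J)` of an involution of `C(J)` other than `J`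
  have hconj : ∀ y : G, orderOf y = 2 → y ≠ J → y ∈ centralizer ({J} : Set G) →
      ∀ σ ∈ centralizer ({J} : Set G), orderOf (σ * y * σ⁻¹) = 2 ∧ σ * y * σ⁻¹ ≠ J ∧
        σ * y * σ⁻¹ ∈ centralizer ({J} : Set G) := by
    intro y hy hyJ hyC σ hσ
    refine ⟨by rw [orderOf_conj_eq, hy], ?_, mul_mem (mul_mem hσ hyC) (inv_mem hσ)⟩
    intro h
    apply hyJ
    rw [mem_centralizer_singleton_iff] at hσ
    calc y = σ⁻¹ * (σ * y * σ⁻¹) * σ := by group
      _ = σ⁻¹ * J * σ := by rw [h]
      _ = σ⁻¹ * (σ * J) := by rw [hσ]; group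
      _ = J := by group
  have hset : {z : G | orderOf z = 2 ∧ z ≠ J ∧ z ∈ centralizer ({J} : Set G)}
      = {u : G | ∃ σ ∈ centralizer ({J} : Set G), σ * a * σ⁻¹ = u}
        ∪ {u : G | ∃ σ ∈ centralizer ({J} : Set G), σ * (J * a) * σ⁻¹ = u} := by
    ext z
    constructor
    · rintro ⟨hz, hzJ, hzC⟩
      obtain ⟨h, hh, h1 | h1⟩ := exists_conj_mem P hexp J a hJ hall z hz hzJ hzC
      · left
        refine ⟨h⁻¹, inv_mem hh, ?_⟩
        rw [← h1]
        group
      · right
        refine ⟨h⁻¹, inv_mem hh, ?_⟩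
        rw [← h1]
        group
    · rintro (⟨σ, hσ, rfl⟩ | ⟨σ, hσ, rfl⟩)
      · exact hconj a hao haJ haC σ hσ
      · exact hconj (J * a) hJao hJaJ hJaC σ hσ
  have hdisj : Disjoint {u : G | ∃ σ ∈ centralizer ({J} : Set G), σ * a * σ⁻¹ = u}
      {u : G | ∃ σ ∈ centralizer ({J} : Set G), σ * (J * a) * σ⁻¹ = u} := by
    rw [Set.disjoint_left]
    rintro u ⟨σ, hσ, rfl⟩ ⟨τ, hτ, h⟩
    apply not_conj_swap P hexp J a hJ haP hJ2 hall (τ⁻¹ * σ) (mul_mem (inv_mem hτ) hσ)
    calc τ⁻¹ * σ * a * (τ⁻¹ * σ)⁻¹ = τ⁻¹ * (σ * a * σ⁻¹) * τ := by group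
      _ = τ⁻¹ * (τ * (J * a) * τ⁻¹) * τ := by rw [h]
      _ = J * a := by group
  have hcard : Nat.card {z : G // orderOf z = 2 ∧ z ≠ J ∧ z ∈ centralizer ({J} : Set G)}
      = Nat.card {u : G // ∃ σ ∈ centralizer ({J} : Set G), σ * a * σ⁻¹ = u}
        + Nat.card {u : G // ∃ σ ∈ centralizer ({J} : Set G), σ * (J * a) * σ⁻¹ = u} := by
    have h1 := Set.ncard_union_eq hdisj
    rw [← hset] at h1
    rw [← Nat.card_coe_set_eq, ← Nat.card_coe_set_eq, ← Nat.card_coe_set_eq] at h1
    exact h1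
  rw [hcard, add_mul, hA, hB]
  ring

end Cfsg.Agent.Lib.Helper17.KleinCount2
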