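import Mathlib
import Cfsg.Agent.Lib.Helper17.KleinCount2

/-!
Groups with Klein four Sylow `2`-subgroups and one class of involutions: the number of
involutions `u` such that `J * u` has even order is `2 (|C(J)| / |C(P)|)²`.
-/

set_option autoImplicit false
set_option linter.style.haveILetI false

namespace Cfsg.Agent.Lib.Helper17.KleinCount3

open Subgroup Cfsg.Agent.Lib.Helper75.KleinFour Cfsg.Agent.Lib.Helper17.KleinLocal
open Cfsg.Agent.Lib.Helper17.Classes Cfsg.Agent.Lib.Helper17.KleinCount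
open Cfsg.Agent.Lib.Helper17.KleinCount2

universe u
variable {G : Type u} [Group G]

/-- An involution inverts its product with another involution. -/
theorem pow_mul_comm_inv (J u : G) (hJ2 : orderOf J = 2) (hu : orderOf u = 2) (j : ℕ) :
    (J * u) ^ j * J = J * ((J * u) ^ j)⁻¹ := by
  have hJi := inv_of_orderOf_two hJ2
  have hui := inv_of_orderOf_two hu
  induction j with
  | zero => simp
  | succ j ih =>
    have e1 : (J * u) * J = J * (J * u)⁻¹ := by
      rw [mul_inv_rev, hJi, hui]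
      group
    calc (J * u) ^ (j + 1) * J = (J * u) ^ j * ((J * u) * J) := by rw [pow_succ]; group
      _ = (J * u) ^ j * (J * (J * u)⁻¹) := by rw [e1]
      _ = (J * u) ^ j * J * (J * u)⁻¹ := by group
      _ = J * ((J * u) ^ j)⁻¹ * (J * u)⁻¹ := by rw [ih]
      _ = J * ((J * u) ^ (j + 1))⁻¹ := by
          rw [pow_succ', mul_inv_rev (J * u) ((J * u) ^ j), ← mul_assoc]

/-- The involution attached to a pair of involutions with product of even order. -/
theorem zmap_mem [Finite G] (P : Sylow 2 G) (hexp : ∀ x ∈ (P : Subgroup G), x * x = 1)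
    (J u : G) (hJ2 : orderOf J = 2) (hu : orderOf u = 2) (h2 : 2 ∣ orderOf (J * u)) :
    orderOf ((J * u) ^ (orderOf (J * u) / 2)) = 2 ∧ (J * u) ^ (orderOf (J * u) / 2) ≠ J ∧
      (J * u) ^ (orderOf (J * u) / 2) ∈ centralizer ({J} : Set G) := by
  obtain ⟨m, hm, hrm⟩ := even_decomp P hexp (J * u) h2
  have hm0 : 0 < m := hm.pos
  have hdiv : orderOf (J * u) / 2 = m := by rw [hrm, Nat.mul_div_cancel_left _ (by norm_num)]
  rw [hdiv]
  have hJJ := sq_of_orderOf_two hJ2
  have hz2 : orderOf ((J * u) ^ m) = 2 := by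
    rw [orderOf_pow' (J * u) hm0.ne', hrm, Nat.gcd_eq_right (Dvd.intro_left 2 rfl),
      Nat.mul_div_cancel _ hm0]
  refine ⟨hz2, ?_, ?_⟩
  · intro hJ
    have hc : J * (J * u) = (J * u) * J := by
      have h1 : (J * u) ^ m * (J * u) = (J * u) * (J * u) ^ m := by
        rw [← pow_succ, ← pow_succ']
      rwa [hJ] at h1
    have hu1 : u = J * u * J := by
      calc u = J * J * u := by rw [hJJ, one_mul]
        _ = J * (J * u) := by group
        _ = J * u * J := hc
    have hsq : (J * u) ^ 2 = 1 := by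
      rw [pow_two]
      calc J * u * (J * u) = (J * u * J) * u := by group
        _ = u * u := by rw [← hu1]
        _ = 1 := sq_of_orderOf_two hu
    have h3 := orderOf_dvd_of_pow_eq_one hsq
    rw [hrm] at h3
    have hm1 : m = 1 := by
      have := Nat.le_of_dvd (by norm_num) h3
      omega
    rw [hm1, pow_one] at hJ
    exact ne_one_of_orderOf_two hu (mul_eq_left.mp hJ)
  · rw [mem_centralizer_singleton_iff, pow_mul_comm_inv J u hJ2 hu m, inv_of_orderOf_two hz2]

/-- An involution `u` with `J * u` of even order is conjugate to `J * z`, `z` the involution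
attached to `J * u`, under the centralizer of `z`. -/
theorem fiber_alpha [Finite G] (P : Sylow 2 G) (hexp : ∀ x ∈ (P : Subgroup G), x * x = 1)
    (J u : G) (hJ2 : orderOf J = 2) (hu : orderOf u = 2) (h2 : 2 ∣ orderOf (J * u)) :
    ∃ σ ∈ centralizer ({(J * u) ^ (orderOf (J * u) / 2)} : Set G),
      σ * (J * (J * u) ^ (orderOf (J * u) / 2)) * σ⁻¹ = u := by
  obtain ⟨m, hm, hrm⟩ := even_decomp P hexp (J * u) h2
  have hdiv : orderOf (J * u) / 2 = m := by rw [hrm, Nat.mul_div_cancel_left _ (by norm_num)]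
  rw [hdiv]
  obtain ⟨j, hj⟩ := hm
  have hJJ := sq_of_orderOf_two hJ2
  refine ⟨(J * u) ^ j, ?_, ?_⟩
  · rw [mem_centralizer_singleton_iff, ← pow_add, ← pow_add, add_comm]
  · have e1 : (J * u) ^ m = (J * u) ^ j * (J * u) * (J * u) ^ j := by
      rw [hj, show 2 * j + 1 = j + 1 + j by ring, pow_add, pow_add, pow_one]
    calc (J * u) ^ j * (J * (J * u) ^ m) * ((J * u) ^ j)⁻¹
        = ((J * u) ^ j * J) * (J * u) ^ m * ((J * u) ^ j)⁻¹ := by group
      _ = J * ((J * u) ^ j)⁻¹ * ((J * u) ^ j * (J * u) * (J * u) ^ j) * ((J * u) ^ j)⁻¹ := by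
          rw [pow_mul_comm_inv J u hJ2 hu j, e1]
      _ = J * (J * u) := by group
      _ = u := by rw [← mul_assoc, hJJ, one_mul]

/-- A conjugate `u` of `J * z` under the centralizer of the involution `z` of `C(J)`: the product
`J * u` has even order and `z` is the involution attached to it. -/
theorem fiber_beta [Finite G] (P : Sylow 2 G) (hP : Nat.card (P : Subgroup G) = 4)
    (hexp : ∀ x ∈ (P : Subgroup G), x * x = 1) (J z σ : G) (hJ2 : orderOf J = 2)
    (hz : orderOf z = 2) (hzJ : z ≠ J) (hzC : z ∈ centralizer ({J} : Set G))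
    (hσ : σ ∈ centralizer ({z} : Set G)) :
    orderOf (σ * (J * z) * σ⁻¹) = 2 ∧ 2 ∣ orderOf (J * (σ * (J * z) * σ⁻¹)) ∧
      (J * (σ * (J * z) * σ⁻¹)) ^ (orderOf (J * (σ * (J * z) * σ⁻¹)) / 2) = z := by
  have hJJ := sq_of_orderOf_two hJ2
  have hzz := sq_of_orderOf_two hz
  have hJi := inv_of_orderOf_two hJ2
  rw [mem_centralizer_singleton_iff] at hzC hσ
  -- hzC : z * J = J * z, hσ : σ * z = z * σ
  have hJz1 : J * z ≠ 1 := by
    intro h
    apply hzJ
    have h3 : z = J⁻¹ := eq_inv_of_mul_eq_one_right h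
    rw [h3, hJi]
  have hJz2 : orderOf (J * z) = 2 := by
    apply orderOf_eq_prime _ hJz1
    rw [pow_two]
    calc J * z * (J * z) = J * (z * J) * z := by group
      _ = J * (J * z) * z := by rw [hzC]
      _ = (J * J) * (z * z) := by group
      _ = 1 := by rw [hJJ, hzz, one_mul]
  obtain ⟨K, hKn, hK, hKi⟩ := exists_complement P hP hexp z hz
  have hJC : J ∈ centralizer ({z} : Set G) := by
    rw [mem_centralizer_singleton_iff]
    exact hzC.symm
  have hσC : σ ∈ centralizer ({z} : Set G) := by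
    rw [mem_centralizer_singleton_iff]
    exact hσ
  have hκ := odd_of_mem K hK _ (comm_mem K hKi ⟨J, hJC⟩ ⟨σ, hσC⟩)
  rw [← Subgroup.orderOf_coe] at hκ
  have hκ' : ¬ 2 ∣ orderOf (J * σ * J⁻¹ * σ⁻¹) := hκ
  have hcJ : Commute z J := hzC
  have hcσ : Commute z σ := hσ.symm
  have hcomm : Commute z (J * σ * J⁻¹ * σ⁻¹) :=
    ((hcJ.mul_right hcσ).mul_right hcJ.inv_right).mul_right hcσ.inv_right
  have e1 : J * (σ * (J * z) * σ⁻¹) = z * (J * σ * J⁻¹ * σ⁻¹) := by
    rw [hcomm.eq]
    calc J * (σ * (J * z) * σ⁻¹) = J * σ * J * (z * σ⁻¹) := by group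
      _ = J * σ * J * (σ⁻¹ * z) := by rw [hcσ.inv_right.eq]
      _ = J * σ * J⁻¹ * σ⁻¹ * z := by rw [hJi]; group
  have hcop : (orderOf z).Coprime (orderOf (J * σ * J⁻¹ * σ⁻¹)) := by
    rw [hz]
    exact (Nat.Prime.coprime_iff_not_dvd Nat.prime_two).mpr hκ'
  have hord := hcomm.orderOf_mul_eq_mul_orderOf_of_coprime hcop
  rw [hz] at hord
  refine ⟨by rw [orderOf_conj_eq, hJz2], ?_, ?_⟩
  · rw [e1, hord]
    exact Dvd.intro _ rfl
  · rw [e1, hord, Nat.mul_div_cancel_left _ (by norm_num), hcomm.mul_pow, pow_orderOf_eq_one,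
      mul_one]
    have hodd : Odd (orderOf (J * σ * J⁻¹ * σ⁻¹)) := by
      rw [← Nat.not_even_iff_odd, even_iff_two_dvd]
      exact hκ'
    obtain ⟨i, hi⟩ := hodd
    rw [hi, pow_succ, pow_mul, pow_two, hzz, one_pow, one_mul]

end Cfsg.Agent.Lib.Helper17.KleinCount3
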