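import Mathlib
import Cfsg.Agent.Lib.Helper17.KleinCount3

/-!
Groups with Klein four Sylow `2`-subgroups and one class of involutions: the number of
involutions `u` such that `J * u` has even order is `2 (|C(J)| / |C(P)|)²`.
-/

set_option autoImplicit false
set_option linter.style.haveILetI false

namespace Cfsg.Agent.Lib.Helper17.KleinCount4

open Subgroup Cfsg.Agent.Lib.Helper75.KleinFour Cfsg.Agent.Lib.Helper17.KleinLocal
open Cfsg.Agent.Lib.Helper17.Classes Cfsg.Agent.Lib.Helper17.KleinCount
open Cfsg.Agent.Lib.Helper17.KleinCount2 Cfsg.Agent.Lib.Helper17.KleinCount3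

universe u
variable {G : Type u} [Group G]

theorem conj_comm_iff (h g x : G) :
    (h * g * h⁻¹) * (h * x * h⁻¹) = (h * x * h⁻¹) * (h * g * h⁻¹) ↔ g * x = x * g := by
  constructor
  · intro h1
    have h2 : h * (g * x) * h⁻¹ = h * (x * g) * h⁻¹ := by
      calc h * (g * x) * h⁻¹ = (h * g * h⁻¹) * (h * x * h⁻¹) := by group
        _ = (h * x * h⁻¹) * (h * g * h⁻¹) := h1
        _ = h * (x * g) * h⁻¹ := by group
    exact mul_left_cancel (mul_right_cancel h2)
  · intro h1
    calc (h * g * h⁻¹) * (h * x * h⁻¹) = h * (g * x) * h⁻¹ := by group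
      _ = h * (x * g) * h⁻¹ := by rw [h1]
      _ = (h * x * h⁻¹) * (h * g * h⁻¹) := by group

/-- The number of involutions `u` with `J * u` of even order and attached involution `z`. -/
theorem card_fiber [Finite G] (P : Sylow 2 G) (hP : Nat.card (P : Subgroup G) = 4)
    (hexp : ∀ x ∈ (P : Subgroup G), x * x = 1)
    (hone : ∀ s t : G, orderOf s = 2 → orderOf t = 2 → IsConj s t) (J : G)
    (hJ : J ∈ (P : Subgroup G)) (hJ2 : orderOf J = 2) (z : G) (hz : orderOf z = 2) (hzJ : z ≠ J)
    (hzC : z ∈ centralizer ({J} : Set G)) :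
    Nat.card {u : G // orderOf u = 2 ∧ 2 ∣ orderOf (J * u) ∧
        (J * u) ^ (orderOf (J * u) / 2) = z}
        * Nat.card (centralizer ((P : Subgroup G) : Set G))
      = Nat.card (centralizer ({J} : Set G)) := by
  have hJJ := sq_of_orderOf_two hJ2
  have h1 : Nat.card {u : G // orderOf u = 2 ∧ 2 ∣ orderOf (J * u) ∧
        (J * u) ^ (orderOf (J * u) / 2) = z}
      = Nat.card {u : G // ∃ σ ∈ centralizer ({z} : Set G), σ * (J * z) * σ⁻¹ = u} := by
    apply Nat.card_congr
    apply Equiv.subtypeEquivRight
    intro u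
    constructor
    · rintro ⟨hu, h2, h3⟩
      have := fiber_alpha P hexp J u hJ2 hu h2
      rw [h3] at this
      exact this
    · rintro ⟨σ, hσ, rfl⟩
      exact fiber_beta P hP hexp J z σ hJ2 hz hzJ hzC hσ
  rw [h1]
  have h2 := card_conj_orbit (centralizer ({z} : Set G)) (J * z)
  have h3 : Nat.card (centralizer ({z} : Set G)) = Nat.card (centralizer ({J} : Set G)) :=
    card_centralizer_of_isConj (hone J z hJ2 hz)
  rw [h3] at h2
  rw [← h2]
  congr 1
  -- the centralizer of the four group generated by `z` and `J`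
  obtain ⟨a, haP, ha1, haJ, hall⟩ := sylow_elems P hP J hJ hJ2
  have hJaP : J * a ∈ (P : Subgroup G) := mul_mem hJ haP
  have hall' : ∀ y ∈ (P : Subgroup G), y = 1 ∨ y = J ∨ y = J * a ∨ y = J * (J * a) := by
    intro y hy
    have e : J * (J * a) = a := by rw [← mul_assoc, hJJ, one_mul]
    rw [e]
    rcases hall y hy with h | h | h | h
    · exact Or.inl h
    · exact Or.inr (Or.inl h)
    · exact Or.inr (Or.inr (Or.inr h))
    · exact Or.inr (Or.inr (Or.inl h))
  obtain ⟨h, hh, hy⟩ := exists_conj_mem P hexp J a hJ hall z hz hzJ hzC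
  have hcJ : h * J * h⁻¹ = J := by
    rw [mem_centralizer_singleton_iff] at hh
    rw [hh]
    group
  have hzC' := hzC
  rw [mem_centralizer_singleton_iff] at hzC'
  -- hzC' : z * J = J * z
  have key : ∀ y : G, h * z * h⁻¹ = y →
      centralizer ({J} : Set G) ⊓ centralizer ({y} : Set G)
        = centralizer ((P : Subgroup G) : Set G) →
      Nat.card (centralizer ((P : Subgroup G) : Set G))
        = Nat.card ↥(centralizer ({z} : Set G) ⊓ centralizer ({J * z} : Set G)) := by
    intro y hy hinf
    symm
    apply card_eq_of_conj h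
    intro g
    rw [← hinf, mem_inf, mem_inf, mem_centralizer_singleton_iff, mem_centralizer_singleton_iff,
      mem_centralizer_singleton_iff, mem_centralizer_singleton_iff]
    have e1 : h * g * h⁻¹ * J = J * (h * g * h⁻¹) ↔ g * J = J * g := by
      have := conj_comm_iff h g J
      rw [hcJ] at this
      exact this
    have e2 : h * g * h⁻¹ * y = y * (h * g * h⁻¹) ↔ g * z = z * g := by
      have := conj_comm_iff h g z
      rw [hy] at this
      exact this
    rw [e1, e2]
    constructor
    · rintro ⟨hgz, hgJz⟩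
      refine ⟨?_, hgz⟩
      have h5 : g * J * z = J * g * z := by
        calc g * J * z = g * (J * z) := by group
          _ = J * z * g := hgJz
          _ = J * (z * g) := by group
          _ = J * (g * z) := by rw [hgz]
          _ = J * g * z := by group
      exact mul_right_cancel h5
    · rintro ⟨hgJ, hgz⟩
      refine ⟨hgz, ?_⟩
      calc g * (J * z) = g * J * z := by group
        _ = J * g * z := by rw [hgJ]
        _ = J * (g * z) := by group
        _ = J * (z * g) := by rw [hgz]
        _ = J * z * g := by group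
  rcases hy with hy | hy
  · exact key a hy (inf_centralizer_eq P J a hJ haP hall)
  · exact key (J * a) hy (inf_centralizer_eq P J (J * a) hJ hJaP hall')

/-- The number of involutions `u` with `J * u` of even order. -/
theorem card_pairs [Finite G] (P : Sylow 2 G) (hP : Nat.card (P : Subgroup G) = 4)
    (hexp : ∀ x ∈ (P : Subgroup G), x * x = 1)
    (hone : ∀ s t : G, orderOf s = 2 → orderOf t = 2 → IsConj s t) (J : G)
    (hJ : J ∈ (P : Subgroup G)) (hJ2 : orderOf J = 2) :
    Nat.card {u : G // orderOf u = 2 ∧ 2 ∣ orderOf (J * u)}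
        * Nat.card (centralizer ((P : Subgroup G) : Set G)) ^ 2
      = 2 * Nat.card (centralizer ({J} : Set G)) ^ 2 := by
  classical
  haveI : Fintype G := Fintype.ofFinite G
  set NJ : Finset G := Finset.univ.filter (fun u => orderOf u = 2 ∧ 2 ∣ orderOf (J * u)) with hNJ
  set Z : Finset G := Finset.univ.filter
    (fun z => orderOf z = 2 ∧ z ≠ J ∧ z ∈ centralizer ({J} : Set G)) with hZ
  have h1 : Nat.card {u : G // orderOf u = 2 ∧ 2 ∣ orderOf (J * u)} = NJ.card := by
    rw [Nat.card_eq_fintype_card, Fintype.card_subtype]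
  have h2 : NJ.card = ∑ z ∈ Z, (NJ.filter
      (fun u => (J * u) ^ (orderOf (J * u) / 2) = z)).card := by
    apply Finset.card_eq_sum_card_fiberwise
    intro u hu
    rw [hNJ, Finset.mem_coe, Finset.mem_filter] at hu
    rw [hZ, Finset.mem_coe, Finset.mem_filter]
    exact ⟨Finset.mem_univ _, zmap_mem P hexp J u hJ2 hu.2.1 hu.2.2⟩
  have h3 : ∀ z ∈ Z, (NJ.filter (fun u => (J * u) ^ (orderOf (J * u) / 2) = z)).card
      * Nat.card (centralizer ((P : Subgroup G) : Set G))
      = Nat.card (centralizer ({J} : Set G)) := by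
    intro z hz
    rw [hZ, Finset.mem_filter] at hz
    have h4 := card_fiber P hP hexp hone J hJ hJ2 z hz.2.1 hz.2.2.1 hz.2.2.2
    rw [← h4]
    congr 1
    rw [Nat.card_eq_fintype_card, Fintype.card_subtype]
    congr 1
    ext u
    simp only [hNJ, Finset.mem_filter, Finset.mem_univ, true_and, and_assoc]
  have h5 : Z.card * Nat.card (centralizer ((P : Subgroup G) : Set G))
      = 2 * Nat.card (centralizer ({J} : Set G)) := by
    have h6 := card_Z P hP hexp J hJ hJ2
    rw [← h6]
    congr 1
    rw [Nat.card_eq_fintype_card, Fintype.card_subtype]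
  rw [h1, h2, pow_two, ← mul_assoc, Finset.sum_mul, Finset.sum_congr rfl h3, Finset.sum_const,
    smul_eq_mul, mul_assoc, mul_comm (Nat.card (centralizer ({J} : Set G))), ← mul_assoc, h5]
  ring

end Cfsg.Agent.Lib.Helper17.KleinCount4
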