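import Mathlib
import Cfsg.Agent.Lib.Helper75.KleinFour3
import Cfsg.Agent.Lib.Helper17.KleinCount4
import Cfsg.Agent.Lib.CT.ClassMult

/-!
Brauer's order formula for groups with Klein four Sylow `2`-subgroups and one class of
involutions, in terms of the degrees of the characters of the principal `2`-block.
-/

set_option autoImplicit false
set_option linter.style.haveILetI false

namespace Cfsg.Agent.Lib.Helper17.KleinChar

open Cfsg Subgroup Cfsg.Agent.Lib.CT.Wedderburn Cfsg.Agent.Lib.CT.ThirdMain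
open Cfsg.Agent.Lib.Helper75.Section Cfsg.Agent.Lib.Helper75.KleinFour
open Cfsg.Agent.Lib.Helper75.KleinFour2 Cfsg.Agent.Lib.Helper75.KleinFour3
open Cfsg.Agent.Lib.Helper17.KleinLocal Cfsg.Agent.Lib.Helper17.KleinCount
open Cfsg.Agent.Lib.Helper17.KleinCount4
open scoped ComplexConjugate

universe u
variable {G : Type u} [Group G]

/-- A sum over a principal block with four characters. -/
theorem finsum_principal [Finite G] (M : Ideal AlgInt) (χ₁ χ₂ χ₃ : IrrCharacter G)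
    (hB : principalBlock M G = {χ : IrrCharacter G | (χ : G → ℂ) = (fun _ => 1) ∨ χ = χ₁ ∨
      χ = χ₂ ∨ χ = χ₃})
    (hdist : (χ₁ : G → ℂ) ≠ (fun _ => 1) ∧ (χ₂ : G → ℂ) ≠ (fun _ => 1) ∧
      (χ₃ : G → ℂ) ≠ (fun _ => 1) ∧ χ₁ ≠ χ₂ ∧ χ₁ ≠ χ₃ ∧ χ₂ ≠ χ₃)
    (F : IrrCharacter G → ℂ) :
    ∑ᶠ χ ∈ principalBlock M G, F χ = F (triv G) + F χ₁ + F χ₂ + F χ₃ := by
  classical
  obtain ⟨h1, h2, h3, h12, h13, h23⟩ := hdist
  have ht1 : triv G ≠ χ₁ := fun h => h1 (by rw [← h]; rfl)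
  have ht2 : triv G ≠ χ₂ := fun h => h2 (by rw [← h]; rfl)
  have ht3 : triv G ≠ χ₃ := fun h => h3 (by rw [← h]; rfl)
  have hset : principalBlock M G
      = (({triv G, χ₁, χ₂, χ₃} : Finset (IrrCharacter G)) : Set (IrrCharacter G)) := by
    rw [hB]
    ext χ
    simp only [Set.mem_setOf_eq, Finset.coe_insert, Finset.coe_singleton, Set.mem_insert_iff,
      Set.mem_singleton_iff]
    constructor
    · rintro (h | h | h | h)
      · exact Or.inl (Subtype.ext h)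
      · exact Or.inr (Or.inl h)
      · exact Or.inr (Or.inr (Or.inl h))
      · exact Or.inr (Or.inr (Or.inr h))
    · rintro (h | h | h | h)
      · left
        rw [h]
        rfl
      · exact Or.inr (Or.inl h)
      · exact Or.inr (Or.inr (Or.inl h))
      · exact Or.inr (Or.inr (Or.inr h))
  rw [hset, finsum_mem_coe_finset, Finset.sum_insert, Finset.sum_insert, Finset.sum_insert,
    Finset.sum_singleton]
  · ring
  · simp [h23]
  · simp [h12, h13]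
  · simp [ht1, ht2, ht3]

section

variable [Finite G] (M : Ideal AlgInt) (hM : IsPModular 2 M) (P : Sylow 2 G)
  (hP : Nat.card (P : Subgroup G) = 4) (hexp : ∀ x ∈ (P : Subgroup G), x * x = 1)
  (hone : ∀ s t : G, orderOf s = 2 → orderOf t = 2 → IsConj s t) (J : G)
  (hJ2 : orderOf J = 2) (χ₁ χ₂ χ₃ : IrrCharacter G) (ε₁ ε₂ ε₃ : ℤ)
  (hB : principalBlock M G = {χ : IrrCharacter G | (χ : G → ℂ) = (fun _ => 1) ∨ χ = χ₁ ∨
    χ = χ₂ ∨ χ = χ₃})
  (hdist : (χ₁ : G → ℂ) ≠ (fun _ => 1) ∧ (χ₂ : G → ℂ) ≠ (fun _ => 1) ∧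
    (χ₃ : G → ℂ) ≠ (fun _ => 1) ∧ χ₁ ≠ χ₂ ∧ χ₁ ≠ χ₃ ∧ χ₂ ≠ χ₃)
  (hε : (ε₁ = 1 ∨ ε₁ = -1) ∧ (ε₂ = 1 ∨ ε₂ = -1) ∧ (ε₃ = 1 ∨ ε₃ = -1))
  (hval : (χ₁ : G → ℂ) J = ε₁ ∧ (χ₂ : G → ℂ) J = ε₂ ∧ (χ₃ : G → ℂ) J = ε₃)

include hM hJ2 hB hdist hval in
/-- The signed sum of the characters of the principal block vanishes on elements of odd order. -/
theorem theta_odd (g : G) (hg : ¬ 2 ∣ orderOf g) :
    (1 : ℂ) + ε₁ * (χ₁ : G → ℂ) g + ε₂ * (χ₂ : G → ℂ) g + ε₃ * (χ₃ : G → ℂ) g = 0 := by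
  have h1 := relation M hM J hJ2 g hg
  rw [finsum_principal M χ₁ χ₂ χ₃ hB hdist
    (fun χ => (χ : G → ℂ) J * (χ : G → ℂ) g)] at h1
  simp only [coe_triv] at h1
  rw [hval.1, hval.2.1, hval.2.2] at h1
  rw [← h1]
  ring

include hM hP hexp hone hJ2 hB hε hval in
/-- The signed sum of the characters of the principal block is `4` on elements of even order. -/
theorem theta_even (g : G) (hg : 2 ∣ orderOf g) :
    (1 : ℂ) + ε₁ * (χ₁ : G → ℂ) g + ε₂ * (χ₂ : G → ℂ) g + ε₃ * (χ₃ : G → ℂ) g = 4 := by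
  classical
  obtain ⟨z, ρ, hz, hρC, hρodd, rfl⟩ := exists_section P hexp g hg
  obtain ⟨K, hKn, hK, hKi⟩ := exists_complement P hP hexp z hz
  haveI := hKn
  have hρo : ¬ 2 ∣ orderOf (⟨ρ, hρC⟩ : centralizer ({z} : Set G)) := by
    rw [Subgroup.orderOf_mk]
    exact hρodd
  have hρK : (⟨ρ, hρC⟩ : centralizer ({z} : Set G)) ∈ K := mem_of_odd K hKi _ hρo
  have key : ∀ χ : IrrCharacter G, χ ∈ principalBlock M G →
      (χ : G → ℂ) (z * ρ) = (χ : G → ℂ) J := by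
    intro χ hχ
    have h1 := secRes_eq M hM z hz K hK hKi χ hχ ⟨ρ, hρC⟩
    rw [if_pos hρK, secRes_of_regular 2 z _ hρo] at h1
    have h2 : (χ : G → ℂ) z = (χ : G → ℂ) J := by
      obtain ⟨c, hc⟩ := isConj_iff.mp (hone J z hJ2 hz)
      rw [← hc, char_isClassFunction (isCharacter_of_irr χ.2)]
    rw [← h2]
    exact h1
  have hm1 : χ₁ ∈ principalBlock M G := by rw [hB]; exact Or.inr (Or.inl rfl)
  have hm2 : χ₂ ∈ principalBlock M G := by rw [hB]; exact Or.inr (Or.inr (Or.inl rfl))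
  have hm3 : χ₃ ∈ principalBlock M G := by rw [hB]; exact Or.inr (Or.inr (Or.inr rfl))
  rw [key χ₁ hm1, key χ₂ hm2, key χ₃ hm3, hval.1, hval.2.1, hval.2.2]
  obtain ⟨h1, h2, h3⟩ := hε
  rcases h1 with rfl | rfl <;> rcases h2 with rfl | rfl <;> rcases h3 with rfl | rfl <;>
    push_cast <;> ring

include hM hJ2 hB hdist hval in
/-- The degree equation. -/
theorem degree_equation :
    (1 : ℂ) + ε₁ * (χ₁ : G → ℂ) 1 + ε₂ * (χ₂ : G → ℂ) 1 + ε₃ * (χ₃ : G → ℂ) 1 = 0 :=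
  theta_odd M hM J hJ2 χ₁ χ₂ χ₃ ε₁ ε₂ ε₃ hB hdist hval 1 (by rw [orderOf_one]; norm_num)

end

end Cfsg.Agent.Lib.Helper17.KleinChar
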