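import Mathlib
import Cfsg.Agent.Lib.Helper17.KleinChar

/-!
Brauer's order formula for groups with Klein four Sylow `2`-subgroups and one class of
involutions, in terms of the degrees of the characters of the principal `2`-block.
-/

set_option autoImplicit false
set_option linter.style.haveILetI false

namespace Cfsg.Agent.Lib.Helper17.KleinOrder

open Cfsg Subgroup Cfsg.Agent.Lib.CT.Wedderburn Cfsg.Agent.Lib.CT.ThirdMain
open Cfsg.Agent.Lib.CT.ClassMult Cfsg.Agent.Lib.CT.Orth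
open Cfsg.Agent.Lib.Helper17.KleinLocal Cfsg.Agent.Lib.Helper17.KleinCount
open Cfsg.Agent.Lib.Helper17.KleinCount4 Cfsg.Agent.Lib.Helper17.KleinChar
open Cfsg.Agent.Lib.Helper17.Classes
open scoped ComplexConjugate

universe u
variable {G : Type u} [Group G]

/-- Brauer's order formula, in the form
`|G| (1 + ε₁/x₁ + ε₂/x₂ + ε₃/x₃) |C(P)|² = 8 |C(J)|³`. -/
theorem order_formula [Finite G] (M : Ideal AlgInt) (hM : IsPModular 2 M) (P : Sylow 2 G)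
    (hP : Nat.card (P : Subgroup G) = 4) (hexp : ∀ x ∈ (P : Subgroup G), x * x = 1)
    (hone : ∀ s t : G, orderOf s = 2 → orderOf t = 2 → IsConj s t) (J : G)
    (hJ : J ∈ (P : Subgroup G)) (hJ2 : orderOf J = 2) (χ₁ χ₂ χ₃ : IrrCharacter G)
    (ε₁ ε₂ ε₃ : ℤ)
    (hB : principalBlock M G = {χ : IrrCharacter G | (χ : G → ℂ) = (fun _ => 1) ∨ χ = χ₁ ∨
      χ = χ₂ ∨ χ = χ₃})
    (hdist : (χ₁ : G → ℂ) ≠ (fun _ => 1) ∧ (χ₂ : G → ℂ) ≠ (fun _ => 1) ∧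
      (χ₃ : G → ℂ) ≠ (fun _ => 1) ∧ χ₁ ≠ χ₂ ∧ χ₁ ≠ χ₃ ∧ χ₂ ≠ χ₃)
    (hε : (ε₁ = 1 ∨ ε₁ = -1) ∧ (ε₂ = 1 ∨ ε₂ = -1) ∧ (ε₃ = 1 ∨ ε₃ = -1))
    (hval : (χ₁ : G → ℂ) J = ε₁ ∧ (χ₂ : G → ℂ) J = ε₂ ∧ (χ₃ : G → ℂ) J = ε₃) :
    (Nat.card G : ℂ) * (1 + ε₁ / (χ₁ : G → ℂ) 1 + ε₂ / (χ₂ : G → ℂ) 1 + ε₃ / (χ₃ : G → ℂ) 1)
        * (Nat.card (centralizer ((P : Subgroup G) : Set G)) : ℂ) ^ 2
      = 8 * (Nat.card (centralizer ({J} : Set G)) : ℂ) ^ 3 := by
  classical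
  haveI : Fintype G := Fintype.ofFinite G
  have hθ : ∀ g : G, (1 : ℂ) + ε₁ * (χ₁ : G → ℂ) g + ε₂ * (χ₂ : G → ℂ) g
      + ε₃ * (χ₃ : G → ℂ) g = if 2 ∣ orderOf g then 4 else 0 := by
    intro g
    by_cases hg : 2 ∣ orderOf g
    · rw [if_pos hg]
      exact theta_even M hM P hP hexp hone J hJ2 χ₁ χ₂ χ₃ ε₁ ε₂ ε₃ hB hε hval g hg
    · rw [if_neg hg]
      exact theta_odd M hM J hJ2 χ₁ χ₂ χ₃ ε₁ ε₂ ε₃ hB hdist hval g hg
  have hε2 : ∀ ε : ℤ, (ε = 1 ∨ ε = -1) → (ε : ℂ) * ε = 1 := by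
    rintro ε (rfl | rfl) <;> norm_num
  -- the character side
  have T1 : ∑ g : G, ((1 : ℂ) + ε₁ * (χ₁ : G → ℂ) (J * (g * J * g⁻¹))
      + ε₂ * (χ₂ : G → ℂ) (J * (g * J * g⁻¹)) + ε₃ * (χ₃ : G → ℂ) (J * (g * J * g⁻¹)))
      = (Nat.card G : ℂ) * (1 + ε₁ / (χ₁ : G → ℂ) 1 + ε₂ / (χ₂ : G → ℂ) 1
        + ε₃ / (χ₃ : G → ℂ) 1) := by
    rw [Finset.sum_add_distrib, Finset.sum_add_distrib, Finset.sum_add_distrib,
      ← Finset.mul_sum, ← Finset.mul_sum, ← Finset.mul_sum,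
      irr_schur_average χ₁.2 J J, irr_schur_average χ₂.2 J J, irr_schur_average χ₃.2 J J,
      hval.1, hval.2.1, hval.2.2, Finset.sum_const, Finset.card_univ, nsmul_eq_mul, mul_one,
      Nat.card_eq_fintype_card]
    have e1 := hε2 ε₁ hε.1
    have e2 := hε2 ε₂ hε.2.1
    have e3 := hε2 ε₃ hε.2.2
    linear_combination (Fintype.card G : ℂ) * (ε₁ / (χ₁ : G → ℂ) 1) * e1
      + (Fintype.card G : ℂ) * (ε₂ / (χ₂ : G → ℂ) 1) * e2
      + (Fintype.card G : ℂ) * (ε₃ / (χ₃ : G → ℂ) 1) * e3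
  -- the counting side
  set S : Finset G := Finset.univ.filter (fun g => 2 ∣ orderOf (J * (g * J * g⁻¹))) with hS
  set NJ : Finset G := Finset.univ.filter (fun u => orderOf u = 2 ∧ 2 ∣ orderOf (J * u)) with hNJ
  have T2 : ∑ g : G, ((1 : ℂ) + ε₁ * (χ₁ : G → ℂ) (J * (g * J * g⁻¹))
      + ε₂ * (χ₂ : G → ℂ) (J * (g * J * g⁻¹)) + ε₃ * (χ₃ : G → ℂ) (J * (g * J * g⁻¹)))
      = 4 * (S.card : ℂ) := by
    rw [Finset.sum_congr rfl (fun g _ => hθ (J * (g * J * g⁻¹))), ← Finset.sum_filter,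
      Finset.sum_const, nsmul_eq_mul, mul_comm]
  have T3 : S.card = NJ.card * Nat.card (centralizer ({J} : Set G)) := by
    have h1 : S.card = ∑ u ∈ NJ, (S.filter (fun g => g * J * g⁻¹ = u)).card := by
      apply Finset.card_eq_sum_card_fiberwise
      intro g hg
      rw [hS, Finset.mem_coe, Finset.mem_filter] at hg
      rw [hNJ, Finset.mem_coe, Finset.mem_filter]
      exact ⟨Finset.mem_univ _, by rw [orderOf_conj_eq, hJ2], hg.2⟩
    have h2 : ∀ u ∈ NJ, (S.filter (fun g => g * J * g⁻¹ = u)).card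
        = Nat.card (centralizer ({J} : Set G)) := by
      intro u hu
      rw [hNJ, Finset.mem_filter] at hu
      rw [← card_conj_eq_of_isConj J u (hone J u hJ2 hu.2.1)]
      congr 1
      ext g
      simp only [hS, Finset.mem_filter, Finset.mem_univ, true_and]
      constructor
      · exact fun h => h.2
      · intro h
        exact ⟨by rw [h]; exact hu.2.2, h⟩
    rw [h1, Finset.sum_congr rfl h2, Finset.sum_const, smul_eq_mul]
  have T4 : NJ.card * Nat.card (centralizer ((P : Subgroup G) : Set G)) ^ 2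
      = 2 * Nat.card (centralizer ({J} : Set G)) ^ 2 := by
    have h1 := card_pairs P hP hexp hone J hJ hJ2
    rw [← h1]
    congr 1
    rw [Nat.card_eq_fintype_card, Fintype.card_subtype]
  have T4' : (NJ.card : ℂ) * (Nat.card (centralizer ((P : Subgroup G) : Set G)) : ℂ) ^ 2
      = 2 * (Nat.card (centralizer ({J} : Set G)) : ℂ) ^ 2 := by exact_mod_cast T4
  have T3' : (S.card : ℂ) = (NJ.card : ℂ) * (Nat.card (centralizer ({J} : Set G)) : ℂ) := by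
    exact_mod_cast T3
  rw [← T1, T2, T3']
  linear_combination 4 * (Nat.card (centralizer ({J} : Set G)) : ℂ) * T4'

end Cfsg.Agent.Lib.Helper17.KleinOrder
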