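import Mathlib
import Cfsg.Agent.Lib.Helper17.KleinOrder
import Cfsg.Agent.Lib.CT.FSInd
import Cfsg.Agent.Lib.CT.Ops

/-!
Klein four Sylow `2`-subgroups, one class of involutions, principal block `{1, χ₁, χ₂, χ₃}`
with signs `(1, 1, -1)`: the characters `χ₁, χ₂` are complex conjugate (Frobenius–Schur
indicators), hence have the same degree.
-/

set_option autoImplicit false
set_option linter.style.haveILetI false

namespace Cfsg.Agent.Lib.Helper17.KleinFS

open Cfsg Subgroup Cfsg.Agent.Lib.CT.Wedderburn Cfsg.Agent.Lib.CT.ThirdMain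
open Cfsg.Agent.Lib.CT.FSInd
open Cfsg.Agent.Lib.Helper75.KleinFour2
open Cfsg.Agent.Lib.Helper17.KleinLocal Cfsg.Agent.Lib.Helper17.KleinCount
open Cfsg.Agent.Lib.Helper17.KleinChar

universe u
variable {G : Type u} [Group G]

/-- An irreducible character with Frobenius–Schur indicator `-1` has even degree. -/
theorem fsInd_neg_one_even [Fintype G] {χ : G → ℂ} (hχ : IsIrrCharacter G χ)
    (h : fsInd χ = -1) : Even (charDegree χ) := by
  obtain ⟨n, ρ, hirr, rfl⟩ := hχ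
  haveI := hirr
  have hdeg : charDegree ρ.character = n := by
    unfold charDegree
    rw [Representation.char_one]
    simp
  rw [hdeg]
  by_cases h0 : ∀ M, IsInvForm ρ M → M = 0
  · have h1 := fsInd_of_no_isInvForm h0
    rw [h] at h1
    norm_num at h1
  · push Not at h0
    obtain ⟨M, hM, hM0⟩ := h0
    have h1 := (fsInd_of_isInvForm hM hM0).2
    rw [h] at h1
    have hu := isInvForm_isUnit hM hM0
    have hdet : IsUnit M.det := (Matrix.isUnit_iff_isUnit_det M).1 hu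
    have h2 : M.det = (-1 : ℂ) ^ n * M.det := by
      conv_lhs => rw [← Matrix.det_transpose, h1]
      rw [Matrix.det_smul, Fintype.card_fin]
    have h3 : (-1 : ℂ) ^ n = 1 := by
      have hne : M.det ≠ 0 := hdet.ne_zero
      have h4 : ((-1 : ℂ) ^ n - 1) * M.det = 0 := by linear_combination -h2
      rcases mul_eq_zero.1 h4 with h | h
      · linear_combination h
      · exact absurd h hne
    by_contra hodd
    rw [Nat.not_even_iff_odd] at hodd
    rw [hodd.neg_one_pow] at h3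
    norm_num at h3

/-- Squares have odd order when the Sylow `2`-subgroups have exponent two. -/
theorem odd_sq [Finite G] (P : Sylow 2 G) (hexp : ∀ x ∈ (P : Subgroup G), x * x = 1) (s : G) :
    ¬ 2 ∣ orderOf (s * s) := by
  by_cases hs : 2 ∣ orderOf s
  · obtain ⟨m, hm, hsm⟩ := even_decomp P hexp s hs
    have h1 : (s * s) ^ m = 1 := by
      rw [← pow_two, ← pow_mul, ← hsm, pow_orderOf_eq_one]
    have h2 : orderOf (s * s) ∣ m := orderOf_dvd_of_pow_eq_one h1
    intro h3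
    have h4 : 2 ∣ m := dvd_trans h3 h2
    rcases hm with ⟨k, rfl⟩
    omega
  · intro h3
    apply hs
    have h1 : orderOf (s * s) ∣ orderOf s := by
      rw [← pow_two]
      exact orderOf_pow_dvd 2
    exact dvd_trans h3 h1

theorem centralizer_inv (g : G) : centralizer ({g⁻¹} : Set G) = centralizer ({g} : Set G) := by
  ext x
  simp only [mem_centralizer_iff, Set.mem_singleton_iff, forall_eq]
  constructor
  · intro h
    have : g * (g⁻¹ * x) * g = g * (x * g⁻¹) * g := by rw [h]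
    simpa [mul_assoc] using this.symm
  · intro h
    have : g⁻¹ * (g * x) * g⁻¹ = g⁻¹ * (x * g) * g⁻¹ := by rw [h]
    simpa [mul_assoc] using this.symm

/-- The principal block is closed under complex conjugation (argument inversion). -/
theorem inv_arg_mem_principal (M : Ideal AlgInt) (χ : IrrCharacter G)
    (hχ : χ ∈ principalBlock M G) :
    (⟨fun g => (χ : G → ℂ) g⁻¹, Cfsg.Agent.Lib.CT.Ops.isIrrCharacter_inv_arg χ.2⟩ :
      IrrCharacter G) ∈ principalBlock M G := by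
  intro g
  have h := hχ g⁻¹
  have e : centralChar (fun _ : G => (1 : ℂ)) g - centralChar (fun x => (χ : G → ℂ) x⁻¹) g
      = centralChar (fun _ : G => (1 : ℂ)) g⁻¹ - centralChar (χ : G → ℂ) g⁻¹ := by
    unfold centralChar
    rw [centralizer_inv]
    simp
  show MemLocalIdeal M (centralChar (fun _ : G => (1 : ℂ)) g
    - centralChar (fun x => (χ : G → ℂ) x⁻¹) g)
  rw [e]
  exact h

section

variable [Finite G] (M : Ideal AlgInt) (hM : IsPModular 2 M) (P : Sylow 2 G)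
  (hP : Nat.card (P : Subgroup G) = 4) (hexp : ∀ x ∈ (P : Subgroup G), x * x = 1)
  (hone : ∀ s t : G, orderOf s = 2 → orderOf t = 2 → IsConj s t) (J : G)
  (hJ2 : orderOf J = 2) (χ₁ χ₂ χ₃ : IrrCharacter G) (ε₁ ε₂ ε₃ : ℤ)
  (hB : principalBlock M G = {χ : IrrCharacter G | (χ : G → ℂ) = (fun _ => 1) ∨ χ = χ₁ ∨
    χ = χ₂ ∨ χ = χ₃})
  (hdist : (χ₁ : G → ℂ) ≠ (fun _ => 1) ∧ (χ₂ : G → ℂ) ≠ (fun _ => 1) ∧
    (χ₃ : G → ℂ) ≠ (fun _ => 1) ∧ χ₁ ≠ χ₂ ∧ χ₁ ≠ χ₃ ∧ χ₂ ≠ χ₃)
  (hval : (χ₁ : G → ℂ) J = ε₁ ∧ (χ₂ : G → ℂ) J = ε₂ ∧ (χ₃ : G → ℂ) J = ε₃)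

include hP hexp hone hJ2 hval in
/-- The degrees are congruent to the signs modulo `4`. -/
theorem degree_mod_four :
    (4 : ℤ) ∣ (charDegree (χ₁ : G → ℂ) : ℤ) - ε₁ ∧ (4 : ℤ) ∣ (charDegree (χ₂ : G → ℂ) : ℤ) - ε₂ ∧
      (4 : ℤ) ∣ (charDegree (χ₃ : G → ℂ) : ℤ) - ε₃ := by
  have key : ∀ (χ : IrrCharacter G) (ε : ℤ), (χ : G → ℂ) J = ε →
      (4 : ℤ) ∣ (charDegree (χ : G → ℂ) : ℤ) - ε := by
    intro χ ε hχ
    obtain ⟨n, hn, h4⟩ := value_at_invol P hP hexp hone J hJ2 χ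
    rw [hχ] at hn
    have : ε = n := by exact_mod_cast hn
    rw [this]
    exact h4
  exact ⟨key χ₁ ε₁ hval.1, key χ₂ ε₂ hval.2.1, key χ₃ ε₃ hval.2.2⟩

include hM hP hexp hone hJ2 hB hdist hval in
/-- With signs `(1, 1, -1)`, the characters `χ₁` and `χ₂` have the same degree. -/
theorem degrees_eq (h1 : ε₁ = 1) (h2 : ε₂ = 1) (h3 : ε₃ = -1) :
    charDegree (χ₁ : G → ℂ) = charDegree (χ₂ : G → ℂ) := by
  classical
  haveI : Fintype G := Fintype.ofFinite G
  obtain ⟨d1, d2, d3⟩ := degree_mod_four P hP hexp hone J hJ2 χ₁ χ₂ χ₃ ε₁ ε₂ ε₃ hval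
  have hθ : ∀ s : G, (1 : ℂ) + ε₁ * (χ₁ : G → ℂ) (s * s) + ε₂ * (χ₂ : G → ℂ) (s * s)
      + ε₃ * (χ₃ : G → ℂ) (s * s) = 0 := fun s =>
    theta_odd M hM J hJ2 χ₁ χ₂ χ₃ ε₁ ε₂ ε₃ hB hdist hval (s * s) (odd_sq P hexp s)
  have hsum : ∑ s : G, ((1 : ℂ) + ε₁ * (χ₁ : G → ℂ) (s * s) + ε₂ * (χ₂ : G → ℂ) (s * s)
      + ε₃ * (χ₃ : G → ℂ) (s * s)) = 0 := Finset.sum_eq_zero (fun s _ => hθ s)
  have hG : (Nat.card G : ℂ) ≠ 0 := Nat.cast_ne_zero.mpr Nat.card_pos.ne'
  have hfs : ∀ χ : G → ℂ, ∑ s : G, χ (s * s) = (Nat.card G : ℂ) * fsInd χ := by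
    intro χ
    rw [fsInd_def, ← mul_assoc, mul_inv_cancel₀ hG, one_mul]
  have hrel : (1 : ℂ) + fsInd (χ₁ : G → ℂ) + fsInd (χ₂ : G → ℂ) - fsInd (χ₃ : G → ℂ) = 0 := by
    rw [Finset.sum_add_distrib, Finset.sum_add_distrib, Finset.sum_add_distrib,
      ← Finset.mul_sum, ← Finset.mul_sum, ← Finset.mul_sum, hfs, hfs, hfs, Finset.sum_const,
      Finset.card_univ, nsmul_eq_mul, mul_one, ← Nat.card_eq_fintype_card, h1, h2, h3] at hsum
    have h4 : (Nat.card G : ℂ) * ((1 : ℂ) + fsInd (χ₁ : G → ℂ) + fsInd (χ₂ : G → ℂ)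
        - fsInd (χ₃ : G → ℂ)) = 0 := by
      push_cast at hsum
      linear_combination hsum
    rcases mul_eq_zero.1 h4 with h | h
    · exact absurd h hG
    · exact h
  have hodd : ∀ (χ : IrrCharacter G) (ε : ℤ), (ε = 1 ∨ ε = -1) →
      (4 : ℤ) ∣ (charDegree (χ : G → ℂ) : ℤ) - ε → fsInd (χ : G → ℂ) ≠ -1 := by
    intro χ ε hε h4 hm
    obtain ⟨k, hk⟩ := fsInd_neg_one_even χ.2 hm
    obtain ⟨j, hj⟩ := h4
    rcases hε with rfl | rfl <;> omega
  have t1 := fsInd_trichotomy' χ₁.2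
  have t2 := fsInd_trichotomy' χ₂.2
  have t3 := fsInd_trichotomy' χ₃.2
  have n1 := hodd χ₁ ε₁ (Or.inl h1) d1
  have n2 := hodd χ₂ ε₂ (Or.inl h2) d2
  have n3 := hodd χ₃ ε₃ (Or.inr h3) d3
  have hν1 : fsInd (χ₁ : G → ℂ) = 0 := by
    rcases t1 with a | a | a
    · exact a
    · exfalso
      rcases t2 with b | b | b
      · rcases t3 with c | c | c
        · rw [a, b, c] at hrel; norm_num at hrel
        · rw [a, b, c] at hrel; norm_num at hrel
        · exact n3 c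
      · rcases t3 with c | c | c
        · rw [a, b, c] at hrel; norm_num at hrel
        · rw [a, b, c] at hrel; norm_num at hrel
        · exact n3 c
      · exact n2 b
    · exact absurd a n1
  -- the conjugate character
  have hnr : ¬ ∀ g : G, (χ₁ : G → ℂ) g⁻¹ = (χ₁ : G → ℂ) g := by
    intro hr
    exact (fsInd_ne_zero_iff' χ₁.2).2 hr hν1
  have hm1 : χ₁ ∈ principalBlock M G := by rw [hB]; exact Or.inr (Or.inl rfl)
  have hc := inv_arg_mem_principal M χ₁ hm1
  rw [hB] at hc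
  rcases hc with hc | hc | hc | hc
  · exfalso
    apply hdist.1
    funext g
    have := congrFun hc g⁻¹
    simpa using this
  · exfalso
    apply hnr
    intro g
    have := congrArg (fun χ : IrrCharacter G => (χ : G → ℂ) g) hc
    exact this
  · have := congrArg (fun χ : IrrCharacter G => charDegree (χ : G → ℂ)) hc
    simp only [charDegree, inv_one] at this
    exact this
  · exfalso
    have h4 := congrArg (fun χ : IrrCharacter G => (χ : G → ℂ) J) hc
    simp only at h4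
    rw [inv_of_orderOf_two hJ2, hval.1, hval.2.2, h1, h3] at h4
    norm_num at h4

end

end Cfsg.Agent.Lib.Helper17.KleinFS
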