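import Mathlib
import Cfsg.Agent.Lib.Helper68.MixStmt
import Cfsg.Agent.Lib.Helper68.MixCONJ
import Cfsg.Agent.Lib.Helper61.MixINVCONJ

/-!
# S4017 piece BSTAR (second seat, helper17)

`main (hFIT) (hLEMM) (hNCENT) (hINVN) (hCONJ) (hEXP) (hNTOP) : BSTAR`.
-/

set_option autoImplicit false

namespace Cfsg.Agent.Lib.Helper17.MixBSTAR

open Cfsg.Agent.Lib.Helper68.MixStmt
open Subgroup

universe u

/-- elements of a `p`-subgroup are `p`-elements -/
theorem isPElt_of_mem {G : Type u} [Group G] {p : ℕ} (hp : p.Prime) (W : Subgroup G)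
    (hW : IsPGroup p W) {x : G} (hx : x ∈ W) : IsPElt p x := by
  obtain ⟨k, hk⟩ := hW ⟨x, hx⟩
  have hk' : x ^ p ^ k = 1 := by
    have := congrArg Subtype.val hk
    simpa using this
  obtain ⟨m, -, hm⟩ := (Nat.dvd_prime_pow hp).1 (orderOf_dvd_of_pow_eq_one hk')
  exact ⟨m, hm⟩

/-- a `p`-element of `X` lies in a normal subgroup `V` of `X` of index `2^a` (`p` odd). -/
theorem mem_of_npc {G : Type u} [Group G] [Finite G] {p a : ℕ} (hp : p.Prime) (hp2 : p ≠ 2)
    (X V : Subgroup G) (hVX : V ≤ X) (hVn : ∀ g ∈ X, ∀ v ∈ V, g * v * g⁻¹ ∈ V)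
    (hcard : Nat.card X = 2 ^ a * Nat.card V) {w : G} (hwX : w ∈ X) (hw : IsPElt p w) :
    w ∈ V := by
  have hn : (V.subgroupOf X).Normal := by
    constructor
    intro n hn g
    rw [Subgroup.mem_subgroupOf] at hn ⊢
    exact hVn g g.2 n hn
  have hcV : Nat.card (V.subgroupOf X) = Nat.card V :=
    Nat.card_congr (Subgroup.subgroupOfEquivOfLe hVX).toEquiv
  have hidx : (V.subgroupOf X).index = 2 ^ a := by
    have h1 := Subgroup.card_mul_index (V.subgroupOf X)
    rw [hcV, hcard] at h1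
    have hpos : 0 < Nat.card V := Nat.card_pos
    have h2 : Nat.card V * (V.subgroupOf X).index = Nat.card V * 2 ^ a := by
      rw [h1]; ring
    exact Nat.eq_of_mul_eq_mul_left hpos h2
  have hpow : (⟨w, hwX⟩ : X) ^ (2 ^ a) ∈ V.subgroupOf X := by
    have := Subgroup.pow_index_mem (V.subgroupOf X) (⟨w, hwX⟩ : X)
    rwa [hidx] at this
  obtain ⟨k, hk⟩ := hw
  have hord : orderOf (⟨w, hwX⟩ : X) = p ^ k := by
    rw [← hk]; exact Subgroup.orderOf_mk w hwX
  have hcop : (2 ^ a).Coprime (orderOf (⟨w, hwX⟩ : X)) := by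
    rw [hord]
    exact Nat.Coprime.pow a k ((Nat.coprime_primes Nat.prime_two hp).2 (Ne.symm hp2))
  obtain ⟨m, hm⟩ := exists_pow_eq_self_of_coprime hcop
  have := Subgroup.pow_mem _ hpow m
  rw [hm, Subgroup.mem_subgroupOf] at this
  exact this

/-- The core: a 2-subgroup `O ≤ Q`, normalized by `C_G(e)`, is centralized by every `p`-subgroup
of `C_G(e)`. -/
theorem core (hLEMM : LEMM.{u}) (hNCENT : NCENT.{u}) (hINVN : INVN.{u}) (hEXP : EXP.{u})
    (hNTOP : NTOP.{u})
    (G : Type u) [Group G] [Finite G] (p a : ℕ) (Q : Subgroup G) (y : G)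
    (hB : BCtx G p a Q y) (hC : ∀ x ∈ centralizer (Q : Set G), IsPElt p x → x = 1)
    (hp2 : p ≠ 2)
    (e s : G) (he1 : e ≠ 1) (hs : orderOf s = 2) (hes : e * s = s * e) (hep : IsPElt p e)
    (O : Subgroup G) (hO2 : IsPGroup 2 O) (hOQ : O ≤ Q) (hOne : O ≠ ⊥)
    (hOn : ∀ m : G, m * e = e * m → ∀ x ∈ O, m * x * m⁻¹ ∈ O)
    (W : Subgroup G) (hWp : IsPGroup p W) (hWe : ∀ w ∈ W, w * e = e * w)
    (w o : G) (hw : w ∈ W) (ho : o ∈ O) (hwo : w * o ≠ o * w) : False := by
  have hp := hB.hp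
  have : Fact p.Prime := ⟨hp⟩
  have : Fact (Nat.Prime 2) := ⟨Nat.prime_two⟩
  have hexp := hEXP G p a Q y hB
  have hQcomm : ∀ q ∈ Q, ∀ x ∈ Q, q * x = x * q := by
    intro q hq x hx
    have h1 : x⁻¹ = x := inv_eq_of_mul_eq_one_left (hexp x hx)
    have h2 : q⁻¹ = q := inv_eq_of_mul_eq_one_left (hexp q hq)
    have h3 : (q * x)⁻¹ = q * x := inv_eq_of_mul_eq_one_left (hexp (q * x) (Q.mul_mem hq hx))
    rw [← h3, mul_inv_rev, h1, h2]
  -- X := N_G(O)
  have hMX : ∀ m : G, m * e = e * m → m ∈ normalizer (O : Set G) := by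
    intro m hm
    rw [Subgroup.mem_normalizer_iff]
    intro x
    constructor
    · intro hx; exact hOn m hm x hx
    · intro hx
      have hm' : m⁻¹ * e = e * m⁻¹ := by
        have : m⁻¹ * (m * e) * m⁻¹ = m⁻¹ * (e * m) * m⁻¹ := by rw [hm]
        simpa [mul_assoc] using this.symm
      have := hOn m⁻¹ hm' _ hx
      simpa [mul_assoc] using this
  have hQX : Q ≤ normalizer (O : Set G) := by
    intro q hq
    rw [Subgroup.mem_normalizer_iff]
    intro x
    constructor
    · intro hx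
      have : q * x * q⁻¹ = x := by rw [hQcomm q hq x (hOQ hx)]; group
      rw [this]; exact hx
    · intro hx
      have hxQ : x ∈ Q := by
        have h1 : q⁻¹ * (q * x * q⁻¹) * q ∈ Q :=
          Q.mul_mem (Q.mul_mem (Q.inv_mem hq) (hOQ hx)) hq
        have h2 : q⁻¹ * (q * x * q⁻¹) * q = x := by group
        rwa [h2] at h1
      have : q * x * q⁻¹ = x := by rw [hQcomm q hq x hxQ]; group
      rwa [this] at hx
  have hXtop : normalizer (O : Set G) ≠ ⊤ := by
    intro htop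
    -- then `O = Q` is normal
    obtain ⟨t, htO, ht1⟩ : ∃ t ∈ O, t ≠ 1 := by
      by_contra hcon
      push Not at hcon
      exact hOne ((Subgroup.eq_bot_iff_forall O).2 hcon)
    have hQO : Q ≤ O := by
      intro q hq
      by_cases hq1 : q = 1
      · rw [hq1]; exact O.one_mem
      · obtain ⟨k, hk⟩ := hB.htrans t (hOQ htO) ht1 q hq hq1
        have hyk : y ^ k ∈ normalizer (O : Set G) := by rw [htop]; exact Subgroup.mem_top _
        rw [Subgroup.mem_normalizer_iff] at hyk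
        rw [← hk]; exact (hyk t).1 htO
    have hOeq : O = Q := le_antisymm hOQ hQO
    apply hNTOP G p a Q y hB
    rw [← hOeq]; exact htop
  rcases hLEMM G p a Q y hB _ hXtop hQX with hXN | ⟨V, hVX, hVp, hVn, hcard⟩
  · -- `X ≤ N`
    have heN : e ∈ normalizer (Q : Set G) := hXN (hMX e rfl)
    have hsN : s ∈ normalizer (Q : Set G) := hXN (hMX s hes.symm)
    have hsQ : s ∈ Q := hINVN G p a Q y hB s hsN ⟨1, by rw [hs, pow_one]⟩
    have hs1 : s ≠ 1 := by
      intro h; rw [h, orderOf_one] at hs; omega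
    have heC : e ∈ centralizer (Q : Set G) := hNCENT G p a Q y hB e heN s hsQ hs1 hes
    exact he1 (hC e heC hep)
  · -- normal `p`-complement `V` of `X`
    have hwX : w ∈ normalizer (O : Set G) := hMX w (hWe w hw)
    have hwV : w ∈ V := mem_of_npc hp hp2 _ V hVX hVn hcard hwX (isPElt_of_mem hp W hWp hw)
    have hoX : o ∈ normalizer (O : Set G) := Subgroup.le_normalizer ho
    have h1 : w * o * w⁻¹ * o⁻¹ ∈ V := by
      have h2 : o * w⁻¹ * o⁻¹ ∈ V := hVn o hoX _ (V.inv_mem hwV)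
      have h3 : w * o * w⁻¹ * o⁻¹ = w * (o * w⁻¹ * o⁻¹) := by group
      rw [h3]; exact V.mul_mem hwV h2
    have h2 : w * o * w⁻¹ * o⁻¹ ∈ O := by
      have hwn := hwX
      rw [Subgroup.mem_normalizer_iff] at hwn
      exact O.mul_mem ((hwn o).1 ho) (O.inv_mem ho)
    have hdis : Disjoint V O :=
      IsPGroup.disjoint_of_ne p 2 hp2 V O hVp hO2
    have h3 : w * o * w⁻¹ * o⁻¹ = 1 := by
      have : w * o * w⁻¹ * o⁻¹ ∈ V ⊓ O := ⟨h1, h2⟩
      rw [hdis.eq_bot] at this
      exact (Subgroup.mem_bot).1 this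
    apply hwo
    have h4 : w * o = (w * o * w⁻¹ * o⁻¹) * (o * w) := by group
    rw [h4, h3, one_mul]

/-- The bad case: a normal 2-subgroup of `C_G(e)` not centralized by a Sylow `p` through `e`. -/
theorem bad (hLEMM : LEMM.{u}) (hNCENT : NCENT.{u}) (hINVN : INVN.{u}) (hCONJ : CONJ.{u})
    (hEXP : EXP.{u}) (hNTOP : NTOP.{u})
    (G : Type u) [Group G] [Finite G] (p a : ℕ) (Q : Subgroup G) (y : G)
    (hB : BCtx G p a Q y) (hC : ∀ x ∈ centralizer (Q : Set G), IsPElt p x → x = 1)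
    (hp2 : p ≠ 2)
    (e s : G) (he1 : e ≠ 1) (hs : orderOf s = 2) (hes : e * s = s * e)
    (W : Sylow p G) (heW : e ∈ W)
    (O : Subgroup (centralizer ({e} : Set G))) (hOn : O.Normal) (hO2 : IsPGroup 2 O)
    (w o : centralizer ({e} : Set G)) (hw : (w : G) ∈ W) (ho : o ∈ O) (hwo : w * o ≠ o * w) :
    False := by
  have hp := hB.hp
  have : Fact p.Prime := ⟨hp⟩
  have : Fact (Nat.Prime 2) := ⟨Nat.prime_two⟩
  have hWab := hB.hab W
  have hWe : ∀ x ∈ (W : Subgroup G), x * e = e * x := by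
    intro x hx
    have := mul_comm' (⟨x, hx⟩ : (W : Subgroup G)) ⟨e, heW⟩
    exact congrArg Subtype.val this
  -- the image of `O` in `G`
  set OG : Subgroup G := O.map (centralizer ({e} : Set G)).subtype with hOG
  have hOG2 : IsPGroup 2 OG := hO2.map _
  -- conjugate into `Q`
  have hcard : Nat.card Q = 2 ^ (Nat.card G).factorization 2 := by
    rw [hB.hfac]; exact hB.hQ
  let S : Sylow 2 G := Sylow.ofCard Q hcard
  have hS : (S : Subgroup G) = Q := rfl
  obtain ⟨S', hS'⟩ := hOG2.exists_le_sylow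
  obtain ⟨g, hg⟩ := MulAction.exists_smul_eq G S S'
  -- `S' = g • S`, so `x ∈ S' ↔ g⁻¹ x g ∈ Q`
  have hOQ : OG ≤ Q.map (MulAut.conj g).toMonoidHom := by
    intro x hx
    have hx' : x ∈ ((g • S : Sylow 2 G) : Subgroup G) := by rw [hg]; exact hS' hx
    rw [Cfsg.Agent.Lib.Helper61.MixINVCONJ.mem_smul_sylow, hS] at hx'
    rw [Cfsg.Agent.Lib.Helper68.MixCONJ.mem_conj_iff]
    exact hx'
  have hB' := hCONJ G p a Q y hB g
  have hC' : ∀ x ∈ centralizer ((Q.map (MulAut.conj g).toMonoidHom : Subgroup G) : Set G),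
      IsPElt p x → x = 1 := by
    intro x hx hxp
    have h1 : g⁻¹ * x * g ∈ centralizer (Q : Set G) := by
      rw [Subgroup.mem_centralizer_iff]
      intro q hq
      have hq' : g * q * g⁻¹ ∈ Q.map (MulAut.conj g).toMonoidHom := by
        rw [Cfsg.Agent.Lib.Helper68.MixCONJ.mem_conj_iff]
        have : g⁻¹ * (g * q * g⁻¹) * g = q := by group
        rw [this]; exact hq
      rw [Subgroup.mem_centralizer_iff] at hx
      have h2 := hx _ hq'
      have h3 : q * (g⁻¹ * x * g) = g⁻¹ * (g * q * g⁻¹ * x) * g := by group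
      have h4 : g⁻¹ * x * g * q = g⁻¹ * (x * (g * q * g⁻¹)) * g := by group
      rw [h3, h4, h2]
    have h2 : IsPElt p (g⁻¹ * x * g) := by
      obtain ⟨k, hk⟩ := hxp
      refine ⟨k, ?_⟩
      rw [← hk]
      have := (MulAut.conj g⁻¹).orderOf_eq x
      rw [MulAut.conj_apply, inv_inv] at this
      exact this
    have h3 := hC _ h1 h2
    have h4 : x = g * (g⁻¹ * x * g) * g⁻¹ := by group
    rw [h4, h3]; group
  have ho1 : o ≠ 1 := by
    intro h; apply hwo; rw [h, mul_one, one_mul]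
  have hoG : (o : G) ∈ OG := Subgroup.mem_map_of_mem _ ho
  have hOne : OG ≠ ⊥ := by
    intro h
    rw [h, Subgroup.mem_bot] at hoG
    exact ho1 (Subtype.ext hoG)
  have hOGn : ∀ m : G, m * e = e * m → ∀ x ∈ OG, m * x * m⁻¹ ∈ OG := by
    intro m hm x hx
    obtain ⟨o', ho', rfl⟩ := Subgroup.mem_map.1 hx
    have hmM : m ∈ centralizer ({e} : Set G) := by
      rw [Subgroup.mem_centralizer_iff]
      intro z hz
      rw [Set.mem_singleton_iff] at hz
      rw [hz]; exact hm.symm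
    have h1 : (⟨m, hmM⟩ : centralizer ({e} : Set G)) * o' * (⟨m, hmM⟩)⁻¹ ∈ O :=
      hOn.conj_mem o' ho' ⟨m, hmM⟩
    exact Subgroup.mem_map.2 ⟨_, h1, rfl⟩
  have hwo' : (w : G) * (o : G) ≠ (o : G) * (w : G) := by
    intro h
    apply hwo
    exact Subtype.ext (by simpa using h)
  exact core hLEMM hNCENT hINVN hEXP hNTOP G p a _ _ hB' hC' hp2 e s he1 hs hes
    (isPElt_of_mem hp (W : Subgroup G) W.isPGroup' heW) OG hOG2 hOQ hOne hOGn (W : Subgroup G) W.isPGroup' hWe
    (w : G) (o : G) hw hoG hwo'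

theorem main (hFIT : FIT.{u}) (hLEMM : LEMM.{u}) (hNCENT : NCENT.{u}) (hINVN : INVN.{u})
    (hCONJ : CONJ.{u}) (hEXP : EXP.{u}) (hNTOP : NTOP.{u}) : BSTAR.{u} := by
  intro G _ _ p a Q y hB hC W₁ W₂ e s he₁ he₂ he1 hs hes
  have hp := hB.hp
  have : Fact p.Prime := ⟨hp⟩
  have hp2 : p ≠ 2 := by
    intro h
    have h1 := hB.hpa
    have h2 : 2 ^ 2 ∣ 2 ^ a := pow_dvd_pow 2 hB.ha
    obtain ⟨c, hc⟩ := h2
    rw [h] at h1
    omega
  have hcomm : ∀ (W : Sylow p G), e ∈ W → (W : Subgroup G) ≤ centralizer ({e} : Set G) := by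
    intro W heW x hx
    have hWab := hB.hab W
    have := mul_comm' (⟨x, hx⟩ : (W : Subgroup G)) ⟨e, heW⟩
    have h1 : x * e = e * x := congrArg Subtype.val this
    rw [Subgroup.mem_centralizer_iff]
    intro z hz
    rw [Set.mem_singleton_iff] at hz
    rw [hz]; exact h1.symm
  have hW₁M := hcomm W₁ he₁
  have hW₂M := hcomm W₂ he₂
  have hsM : s ∈ centralizer ({e} : Set G) := by
    rw [Subgroup.mem_centralizer_iff]
    intro z hz
    rw [Set.mem_singleton_iff] at hz
    rw [hz]; exact hes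
  have hMtop : centralizer ({e} : Set G) ≠ ⊤ := by
    intro htop
    have hec : ∀ g : G, g * e = e * g := by
      intro g
      have hg : g ∈ centralizer ({e} : Set G) := by rw [htop]; exact Subgroup.mem_top g
      rw [Subgroup.mem_centralizer_iff] at hg
      exact (hg e rfl).symm
    have hzc : zpowers e ≤ center G := by
      rw [Subgroup.zpowers_le, Subgroup.mem_center_iff]
      exact hec
    have hn : (zpowers e).Normal := by
      constructor
      intro n hn g
      have := hzc hn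
      rw [Subgroup.mem_center_iff] at this
      have h2 : g * n * g⁻¹ = n := by rw [this g]; group
      rw [h2]; exact hn
    have hpz : IsPGroup p (zpowers e) := by
      obtain ⟨k, hk⟩ := isPElt_of_mem hp (W₁ : Subgroup G) W₁.isPGroup' he₁
      exact IsPGroup.of_card (n := k) (by rw [Nat.card_zpowers, hk])
    have := hB.hOp _ hn hpz
    rw [Subgroup.zpowers_eq_bot] at this
    exact he1 this
  have h2M : 2 ∣ Nat.card (centralizer ({e} : Set G)) := by
    have h := Subgroup.orderOf_dvd_natCard _ hsM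
    rwa [hs] at h
  have hMpq : PQNum p 2 (Nat.card (centralizer ({e} : Set G))) := hB.hE _ hMtop h2M
  have hmem : ∀ (W : Sylow p G) (hW : (W : Subgroup G) ≤ centralizer ({e} : Set G))
      (x : centralizer ({e} : Set G)), x ∈ W.subtype hW → (x : G) ∈ W := by
    intro W hW x hx
    exact Subgroup.mem_subgroupOf.1 hx
  have hab' : ∀ (W : Sylow p G) (hW : (W : Subgroup G) ≤ centralizer ({e} : Set G)),
      IsMulCommutative ((W.subtype hW : Sylow p (centralizer ({e} : Set G))) :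
        Subgroup (centralizer ({e} : Set G))) := by
    intro W hW
    have hWab := hB.hab W
    refine ⟨⟨fun x y => ?_⟩⟩
    have hx := hmem W hW x.1 x.2
    have hy := hmem W hW y.1 y.2
    have := mul_comm' (⟨_, hx⟩ : (W : Subgroup G)) ⟨_, hy⟩
    have h3 : ((x : centralizer ({e} : Set G)) : G) * ((y : centralizer ({e} : Set G)) : G)
        = ((y : centralizer ({e} : Set G)) : G) * ((x : centralizer ({e} : Set G)) : G) :=
      congrArg Subtype.val this
    apply Subtype.ext; apply Subtype.ext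
    exact h3
  by_cases h1 : ∀ O : Subgroup (centralizer ({e} : Set G)), O.Normal → IsPGroup 2 O →
      ∀ w ∈ W₁.subtype hW₁M, ∀ o ∈ O, w * o = o * w
  · by_cases h2 : ∀ O : Subgroup (centralizer ({e} : Set G)), O.Normal → IsPGroup 2 O →
        ∀ w ∈ W₂.subtype hW₂M, ∀ o ∈ O, w * o = o * w
    · have n1 := hFIT _ p (W₁.subtype hW₁M) hp hp2 hMpq (hab' W₁ hW₁M) h1
      have n2 := hFIT _ p (W₂.subtype hW₂M) hp hp2 hMpq (hab' W₂ hW₂M) h2
      obtain ⟨g, hg⟩ := MulAction.exists_smul_eq (centralizer ({e} : Set G))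
        (W₁.subtype hW₁M) (W₂.subtype hW₂M)
      rw [Sylow.smul_eq_of_normal] at hg
      exact Sylow.subtype_injective hg
    · exfalso
      push Not at h2
      obtain ⟨O, hOn, hO2, w, hw, o, ho, hwo⟩ := h2
      exact bad hLEMM hNCENT hINVN hCONJ hEXP hNTOP G p a Q y hB hC hp2 e s he1 hs hes W₂ he₂
        O hOn hO2 w o (hmem W₂ hW₂M w hw) ho hwo
  · exfalso
    push Not at h1
    obtain ⟨O, hOn, hO2, w, hw, o, ho, hwo⟩ := h1
    exact bad hLEMM hNCENT hINVN hCONJ hEXP hNTOP G p a Q y hB hC hp2 e s he1 hs hes W₁ he₁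
      O hOn hO2 w o (hmem W₁ hW₁M w hw) ho hwo

end Cfsg.Agent.Lib.Helper17.MixBSTAR
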