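import Mathlib
import Cfsg.Agent.Lib.Helper1.PDStmt

set_option autoImplicit false

/-!
# S4020, piece AB3 (second seat)

A finite `p`-group of exponent `p` and order divisible by `p ^ 4` has an abelian subgroup of
order `p ^ 3`.
-/

namespace Cfsg.Agent.Lib.Helper17.PDAB3

open Cfsg.Agent.Lib.Helper1.PDStmt

universe u

theorem closure_comm {G : Type u} [Group G] (S : Set G)
    (hS : ∀ a ∈ S, ∀ b ∈ S, a * b = b * a) :
    ∀ a ∈ Subgroup.closure S, ∀ b ∈ Subgroup.closure S, a * b = b * a := by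
  have h1 : Subgroup.closure S ≤ Subgroup.centralizer S := by
    rw [Subgroup.closure_le]
    intro a ha
    rw [SetLike.mem_coe, Subgroup.mem_centralizer_iff]
    intro b hb
    exact hS b hb a ha
  have h2 : Subgroup.closure S ≤ Subgroup.centralizer (Subgroup.closure S : Set G) := by
    rw [Subgroup.closure_le]
    intro a ha
    rw [SetLike.mem_coe, Subgroup.mem_centralizer_iff]
    intro b hb
    have h3 := h1 hb
    rw [Subgroup.mem_centralizer_iff] at h3
    exact (h3 a ha).symm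
  intro a ha b hb
  have h3 := h2 ha
  rw [Subgroup.mem_centralizer_iff] at h3
  exact (h3 b hb).symm

theorem pow3_dvd_of_chain {G : Type u} [Group G] [Finite G] (p : ℕ) [Fact p.Prime]
    (hG : IsPGroup p G) (B₁ B₂ A : Subgroup G) (h1 : B₁ ≠ ⊥) (h12 : B₁ ≤ B₂) (h2A : B₂ ≤ A)
    (x : G) (hx2 : x ∈ B₂) (hx1 : x ∉ B₁) (w : G) (hwA : w ∈ A) (hw2 : w ∉ B₂) :
    p ^ 3 ∣ Nat.card A := by
  have hp : p.Prime := Fact.out
  obtain ⟨n1, hn1⟩ := (IsPGroup.iff_card).mp (hG.to_subgroup B₁)
  obtain ⟨n2, hn2⟩ := (IsPGroup.iff_card).mp (hG.to_subgroup B₂)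
  obtain ⟨n3, hn3⟩ := (IsPGroup.iff_card).mp (hG.to_subgroup A)
  have hd12 : Nat.card B₁ ∣ Nat.card B₂ := Subgroup.card_dvd_of_le h12
  have hd23 : Nat.card B₂ ∣ Nat.card A := Subgroup.card_dvd_of_le h2A
  rw [hn1, hn2] at hd12
  rw [hn2, hn3] at hd23
  have hle12 : n1 ≤ n2 := (Nat.pow_dvd_pow_iff_le_right hp.one_lt).mp hd12
  have hle23 : n2 ≤ n3 := (Nat.pow_dvd_pow_iff_le_right hp.one_lt).mp hd23
  have hn1pos : n1 ≠ 0 := by
    intro h0
    apply h1
    apply Subgroup.eq_bot_of_card_eq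
    rw [hn1, h0, pow_zero]
  have hne12 : n1 ≠ n2 := by
    intro h
    have h' : B₁ = B₂ := Subgroup.eq_of_le_of_card_ge h12 (by rw [hn1, hn2, h])
    exact hx1 (h' ▸ hx2)
  have hne23 : n2 ≠ n3 := by
    intro h
    have h' : B₂ = A := Subgroup.eq_of_le_of_card_ge h2A (by rw [hn2, hn3, h])
    exact hw2 (h' ▸ hwA)
  rw [hn3]
  exact pow_dvd_pow p (by omega)

theorem exists_abelian (G : Type u) [Group G] [Finite G] (p : ℕ) [Fact p.Prime]
    (hG : IsPGroup p G) (hexp : ∀ x : G, x ^ p = 1) (h4 : p ^ 4 ∣ Nat.card G) :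
    ∃ A : Subgroup G, p ^ 3 ∣ Nat.card A ∧ ∀ a ∈ A, ∀ b ∈ A, a * b = b * a := by
  have hp : p.Prime := Fact.out
  by_cases hab : ∀ a b : G, a * b = b * a
  · refine ⟨⊤, ?_, fun a _ b _ => hab a b⟩
    rw [Subgroup.card_top]
    exact dvd_trans (pow_dvd_pow p (by norm_num)) h4
  · have hnt : Nontrivial G := by
      by_contra hnt
      rw [not_nontrivial_iff_subsingleton] at hnt
      exact hab (fun a b => Subsingleton.elim _ _)
    have hcnt : Nontrivial (Subgroup.center G) := hG.center_nontrivial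
    obtain ⟨⟨z, hzc⟩, hz1⟩ := exists_ne (1 : Subgroup.center G)
    have hz1' : z ≠ 1 := fun h => hz1 (Subtype.ext h)
    have hzcomm : ∀ y : G, y * z = z * y := fun y => Subgroup.mem_center_iff.mp hzc y
    have hoz : orderOf z = p := orderOf_eq_prime (hexp z) hz1'
    obtain ⟨N, hN⟩ : ∃ N : Subgroup G, N = Subgroup.zpowers z := ⟨_, rfl⟩
    have hzN : z ∈ N := by rw [hN]; exact Subgroup.mem_zpowers z
    have hNcard : Nat.card N = p := by rw [hN, Nat.card_zpowers, hoz]
    have hNcentral : ∀ n ∈ N, ∀ y : G, y * n = n * y := by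
      intro n hn y
      rw [hN, Subgroup.mem_zpowers_iff] at hn
      obtain ⟨k, rfl⟩ := hn
      have hc : Commute y z := hzcomm y
      exact (hc.zpow_right k).eq
    have hNnormal : N.Normal := by
      constructor
      intro n hn g
      have h' : g * n * g⁻¹ = n := by rw [hNcentral n hn g, mul_inv_cancel_right]
      rw [h']; exact hn
    obtain ⟨k, hk⟩ := h4
    have hcardpos : 0 < Nat.card G := Nat.card_pos
    have hkpos : 0 < k := by
      rcases Nat.eq_zero_or_pos k with h0 | h0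
      · rw [h0, mul_zero] at hk; omega
      · exact h0
    have hQcard : Nat.card (G ⧸ N) = p ^ 3 * k := by
      have h' := Subgroup.card_eq_card_quotient_mul_card_subgroup N
      rw [hNcard, hk] at h'
      have h'' : p ^ 3 * k * p = Nat.card (G ⧸ N) * p := by rw [← h']; ring
      exact (Nat.eq_of_mul_eq_mul_right hp.pos h'').symm
    have hQnt : Nontrivial (G ⧸ N) := by
      rw [← Finite.one_lt_card_iff_nontrivial, hQcard]
      have h1 : 1 < p ^ 3 := Nat.one_lt_pow (by norm_num) hp.one_lt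
      calc 1 < p ^ 3 := h1
        _ = p ^ 3 * 1 := (mul_one _).symm
        _ ≤ p ^ 3 * k := Nat.mul_le_mul_left _ hkpos
    have hQp : IsPGroup p (G ⧸ N) := hG.to_quotient N
    have hQcnt : Nontrivial (Subgroup.center (G ⧸ N)) := hQp.center_nontrivial
    obtain ⟨⟨xbar, hxc⟩, hx1⟩ := exists_ne (1 : Subgroup.center (G ⧸ N))
    obtain ⟨x, rfl⟩ := QuotientGroup.mk_surjective xbar
    have hxN : x ∉ N := by
      intro hx
      apply hx1
      apply Subtype.ext
      exact (QuotientGroup.eq_one_iff x).mpr hx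
    have hxcomm : ∀ y : G, x * y * x⁻¹ * y⁻¹ ∈ N := by
      intro y
      rw [← QuotientGroup.eq_one_iff]
      have h' := Subgroup.mem_center_iff.mp hxc (y : G ⧸ N)
      have h'' : ((x * y * x⁻¹ * y⁻¹ : G) : G ⧸ N)
          = (x : G ⧸ N) * (y : G ⧸ N) * (x : G ⧸ N)⁻¹ * (y : G ⧸ N)⁻¹ := by
        simp
      rw [h'', ← h']
      group
    have hmul : ∀ y₁ y₂ : G, x * (y₁ * y₂) * x⁻¹ * (y₁ * y₂)⁻¹
        = (x * y₁ * x⁻¹ * y₁⁻¹) * (x * y₂ * x⁻¹ * y₂⁻¹) := by
      intro y₁ y₂
      have hc := hNcentral _ (hxcomm y₂) y₁⁻¹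
      calc x * (y₁ * y₂) * x⁻¹ * (y₁ * y₂)⁻¹
          = x * y₁ * x⁻¹ * ((x * y₂ * x⁻¹ * y₂⁻¹) * y₁⁻¹) := by group
        _ = x * y₁ * x⁻¹ * (y₁⁻¹ * (x * y₂ * x⁻¹ * y₂⁻¹)) := by rw [hc]
        _ = _ := by group
    obtain ⟨φ, hφ⟩ : ∃ φ : G →* G, ∀ y, φ y = x * y * x⁻¹ * y⁻¹ :=
      ⟨MonoidHom.mk' (fun y => x * y * x⁻¹ * y⁻¹) hmul, fun y => rfl⟩
    have hker : ∀ y : G, y ∈ φ.ker ↔ x * y = y * x := by
      intro y
      rw [MonoidHom.mem_ker, hφ]
      constructor
      · intro h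
        have h' : x * y = (x * y * x⁻¹ * y⁻¹) * (y * x) := by group
        rw [h', h, one_mul]
      · intro h
        rw [h]; group
    have hrange : φ.range ≤ N := by
      rintro _ ⟨y, rfl⟩
      rw [hφ]; exact hxcomm y
    obtain ⟨s, hs⟩ : Nat.card φ.range ∣ p := by
      rw [← hNcard]; exact Subgroup.card_dvd_of_le hrange
    have hkercard : p ^ 3 ∣ Nat.card φ.ker := by
      have h1 : Nat.card φ.ker * φ.ker.index = Nat.card G := Subgroup.card_mul_index _
      rw [Subgroup.index_ker] at h1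
      refine ⟨k * s, ?_⟩
      have h2 : Nat.card φ.ker * p = p ^ 3 * (k * s) * p := by
        calc Nat.card φ.ker * p = (Nat.card φ.ker * Nat.card φ.range) * s := by
              rw [hs]; ring
          _ = p ^ 4 * k * s := by rw [h1, hk]
          _ = _ := by ring
      exact Nat.eq_of_mul_eq_mul_right hp.pos h2
    have hS2 : ∀ a ∈ ({z, x} : Set G), ∀ b ∈ ({z, x} : Set G), a * b = b * a := by
      intro a ha b hb
      rcases ha with ha | ha <;> rcases hb with hb | hb <;> rw [ha, hb]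
      · exact (hzcomm x).symm
      · exact hzcomm x
    by_cases hw : ∃ w : G, x * w = w * x ∧ w ∉ Subgroup.closure ({z, x} : Set G)
    · obtain ⟨w, hxw, hw⟩ := hw
      have hS3 : ∀ a ∈ ({z, x, w} : Set G), ∀ b ∈ ({z, x, w} : Set G), a * b = b * a := by
        intro a ha b hb
        rcases ha with ha | ha | ha <;> rcases hb with hb | hb | hb <;> rw [ha, hb]
        · exact (hzcomm x).symm
        · exact (hzcomm w).symm
        · exact hzcomm x
        · exact hxw
        · exact hzcomm w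
        · exact hxw.symm
      refine ⟨Subgroup.closure ({z, x, w} : Set G), ?_, closure_comm _ hS3⟩
      refine pow3_dvd_of_chain p hG N (Subgroup.closure ({z, x} : Set G)) _ ?_ ?_ ?_ x ?_ hxN w ?_ hw
      · intro hbot
        rw [hbot, Subgroup.mem_bot] at hzN
        exact hz1' hzN
      · rw [hN, Subgroup.zpowers_le]
        exact Subgroup.subset_closure (by simp)
      · apply Subgroup.closure_mono
        intro a ha
        rcases ha with ha | ha
        · rw [ha]; simp
        · rw [ha]; simp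
      · exact Subgroup.subset_closure (by simp)
      · exact Subgroup.subset_closure (by simp)
    · push Not at hw
      refine ⟨φ.ker, hkercard, ?_⟩
      intro a ha b hb
      exact closure_comm _ hS2 a (hw a ((hker a).mp ha)) b (hw b ((hker b).mp hb))

theorem main : Ab3.{u} := by
  intro X _ _ p _ P hP hexp h4
  have hexp' : ∀ x : P, x ^ p = 1 := fun x => Subtype.ext (by simpa using hexp x.1 x.2)
  obtain ⟨A', hA'card, hA'comm⟩ := exists_abelian (↥P) p hP hexp' h4
  obtain ⟨K, hK⟩ := Sylow.exists_subgroup_card_pow_prime p hA'card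
  refine ⟨(K.map A'.subtype).map P.subtype, Subgroup.map_subtype_le _, ?_, ?_⟩
  · rw [Subgroup.card_map_of_injective (Subgroup.subtype_injective P),
      Subgroup.card_map_of_injective (Subgroup.subtype_injective A'), hK]
  · rintro _ ⟨a', ha', rfl⟩ _ ⟨b', hb', rfl⟩
    have ha'' : a' ∈ A' := Subgroup.map_subtype_le K ha'
    have hb'' : b' ∈ A' := Subgroup.map_subtype_le K hb'
    have h' := hA'comm a' ha'' b' hb''
    rw [← map_mul, ← map_mul, h']

end Cfsg.Agent.Lib.Helper17.PDAB3
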