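import Mathlib
import Cfsg.Agent.Lib.Helper83.S51Stmt

/-!
# S1351 gap, piece ABAUT (helper17): a coprime automorphism of prime order of an abelian group
that is trivial on the elements of prime order is trivial.
-/

set_option autoImplicit false

namespace Cfsg.Agent.Lib.Helper17.S51ABAUT

open Cfsg Cfsg.Agent.Lib.Helper83.S51Stmt

universe u

theorem main : AbAut.{u} := by
  intro G _ _ A z q hq hab hz hzq hqA hpr a ha
  by_contra hne
  have hzn := hz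
  rw [Subgroup.mem_normalizer_iff] at hzn
  have hbA : z * a * z⁻¹ * a⁻¹ ∈ A := A.mul_mem ((hzn a).1 ha) (A.inv_mem ha)
  have hb1 : z * a * z⁻¹ * a⁻¹ ≠ 1 := by
    intro h
    apply hne
    have : z * a = (z * a * z⁻¹ * a⁻¹) * (a * z) := by group
    rw [this, h, one_mul]
  have hn1 : orderOf (z * a * z⁻¹ * a⁻¹) ≠ 1 := by rwa [Ne, orderOf_eq_one_iff]
  obtain ⟨t, ht, htd⟩ := Nat.exists_prime_and_dvd hn1
  have hpos : 0 < orderOf (z * a * z⁻¹ * a⁻¹) := orderOf_pos _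
  obtain ⟨m, hm⟩ : ∃ m : ℕ, m = orderOf (z * a * z⁻¹ * a⁻¹) / t := ⟨_, rfl⟩
  have hb't : orderOf ((z * a * z⁻¹ * a⁻¹) ^ m) = t := by
    rw [hm]; exact orderOf_pow_orderOf_div hpos.ne' htd
  have hb'A : (z * a * z⁻¹ * a⁻¹) ^ m ∈ A := A.pow_mem hbA m
  have hcomm : z * (z * a * z⁻¹ * a⁻¹) ^ m = (z * a * z⁻¹ * a⁻¹) ^ m * z :=
    hpr _ hb'A (by rw [hb't]; exact ht)
  have hc : z * a ^ m * z⁻¹ = (z * a * z⁻¹ * a⁻¹) ^ m * a ^ m := by
    have h1 : Commute (z * a * z⁻¹) a⁻¹ := hab _ ((hzn a).1 ha) _ (A.inv_mem ha)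
    have h2 : (z * a * z⁻¹ * a⁻¹) ^ m = (z * a * z⁻¹) ^ m * (a⁻¹) ^ m := h1.mul_pow m
    rw [h2, conj_pow, inv_pow]; group
  have key : ∀ i : ℕ, z ^ i * a ^ m * (z ^ i)⁻¹ = ((z * a * z⁻¹ * a⁻¹) ^ m) ^ i * a ^ m := by
    intro i
    induction i with
    | zero => simp
    | succ i ih =>
      have h1 : z ^ (i + 1) * a ^ m * (z ^ (i + 1))⁻¹ =
          z * (z ^ i * a ^ m * (z ^ i)⁻¹) * z⁻¹ := by
        rw [pow_succ']; group
      rw [h1, ih]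
      have h2 : z * (((z * a * z⁻¹ * a⁻¹) ^ m) ^ i * a ^ m) * z⁻¹ =
          (z * ((z * a * z⁻¹ * a⁻¹) ^ m) ^ i * z⁻¹) * (z * a ^ m * z⁻¹) := by group
      have h3 : z * ((z * a * z⁻¹ * a⁻¹) ^ m) ^ i * z⁻¹ = ((z * a * z⁻¹ * a⁻¹) ^ m) ^ i := by
        have hc1 : Commute z ((z * a * z⁻¹ * a⁻¹) ^ m) := hcomm
        have hc2 := (hc1.pow_right i).eq
        rw [hc2]; group
      rw [h2, h3, hc, pow_succ]
      exact (mul_assoc _ _ _).symm
  have hq1 := key q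
  rw [hzq] at hq1
  have hbq : ((z * a * z⁻¹ * a⁻¹) ^ m) ^ q = 1 := by
    have h1 : 1 * a ^ m = ((z * a * z⁻¹ * a⁻¹) ^ m) ^ q * a ^ m := by simpa using hq1
    exact (mul_right_cancel h1).symm
  have htq : t ∣ q := by rw [← hb't]; exact orderOf_dvd_of_pow_eq_one hbq
  have hteq : t = q := (Nat.prime_dvd_prime_iff_eq ht hq).1 htq
  apply hqA
  rw [← hteq, ← hb't]
  exact Subgroup.orderOf_dvd_natCard A hb'A

end Cfsg.Agent.Lib.Helper17.S51ABAUT
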